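import Mathlib

set_option autoImplicit false

/-!
The ring generated by an irreducible endomorphism of a finite abelian group is a finite field;
consequences for the order of the endomorphism and for the group normalizing it.
-/

namespace Cfsg.Agent.Lib.Helper58.IrredField

/-- A finite group of automorphisms of a field of order `p ^ d` has order dividing `d`. -/
theorem aut_card_dvd {F : Type*} [Field F] [Finite F] (p d : ℕ) (hp : p.Prime)
    (hcard : Nat.card F = p ^ d) (S : Subgroup (RingAut F)) : Nat.card S ∣ d := by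
  classical
  haveI : Finite (RingAut F) := Finite.of_injective (fun f : RingAut F => (f : F → F))
    (fun f g h => RingEquiv.ext (fun x => congrFun h x))
  haveI : Fintype S := Fintype.ofFinite S
  have h1 := FixedPoints.finrank_eq_card S F
  have h2 := Module.natCard_eq_pow_finrank (K := FixedPoints.subfield S F) (V := F)
  rw [h1, hcard] at h2
  have h3 : Nat.card (FixedPoints.subfield S F) ∣ p ^ d := by
    rw [h2]; exact dvd_pow_self _ Fintype.card_ne_zero
  obtain ⟨k, hk, hk'⟩ := (Nat.dvd_prime_pow hp).mp h3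
  rw [hk', ← pow_mul] at h2
  have h4 := Nat.pow_right_injective hp.two_le h2
  rw [Nat.card_eq_fintype_card]
  exact ⟨k, by rw [h4]; ring⟩

/-- A finite field of order `p ^ d` all of whose elements are fixed by the `i`-th power of
Frobenius has `d ≤ i`. -/
theorem frob_fix_card {F : Type*} [Field F] [Finite F] (p d i : ℕ) (hp : p.Prime)
    (hcard : Nat.card F = p ^ d) (hi : 0 < i) (hall : ∀ x : F, x ^ (p ^ i) = x) : d ≤ i := by
  classical
  haveI : Fintype F := Fintype.ofFinite _
  have hne : (Polynomial.X ^ p ^ i - Polynomial.X : Polynomial F) ≠ 0 :=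
    FiniteField.X_pow_card_pow_sub_X_ne_zero F (Nat.pos_iff_ne_zero.mp hi) hp.one_lt
  have hroots : (Finset.univ : Finset F).val ⊆
      (Polynomial.X ^ p ^ i - Polynomial.X : Polynomial F).roots := by
    intro x _
    rw [Polynomial.mem_roots hne]
    simp [hall x]
  have h5 := Polynomial.card_le_degree_of_subset_roots hroots
  rw [FiniteField.X_pow_card_pow_sub_X_natDegree_eq F (Nat.pos_iff_ne_zero.mp hi) hp.one_lt,
    Finset.card_univ, ← Nat.card_eq_fintype_card, hcard] at h5
  exact (Nat.pow_le_pow_iff_right hp.one_lt).mp h5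

section
variable {V : Type*} [AddCommGroup V]

/-- The subring of endomorphisms generated by `τ`. -/
abbrev E (τ : AddMonoid.End V) : Subring (AddMonoid.End V) := Subring.closure {τ}

instance instCommRingE (τ : AddMonoid.End V) : CommRing (E τ) :=
  { (E τ).toRing with
    mul_comm := fun a b =>
      (Subring.isMulCommutative_closure (s := ({τ} : Set (AddMonoid.End V))) (by
        intro x hx y hy
        rw [Set.mem_singleton_iff] at hx hy
        rw [hx, hy])).is_comm.comm a b }

/-- the generator as an element of `E τ` -/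
def gen (τ : AddMonoid.End V) : E τ := ⟨τ, Subring.subset_closure rfl⟩

lemma exists_apply (τ : AddMonoid.End V)
    (hirr : ∀ W : AddSubgroup V, (∀ x ∈ W, τ x ∈ W) → W = ⊥ ∨ W = ⊤)
    {v : V} (hv : v ≠ 0) (w : V) : ∃ e : E τ, (e : AddMonoid.End V) v = w := by
  let W : AddSubgroup V :=
    { carrier := {w | ∃ e : E τ, (e : AddMonoid.End V) v = w}
      zero_mem' := ⟨0, rfl⟩
      add_mem' := by
        rintro a b ⟨e, rfl⟩ ⟨f, rfl⟩
        exact ⟨e + f, rfl⟩
      neg_mem' := by
        rintro a ⟨e, rfl⟩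
        exact ⟨-e, rfl⟩ }
  have hW : ∀ x ∈ W, τ x ∈ W := by
    rintro x ⟨e, rfl⟩
    exact ⟨gen τ * e, rfl⟩
  rcases hirr W hW with h | h
  · exfalso
    apply hv
    have h1 : v ∈ W := ⟨1, rfl⟩
    rw [h] at h1
    exact h1
  · have h1 : w ∈ W := by rw [h]; trivial
    exact h1

lemma eq_zero_of_apply (τ : AddMonoid.End V)
    (hirr : ∀ W : AddSubgroup V, (∀ x ∈ W, τ x ∈ W) → W = ⊥ ∨ W = ⊤)
    (e : E τ) {v : V} (hv : v ≠ 0) (h : (e : AddMonoid.End V) v = 0) : e = 0 := by
  apply Subtype.ext
  apply AddMonoidHom.ext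
  intro w
  obtain ⟨f, rfl⟩ := exists_apply τ hirr hv w
  have hc : (e * f : E τ) = f * e := mul_comm e f
  have h1 : ((e * f : E τ) : AddMonoid.End V) v = ((f * e : E τ) : AddMonoid.End V) v := by
    rw [hc]
  calc (e : AddMonoid.End V) ((f : AddMonoid.End V) v)
      = ((e * f : E τ) : AddMonoid.End V) v := rfl
    _ = ((f * e : E τ) : AddMonoid.End V) v := h1
    _ = (f : AddMonoid.End V) ((e : AddMonoid.End V) v) := rfl
    _ = 0 := by rw [h, map_zero]

lemma card_E [Nontrivial V] (τ : AddMonoid.End V)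
    (hirr : ∀ W : AddSubgroup V, (∀ x ∈ W, τ x ∈ W) → W = ⊥ ∨ W = ⊤) :
    Nat.card (E τ) = Nat.card V := by
  obtain ⟨v, hv⟩ := exists_ne (0 : V)
  apply Nat.card_congr
  apply Equiv.ofBijective (fun e : E τ => (e : AddMonoid.End V) v)
  constructor
  · intro e f hef
    have h1 : ((e - f : E τ) : AddMonoid.End V) v = 0 := by
      show (e : AddMonoid.End V) v - (f : AddMonoid.End V) v = 0
      rw [sub_eq_zero]; exact hef
    exact sub_eq_zero.mp (eq_zero_of_apply τ hirr (e - f) hv h1)
  · intro w; exact exists_apply τ hirr hv w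

lemma isDomain_E [Nontrivial V] (τ : AddMonoid.End V)
    (hirr : ∀ W : AddSubgroup V, (∀ x ∈ W, τ x ∈ W) → W = ⊥ ∨ W = ⊤) : IsDomain (E τ) := by
  haveI : Nontrivial (E τ) := ⟨⟨0, 1, fun h => by
    obtain ⟨v, hv⟩ := exists_ne (0 : V)
    have h1 : ((0 : E τ) : AddMonoid.End V) v = ((1 : E τ) : AddMonoid.End V) v := by rw [h]
    exact hv h1.symm⟩⟩
  haveI : NoZeroDivisors (E τ) := ⟨by
    intro e f hef
    by_contra hcon
    push Not at hcon
    obtain ⟨he, hf⟩ := hcon
    have h1 : ∃ v, (f : AddMonoid.End V) v ≠ 0 := by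
      by_contra hall
      push Not at hall
      apply hf
      apply Subtype.ext
      apply AddMonoidHom.ext
      intro v
      exact hall v
    obtain ⟨v, hv⟩ := h1
    apply he
    apply eq_zero_of_apply τ hirr e hv
    have h2 : ((e * f : E τ) : AddMonoid.End V) v = ((0 : E τ) : AddMonoid.End V) v := by
      rw [hef]
    exact h2⟩
  exact NoZeroDivisors.to_isDomain _

/-- every element of `E τ` is fixed by a ring endomorphism fixing the generator -/
lemma ringHom_eq_id_of_gen (τ : AddMonoid.End V) (φ : E τ →+* E τ) (h : φ (gen τ) = gen τ)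
    (x : E τ) : φ x = x := by
  obtain ⟨x, hx⟩ := x
  induction hx using Subring.closure_induction with
  | mem y hy =>
    rw [Set.mem_singleton_iff] at hy
    subst hy
    exact h
  | zero => exact map_zero φ
  | one => exact map_one φ
  | add a b ha hb iha ihb =>
    have : (⟨a + b, add_mem ha hb⟩ : E τ) = ⟨a, ha⟩ + ⟨b, hb⟩ := rfl
    rw [this, map_add, iha, ihb]
  | neg a ha iha =>
    have : (⟨-a, neg_mem ha⟩ : E τ) = -⟨a, ha⟩ := rfl
    rw [this, map_neg, iha]
  | mul a b ha hb iha ihb =>
    have : (⟨a * b, mul_mem ha hb⟩ : E τ) = ⟨a, ha⟩ * ⟨b, hb⟩ := rfl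
    rw [this, map_mul, iha, ihb]

/-- If `τ` is irreducible on a group of order `p ^ d` and exponent `p`, and `τ ^ q = 1`, then
`q` divides no `p ^ i - 1` with `0 < i < d`. -/
theorem no_small [Finite V] (p d q i : ℕ) [hpf : Fact p.Prime] (hcard : Nat.card V = p ^ d)
    (hexp : ∀ v : V, p • v = 0) (τ : AddMonoid.End V) (hτ : τ ^ q = 1)
    (hirr : ∀ W : AddSubgroup V, (∀ x ∈ W, τ x ∈ W) → W = ⊥ ∨ W = ⊤)
    (hi : 0 < i) (hid : i < d) (hdvd : q ∣ p ^ i - 1) : False := by
  classical
  have hp := hpf.out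
  haveI : Nontrivial V := by
    rw [← Finite.one_lt_card_iff_nontrivial, hcard]
    exact Nat.one_lt_pow (by omega) hp.one_lt
  haveI := isDomain_E τ hirr
  have hcE : Nat.card (E τ) = p ^ d := by rw [card_E τ hirr, hcard]
  haveI : Finite (E τ) := Nat.finite_of_card_ne_zero (by rw [hcE]; exact (pow_pos hp.pos d).ne')
  haveI : CharP (E τ) p := by
    rw [CharP.charP_iff_prime_eq_zero hp]
    apply Subtype.ext
    apply AddMonoidHom.ext
    intro v
    have h2 : ((p : E τ) : AddMonoid.End V) = (p : AddMonoid.End V) := by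
      push_cast; rfl
    have h1 : (((p : E τ) : AddMonoid.End V)) v = p • v := by
      rw [h2]
      simp
    exact h1.trans (hexp v)
  have hgen : gen τ ^ (p ^ i) = gen τ := by
    obtain ⟨m, hm⟩ := hdvd
    have h1 : p ^ i = q * m + 1 := by
      have : 0 < p ^ i := pow_pos hp.pos i
      omega
    have h2 : gen τ ^ q = 1 := by
      apply Subtype.ext
      exact hτ
    rw [h1, pow_succ, pow_mul, h2, one_pow, one_mul]
  have hall : ∀ x : E τ, x ^ (p ^ i) = x := fun x =>
    ringHom_eq_id_of_gen τ (iterateFrobenius (E τ) p i) hgen x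
  haveI : Fintype (E τ) := Fintype.ofFinite _
  have h6 := @frob_fix_card (E τ) (Fintype.fieldOfDomain (E τ)) _ p d i hp hcE hi hall
  omega

/-- If `ρ` is a faithful action of `Γ` on a group of order `p ^ d`, and `t ∈ Γ` acts
irreducibly and generates a subgroup normalized by `Γ`, then the index of the centralizer of `t`
divides `d`. -/
theorem index_centralizer_dvd [Finite V] {Γ : Type*} [Group Γ] [Finite Γ] (p d : ℕ)
    [hpf : Fact p.Prime] (hcard : Nat.card V = p ^ d) (hd : 0 < d)
    (ρ : Γ →* AddMonoid.End V) (hinj : Function.Injective ρ) (t : Γ)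
    (hirr : ∀ W : AddSubgroup V, (∀ x ∈ W, ρ t x ∈ W) → W = ⊥ ∨ W = ⊤)
    (hnorm : ∀ h : Γ, ∃ k : ℕ, h * t * h⁻¹ = t ^ k) :
    (Subgroup.centralizer ({t} : Set Γ)).index ∣ d := by
  classical
  have hp := hpf.out
  haveI : Nontrivial V := by
    rw [← Finite.one_lt_card_iff_nontrivial, hcard]
    exact Nat.one_lt_pow (by omega) hp.one_lt
  haveI := isDomain_E (ρ t) hirr
  have hcE : Nat.card (E (ρ t)) = p ^ d := by rw [card_E (ρ t) hirr, hcard]
  haveI : Finite (E (ρ t)) :=
    Nat.finite_of_card_ne_zero (by rw [hcE]; exact (pow_pos hp.pos d).ne')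
  have hinv1 : ∀ h : Γ, ρ h⁻¹ * ρ h = 1 := fun h => by
    rw [← map_mul, inv_mul_cancel, map_one]
  have hinv2 : ∀ h : Γ, ρ h * ρ h⁻¹ = 1 := fun h => by
    rw [← map_mul, mul_inv_cancel, map_one]
  have hmulc : ∀ (h : Γ) (a b : AddMonoid.End V),
      ρ h * (a * b) * ρ h⁻¹ = (ρ h * a * ρ h⁻¹) * (ρ h * b * ρ h⁻¹) := by
    intro h a b
    calc ρ h * (a * b) * ρ h⁻¹ = ρ h * a * 1 * b * ρ h⁻¹ := by simp only [mul_assoc, one_mul]
      _ = ρ h * a * (ρ h⁻¹ * ρ h) * b * ρ h⁻¹ := by rw [hinv1]
      _ = _ := by simp only [mul_assoc]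
  have hconj : ∀ (h : Γ) (x : AddMonoid.End V), x ∈ E (ρ t) → ρ h * x * ρ h⁻¹ ∈ E (ρ t) := by
    intro h x hx
    induction hx using Subring.closure_induction with
    | mem y hy =>
      rw [Set.mem_singleton_iff] at hy
      subst hy
      obtain ⟨k, hk⟩ := hnorm h
      have h1 : ρ h * ρ t * ρ h⁻¹ = ρ t ^ k := by
        rw [← map_mul, ← map_mul, hk, map_pow]
      rw [h1]
      exact pow_mem (Subring.subset_closure (Set.mem_singleton _)) k
    | zero => rw [mul_zero, zero_mul]; exact zero_mem _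
    | one => rw [mul_one, hinv2]; exact one_mem _
    | add a b ha hb iha ihb => rw [mul_add, add_mul]; exact add_mem iha ihb
    | neg a ha iha => rw [mul_neg, neg_mul]; exact neg_mem iha
    | mul a b ha hb iha ihb => rw [hmulc]; exact mul_mem iha ihb
  let κ : Γ →* RingAut (E (ρ t)) :=
    { toFun := fun h =>
        { toFun := fun e => ⟨ρ h * e.1 * ρ h⁻¹, hconj h e.1 e.2⟩
          invFun := fun e => ⟨ρ h⁻¹ * e.1 * ρ h, by
            have := hconj h⁻¹ e.1 e.2
            rwa [inv_inv] at this⟩
          left_inv := fun e => Subtype.ext (by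
            show ρ h⁻¹ * (ρ h * e.1 * ρ h⁻¹) * ρ h = e.1
            calc ρ h⁻¹ * (ρ h * e.1 * ρ h⁻¹) * ρ h = (ρ h⁻¹ * ρ h) * e.1 * (ρ h⁻¹ * ρ h) := by
                  simp only [mul_assoc]
              _ = e.1 := by rw [hinv1, one_mul, mul_one])
          right_inv := fun e => Subtype.ext (by
            show ρ h * (ρ h⁻¹ * e.1 * ρ h) * ρ h⁻¹ = e.1
            calc ρ h * (ρ h⁻¹ * e.1 * ρ h) * ρ h⁻¹ = (ρ h * ρ h⁻¹) * e.1 * (ρ h * ρ h⁻¹) := by
                  simp only [mul_assoc]
              _ = e.1 := by rw [hinv2, one_mul, mul_one])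
          map_mul' := fun a b => Subtype.ext (hmulc h a.1 b.1)
          map_add' := fun a b => Subtype.ext (by
            show ρ h * (a.1 + b.1) * ρ h⁻¹ = ρ h * a.1 * ρ h⁻¹ + ρ h * b.1 * ρ h⁻¹
            rw [mul_add, add_mul]) }
      map_one' := by
        apply RingEquiv.ext
        intro e
        apply Subtype.ext
        show ρ 1 * e.1 * ρ 1⁻¹ = e.1
        rw [inv_one, map_one, one_mul, mul_one]
      map_mul' := fun g h => by
        apply RingEquiv.ext
        intro e
        apply Subtype.ext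
        show ρ (g * h) * e.1 * ρ (g * h)⁻¹ = ρ g * (ρ h * e.1 * ρ h⁻¹) * ρ g⁻¹
        rw [mul_inv_rev, map_mul, map_mul]
        simp only [mul_assoc] }
  have hker : κ.ker = Subgroup.centralizer ({t} : Set Γ) := by
    ext h
    rw [MonoidHom.mem_ker, Subgroup.mem_centralizer_iff]
    constructor
    · intro hh g hg
      rw [Set.mem_singleton_iff] at hg
      subst hg
      have h1 : κ h (gen (ρ g)) = gen (ρ g) := by rw [hh]; rfl
      have h2 : ρ h * ρ g * ρ h⁻¹ = ρ g := congrArg Subtype.val h1
      rw [← map_mul, ← map_mul] at h2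
      have h3 := hinj h2
      calc g * h = h * g * h⁻¹ * h := by rw [h3]
        _ = h * g := by group
    · intro hh
      have h1 : t * h = h * t := hh t rfl
      have h2 : E (ρ t) ≤ Subring.centralizer {ρ h} := by
        apply Subring.closure_le.mpr
        rw [Set.singleton_subset_iff]
        show ρ t ∈ Subring.centralizer {ρ h}
        rw [Subring.mem_centralizer_iff]
        intro g hg
        rw [Set.mem_singleton_iff] at hg
        subst hg
        rw [← map_mul, ← map_mul, h1]
      apply RingEquiv.ext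
      intro e
      apply Subtype.ext
      show ρ h * e.1 * ρ h⁻¹ = e.1
      have h3 := Subring.mem_centralizer_iff.mp (h2 e.2) (ρ h) rfl
      rw [h3, mul_assoc, hinv2, mul_one]
  rw [← hker, Subgroup.index_ker]
  haveI : Fintype (E (ρ t)) := Fintype.ofFinite _
  exact @aut_card_dvd (E (ρ t)) (Fintype.fieldOfDomain (E (ρ t))) _ p d hp hcE κ.range

end

section Mul
variable {A : Type*} [CommGroup A]

/-- An action by automorphisms, as endomorphisms of the additive group. -/
def toEnd {Γ : Type*} [Group Γ] (c : Γ →* MulAut A) : Γ →* AddMonoid.End (Additive A) where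
  toFun g := MonoidHom.toAdditive (c g).toMonoidHom
  map_one' := by rw [map_one]; rfl
  map_mul' g h := by rw [map_mul]; rfl

/-- Let `Γ` act on an elementary abelian group `A` of order `p ^ d`, and let `t ∈ Γ` with
`t ^ q = 1` act irreducibly.  Then `q` divides no `p ^ i - 1` with `0 < i < d`, and if the action
is faithful and `Γ` normalizes `⟨t⟩` then the index of the centralizer of `t` divides `d`. -/
theorem main_abstract [Finite A] {Γ : Type*} [Group Γ] [Finite Γ] (c : Γ →* MulAut A)
    (p d q : ℕ) [Fact p.Prime] (hcard : Nat.card A = p ^ d) (hexp : ∀ a : A, a ^ p = 1) (t : Γ)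
    (htq : t ^ q = 1)
    (hirr : ∀ L : Subgroup A, (∀ x ∈ L, c t x ∈ L) → L = ⊥ ∨ L = ⊤) :
    (∀ i, 0 < i → i < d → ¬ q ∣ p ^ i - 1) ∧
    (0 < d → Function.Injective c → (∀ h : Γ, ∃ k : ℕ, h * t * h⁻¹ = t ^ k) →
      (Subgroup.centralizer ({t} : Set Γ)).index ∣ d) := by
  have hirr' : ∀ W : AddSubgroup (Additive A), (∀ x ∈ W, toEnd c t x ∈ W) → W = ⊥ ∨ W = ⊤ := by
    intro W hW
    let L : Subgroup A :=
      { carrier := {a | Additive.ofMul a ∈ W}
        mul_mem' := fun {a b} ha hb => W.add_mem ha hb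
        one_mem' := W.zero_mem
        inv_mem' := fun {a} ha => W.neg_mem ha }
    rcases hirr L (fun x hx => hW _ hx) with h | h
    · left
      rw [eq_bot_iff]
      intro v hv
      have h1 : v.toMul ∈ L := hv
      rw [h, Subgroup.mem_bot] at h1
      rw [AddSubgroup.mem_bot]
      exact congrArg Additive.ofMul h1
    · right
      rw [eq_top_iff]
      intro v _
      have h1 : v.toMul ∈ L := by rw [h]; trivial
      exact h1
  have hcard' : Nat.card (Additive A) = p ^ d := hcard
  have hexp' : ∀ v : Additive A, p • v = 0 := fun v => congrArg Additive.ofMul (hexp v.toMul)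
  haveI : Finite (Additive A) := ‹Finite A›
  refine ⟨fun i hi hid hdvd => ?_, fun hd hinj hnorm => ?_⟩
  · exact no_small p d q i hcard' hexp' (toEnd c t) (by rw [← map_pow, htq, map_one]) hirr'
      hi hid hdvd
  · refine index_centralizer_dvd p d hcard' hd (toEnd c) ?_ t hirr' hnorm
    intro g h hgh
    apply hinj
    apply MulEquiv.ext
    intro a
    have h1 := congrArg (fun f : AddMonoid.End (Additive A) =>
      (DFunLike.coe f (Additive.ofMul a)).toMul) hgh
    exact h1

end Mul

end Cfsg.Agent.Lib.Helper58.IrredField
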