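import Mathlib
import Cfsg.Prelude.Def_LinearParabolics
import Cfsg.Agent.Lib.Helper58.DCoset

set_option autoImplicit false

/-!
Double cosets of block triangular subgroups of `GL_n(F)` and of Young subgroups of `S_n`:
both are classified by the same contingency tables (Bruhat decomposition).
-/

namespace Cfsg.Agent.Lib.Helper58.BruhatGL

open Matrix

variable {F : Type*} [Field F] {n : ℕ}

/-- the permutation matrix of `σ`: entry `(i, j)` is `1` iff `i = σ j` -/
def pm (F : Type*) [Field F] {n : ℕ} (σ : Equiv.Perm (Fin n)) : Matrix (Fin n) (Fin n) F :=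
  fun i j => if i = σ j then 1 else 0

theorem pm_one : pm F (1 : Equiv.Perm (Fin n)) = 1 := by
  ext i j
  by_cases h : i = j
  · subst h
    simp [pm]
  · simp [pm, h]

theorem mul_pm (g : Matrix (Fin n) (Fin n) F) (τ : Equiv.Perm (Fin n)) (i j : Fin n) :
    (g * pm F τ) i j = g i (τ j) := by
  rw [Matrix.mul_apply, Finset.sum_eq_single (τ j)]
  · simp [pm]
  · intro k _ hk
    simp [pm, hk]
  · intro h
    exact absurd (Finset.mem_univ _) h

theorem pm_mul (g : Matrix (Fin n) (Fin n) F) (σ : Equiv.Perm (Fin n)) (i j : Fin n) :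
    (pm F σ * g) i j = g (σ⁻¹ i) j := by
  rw [Matrix.mul_apply, Finset.sum_eq_single (σ⁻¹ i)]
  · simp [pm]
  · intro k _ hk
    have : i ≠ σ k := by
      intro h
      apply hk
      rw [h]
      simp
    simp [pm, this]
  · intro h
    exact absurd (Finset.mem_univ _) h

theorem pm_mul_pm (σ τ : Equiv.Perm (Fin n)) :
    pm F (σ * τ) = pm F σ * pm F τ := by
  ext i j
  rw [mul_pm]
  rfl

/-- permutation matrices as a homomorphism to matrices -/
def pmHom (F : Type*) [Field F] (n : ℕ) : Equiv.Perm (Fin n) →* Matrix (Fin n) (Fin n) F where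
  toFun := pm F
  map_one' := pm_one
  map_mul' := pm_mul_pm

/-- permutation matrices as a homomorphism to the general linear group -/
def pg (F : Type*) [Field F] (n : ℕ) : Equiv.Perm (Fin n) →* GL (Fin n) F := (pmHom F n).toHomUnits

theorem coe_pg (σ : Equiv.Perm (Fin n)) :
    ((pg F n σ : GL (Fin n) F) : Matrix (Fin n) (Fin n) F) = pm F σ :=
  rfl

/-- the block triangular subgroup for an arbitrary labelling -/
def parab (F : Type*) [Field F] {n : ℕ} (b : Fin n → ℕ) : Subgroup (GL (Fin n) F) where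
  carrier := {g | (g : Matrix (Fin n) (Fin n) F).BlockTriangular b}
  mul_mem' := fun {a} {c} ha hc => by
    change ((a : Matrix (Fin n) (Fin n) F) * (c : Matrix (Fin n) (Fin n) F)).BlockTriangular b
    exact Matrix.BlockTriangular.mul ha hc
  one_mem' := by
    change (1 : Matrix (Fin n) (Fin n) F).BlockTriangular b
    exact Matrix.blockTriangular_one
  inv_mem' := fun {a} ha => by
    change ((a⁻¹ : GL (Fin n) F) : Matrix (Fin n) (Fin n) F).BlockTriangular b
    have : Invertible (a : Matrix (Fin n) (Fin n) F) := a.invertible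
    rw [Matrix.coe_units_inv]
    exact Matrix.blockTriangular_inv_of_blockTriangular ha

theorem mem_parab {b : Fin n → ℕ} {g : GL (Fin n) F} :
    g ∈ parab F b ↔ (g : Matrix (Fin n) (Fin n) F).BlockTriangular b := Iff.rfl

/-- the Young subgroup for an arbitrary labelling -/
def young {n : ℕ} (b : Fin n → ℕ) : Subgroup (Equiv.Perm (Fin n)) where
  carrier := {σ | ∀ i, b (σ i) = b i}
  mul_mem' := fun {a} {c} ha hc i => by
    change b (a (c i)) = b i
    rw [ha, hc]
  one_mem' := fun _ => rfl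
  inv_mem' := fun {a} ha i => by
    have h := ha (a⁻¹ i)
    have e : a (a⁻¹ i) = i := by simp
    rw [e] at h
    exact h.symm

theorem mem_young {b : Fin n → ℕ} {σ : Equiv.Perm (Fin n)} :
    σ ∈ young b ↔ ∀ i, b (σ i) = b i := Iff.rfl

theorem parabolicGL_eq (μ : Fin n → ℕ) : Cfsg.parabolicGL n F μ = parab F (Cfsg.compLabel μ) :=
  Subgroup.ext fun _ => Iff.rfl

theorem youngSubgroup_eq (μ : Fin n → ℕ) : Cfsg.youngSubgroup μ = young (Cfsg.compLabel μ) :=
  Subgroup.ext fun _ => Iff.rfl

theorem pg_mem_parab {b : Fin n → ℕ} {σ : Equiv.Perm (Fin n)} (h : σ ∈ young b) :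
    pg F n σ ∈ parab F b := by
  rw [mem_parab, coe_pg]
  intro i j hij
  show (if i = σ j then (1 : F) else 0) = 0
  rw [if_neg]
  rintro rfl
  rw [h j] at hij
  exact lt_irrefl _ hij

theorem parab_mono {b : Fin n → ℕ} (hb : Monotone b) :
    parab F (fun i : Fin n => (i : ℕ)) ≤ parab F b := by
  intro g hg
  rw [mem_parab] at hg ⊢
  intro i j hij
  apply hg
  show (j : ℕ) < (i : ℕ)
  by_contra hcon
  push Not at hcon
  have : i ≤ j := hcon
  exact absurd (hb this) (not_le.2 hij)

/-- an invertible matrix has a nowhere vanishing generalised diagonal -/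
theorem exists_perm_ne_zero (g : Matrix (Fin n) (Fin n) F) (hg : g.det ≠ 0) :
    ∃ θ : Equiv.Perm (Fin n), ∀ k, g (θ k) k ≠ 0 := by
  by_contra hcon
  push Not at hcon
  apply hg
  rw [Matrix.det_apply]
  apply Finset.sum_eq_zero
  intro θ _
  obtain ⟨k, hk⟩ := hcon θ
  rw [Finset.prod_eq_zero (f := fun i => g (θ i) i) (Finset.mem_univ k) hk, smul_zero]

theorem perm_le_imp_eq (b : Fin n → ℕ) (θ : Equiv.Perm (Fin n)) (h : ∀ k, b (θ k) ≤ b k) :
    ∀ k, b (θ k) = b k := by
  have hs : ∑ k, b (θ k) = ∑ k, b k := Equiv.sum_comp θ b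
  have := (Finset.sum_eq_sum_iff_of_le (fun k _ => h k)).1 hs
  intro k
  exact this k (Finset.mem_univ k)

theorem det_ne_zero_of_GL (g : GL (Fin n) F) : (g : Matrix (Fin n) (Fin n) F).det ≠ 0 := by
  have h := (Matrix.isUnit_iff_isUnit_det (g : Matrix (Fin n) (Fin n) F)).1 g.isUnit
  exact h.ne_zero

/-- if permutation matrices are related by block triangular matrices, the permutations are
related by the Young subgroups -/
theorem perm_of_mul_eq (b c : Fin n → ℕ) (q q' : GL (Fin n) F) (hq : q ∈ parab F b)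
    (hq' : q' ∈ parab F c) (σ τ : Equiv.Perm (Fin n)) (h : q * pg F n τ = pg F n σ * q') :
    ∃ θ ∈ young b, ∃ π ∈ young c, τ = θ⁻¹ * σ * π := by
  obtain ⟨θ, hθ⟩ := exists_perm_ne_zero (q : Matrix (Fin n) (Fin n) F) (det_ne_zero_of_GL q)
  have hentry : ∀ i j, (q : Matrix (Fin n) (Fin n) F) i (τ j)
      = (q' : Matrix (Fin n) (Fin n) F) (σ⁻¹ i) j := by
    intro i j
    have h1 := congrArg (fun x : GL (Fin n) F => (x : Matrix (Fin n) (Fin n) F) i j) h
    simp only [Units.val_mul, coe_pg] at h1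
    rw [mul_pm, pm_mul] at h1
    exact h1
  have hθb : θ ∈ young b := by
    rw [mem_young]
    apply perm_le_imp_eq
    intro k
    by_contra hcon
    push Not at hcon
    exact hθ k (hq hcon)
  have hπc : σ⁻¹ * θ * τ ∈ young c := by
    rw [mem_young]
    apply perm_le_imp_eq
    intro j
    by_contra hcon
    push Not at hcon
    have h1 := hθ (τ j)
    rw [hentry] at h1
    apply h1
    exact hq' hcon
  refine ⟨θ, hθb, σ⁻¹ * θ * τ, hπc, ?_⟩
  group

/-- the contingency table of a permutation with respect to two labellings -/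
noncomputable def tab (b c : Fin n → ℕ) (σ : Equiv.Perm (Fin n)) : ℕ → ℕ → ℕ :=
  fun s t => Nat.card {j : Fin n // c j = t ∧ b (σ j) = s}

theorem tab_inv (b c : Fin n → ℕ) {ρ π : Equiv.Perm (Fin n)} (hρ : ρ ∈ young b)
    (hπ : π ∈ young c) (σ : Equiv.Perm (Fin n)) : tab b c (ρ * σ * π) = tab b c σ := by
  funext s t
  unfold tab
  apply Nat.card_congr
  refine Equiv.subtypeEquiv π ?_
  intro j
  have h1 : (ρ * σ * π) j = ρ (σ (π j)) := rfl
  rw [h1, hρ (σ (π j)), hπ j]

theorem exists_equiv_of_fiber_card' {α β X : Type*} [Finite α] [Finite β] (t : α → X)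
    (t' : β → X) (h : ∀ x, Nat.card {a // t a = x} = Nat.card {b // t' b = x}) :
    ∃ σ : α ≃ β, ∀ a, t' (σ a) = t a := by
  have h' : ∀ x, Nonempty ({a // t a = x} ≃ {b // t' b = x}) := fun x => Finite.card_eq.1 (h x)
  let ε : ∀ x, {a // t a = x} ≃ {b // t' b = x} := fun x => Classical.choice (h' x)
  refine ⟨(Equiv.sigmaFiberEquiv t).symm.trans
    ((Equiv.sigmaCongrRight ε).trans (Equiv.sigmaFiberEquiv t')), ?_⟩
  intro a
  exact (ε (t a) ⟨a, rfl⟩).2

theorem tab_complete (b c : Fin n → ℕ) (σ τ : Equiv.Perm (Fin n)) (h : tab b c σ = tab b c τ) :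
    ∃ ρ ∈ young b, ∃ π ∈ young c, τ = ρ * σ * π := by
  obtain ⟨e, he⟩ := exists_equiv_of_fiber_card' (fun j : Fin n => (b (σ j), c j))
    (fun j : Fin n => (b (τ j), c j)) (by
      rintro ⟨s, t⟩
      have h1 := congrFun (congrFun h s) t
      unfold tab at h1
      have e1 : Nat.card {j : Fin n // (b (σ j), c j) = (s, t)}
          = Nat.card {j : Fin n // c j = t ∧ b (σ j) = s} :=
        Nat.card_congr (Equiv.subtypeEquivRight (fun j => by rw [Prod.mk.injEq, and_comm]))
      have e2 : Nat.card {j : Fin n // (b (τ j), c j) = (s, t)}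
          = Nat.card {j : Fin n // c j = t ∧ b (τ j) = s} :=
        Nat.card_congr (Equiv.subtypeEquivRight (fun j => by rw [Prod.mk.injEq, and_comm]))
      rw [e1, e2, h1])
  have he1 : ∀ j, b (τ (e j)) = b (σ j) := fun j => (Prod.mk.injEq _ _ _ _ ▸ he j).1
  have he2 : ∀ j, c (e j) = c j := fun j => (Prod.mk.injEq _ _ _ _ ▸ he j).2
  have hec : (e : Equiv.Perm (Fin n)) ∈ young c := he2
  refine ⟨τ * e * σ⁻¹, ?_, e⁻¹, (young c).inv_mem hec, ?_⟩
  · rw [mem_young]
    intro i
    have : (τ * e * σ⁻¹) i = τ (e (σ⁻¹ i)) := rfl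
    rw [this, he1]
    simp
  · group

/-- the symmetric group side: the inner product of two Young permutation characters counts
contingency tables -/
theorem sym_count (b c : Fin n → ℕ) :
    (Nat.card (Equiv.Perm (Fin n)) : ℂ)⁻¹ * ∑ σ : Equiv.Perm (Fin n),
        Cfsg.fixedPointCharacter (young b) σ * Cfsg.fixedPointCharacter (young c) σ
      = (Nat.card (Set.range (tab b c)) : ℂ) := by
  apply DCoset.dc_count
  · intro h hh k hk x
    exact tab_inv b c hh hk x
  · intro x y hxy
    exact tab_complete b c x y hxy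

/-- the elimination process behind the Bruhat decomposition: after `m` steps the first `m`
columns have pivots in distinct rows `s j` and vanish on all rows not used so far -/
theorem bruhat_aux (g : Matrix (Fin n) (Fin n) F) (hg : g.det ≠ 0) :
    ∀ m : ℕ, m ≤ n → ∃ (u : Matrix (Fin n) (Fin n) F) (s : Fin n → Fin n),
      u.BlockTriangular (fun i : Fin n => (i : ℕ)) ∧ u.det ≠ 0 ∧
      (∀ j k : Fin n, (j : ℕ) < m → (k : ℕ) < m → s j = s k → j = k) ∧
      (∀ j : Fin n, (j : ℕ) < m → ∀ i : Fin n, (∀ k : Fin n, k ≤ j → s k ≠ i) →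
        (u * g) i j = 0) := by
  intro m
  induction m with
  | zero =>
    intro _
    refine ⟨1, id, Matrix.blockTriangular_one, by simp, ?_, ?_⟩
    · intro j k hj
      omega
    · intro j hj
      omega
  | succ m ih =>
    intro hm
    classical
    obtain ⟨u, s, hu, hdu, hinj, hz⟩ := ih (by omega)
    obtain ⟨h, hh⟩ : ∃ h, h = u * g := ⟨_, rfl⟩
    rw [← hh] at hz
    have hdh : h.det ≠ 0 := by
      rw [hh, Matrix.det_mul]
      exact mul_ne_zero hdu hg
    obtain ⟨jm, hjm⟩ : ∃ jm : Fin n, (jm : ℕ) = m := ⟨⟨m, by omega⟩, rfl⟩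
    have hfree : ∃ i : Fin n, (∀ k : Fin n, (k : ℕ) < m → s k ≠ i) ∧ h i jm ≠ 0 := by
      by_contra hcon
      push Not at hcon
      apply hdh
      rw [Matrix.det_apply]
      apply Finset.sum_eq_zero
      intro θ _
      have hcard : ((Finset.Iio jm).image s).card < ((Finset.Iic jm).image θ).card := by
        rw [Finset.card_image_of_injective _ θ.injective, Fin.card_Iic]
        calc ((Finset.Iio jm).image s).card ≤ (Finset.Iio jm).card := Finset.card_image_le
          _ = (jm : ℕ) := Fin.card_Iio jm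
          _ < (jm : ℕ) + 1 := Nat.lt_succ_self _
      obtain ⟨x, hx1, hx2⟩ := Finset.exists_mem_notMem_of_card_lt_card hcard
      obtain ⟨j, hj, rfl⟩ := Finset.mem_image.1 hx1
      have hj' : (j : ℕ) ≤ m := by
        have : j ≤ jm := Finset.mem_Iic.1 hj
        have : (j : ℕ) ≤ (jm : ℕ) := this
        omega
      have hfr : ∀ k : Fin n, (k : ℕ) < m → s k ≠ θ j := by
        intro k hk hsk
        apply hx2
        refine Finset.mem_image.2 ⟨k, Finset.mem_Iio.2 ?_, hsk⟩
        show (k : ℕ) < (jm : ℕ)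
        omega
      have hzero : h (θ j) j = 0 := by
        rcases Nat.lt_or_ge (j : ℕ) m with hlt | hge
        · apply hz j hlt
          intro k hk
          have hk' : (k : ℕ) ≤ (j : ℕ) := hk
          exact hfr k (by omega)
        · have hjeq : j = jm := Fin.ext (by omega)
          rw [hjeq] at hfr ⊢
          exact hcon (θ jm) hfr
      rw [Finset.prod_eq_zero (f := fun i => h (θ i) i) (Finset.mem_univ j) hzero, smul_zero]
    obtain ⟨S, hSdef⟩ : ∃ S : Finset (Fin n), S = Finset.univ.filter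
        (fun i => (∀ k : Fin n, (k : ℕ) < m → s k ≠ i) ∧ h i jm ≠ 0) := ⟨_, rfl⟩
    have hS : S.Nonempty := by
      obtain ⟨i, hi⟩ := hfree
      exact ⟨i, by rw [hSdef]; exact Finset.mem_filter.2 ⟨Finset.mem_univ _, hi⟩⟩
    obtain ⟨i0, hi0⟩ : ∃ i0, i0 = S.max' hS := ⟨_, rfl⟩
    have hi0S : i0 ∈ S := by
      rw [hi0]
      exact Finset.max'_mem S hS
    rw [hSdef] at hi0S
    have hi0fr : ∀ k : Fin n, (k : ℕ) < m → s k ≠ i0 := (Finset.mem_filter.1 hi0S).2.1
    have hi0ne : h i0 jm ≠ 0 := (Finset.mem_filter.1 hi0S).2.2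
    have hmax : ∀ i : Fin n, (∀ k : Fin n, (k : ℕ) < m → s k ≠ i) → i0 < i → h i jm = 0 := by
      intro i hi hlt
      by_contra hne
      have h1 : i ∈ S := by
        rw [hSdef]
        exact Finset.mem_filter.2 ⟨Finset.mem_univ _, hi, hne⟩
      have h2 := Finset.le_max' S i h1
      rw [← hi0] at h2
      exact absurd hlt (not_lt.2 h2)
    obtain ⟨E, hE⟩ : ∃ E : Matrix (Fin n) (Fin n) F, ∀ i k, E i k =
        if k = i0 ∧ i < i0 ∧ (∀ k' : Fin n, (k' : ℕ) < m → s k' ≠ i)
          then -(h i jm / h i0 jm) else 0 := ⟨fun i k => _, fun i k => rfl⟩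
    have hEmul : ∀ i j, (E * h) i j =
        if i < i0 ∧ (∀ k' : Fin n, (k' : ℕ) < m → s k' ≠ i)
          then -(h i jm / h i0 jm) * h i0 j else 0 := by
      intro i j
      rw [Matrix.mul_apply, Finset.sum_eq_single i0]
      · rw [hE]
        by_cases hc : i < i0 ∧ (∀ k' : Fin n, (k' : ℕ) < m → s k' ≠ i)
        · rw [if_pos ⟨rfl, hc⟩, if_pos hc]
        · have : ¬ (i0 = i0 ∧ i < i0 ∧ (∀ k' : Fin n, (k' : ℕ) < m → s k' ≠ i)) :=
            fun hx => hc hx.2
          rw [if_neg this, if_neg hc, zero_mul]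
      · intro k _ hk
        have : ¬ (k = i0 ∧ i < i0 ∧ (∀ k' : Fin n, (k' : ℕ) < m → s k' ≠ i)) :=
          fun hx => hk hx.1
        rw [hE, if_neg this, zero_mul]
      · intro hx
        exact absurd (Finset.mem_univ _) hx
    have hEtri : E.BlockTriangular (fun i : Fin n => (i : ℕ)) := by
      intro i k hik
      rw [hE, if_neg]
      rintro ⟨rfl, hlt, _⟩
      have h1 : (i : ℕ) < (k : ℕ) := hlt
      have h2 : (k : ℕ) < (i : ℕ) := hik
      omega
    have hEdiag : ∀ i, E i i = 0 := by
      intro i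
      rw [hE, if_neg]
      rintro ⟨rfl, hlt, _⟩
      exact lt_irrefl _ hlt
    have hu1tri : (1 + E).BlockTriangular (fun i : Fin n => (i : ℕ)) :=
      Matrix.blockTriangular_one.add hEtri
    have hu1det : (1 + E).det = 1 := by
      have hid : (1 + E).BlockTriangular id := fun i j hij => hu1tri hij
      rw [Matrix.det_of_upperTriangular hid]
      apply Finset.prod_eq_one
      intro i _
      rw [Matrix.add_apply, Matrix.one_apply_eq, hEdiag, add_zero]
    have hlt_of_ne : ∀ j : Fin n, (j : ℕ) < m + 1 → j ≠ jm → (j : ℕ) < m := by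
      intro j hj hne
      have : (j : ℕ) ≠ m := fun hx => hne (Fin.ext (by omega))
      omega
    refine ⟨(1 + E) * u, Function.update s jm i0, hu1tri.mul hu, ?_, ?_, ?_⟩
    · rw [Matrix.det_mul, hu1det, one_mul]
      exact hdu
    · intro j k hj hk hjk
      by_cases hjm' : j = jm
      · by_cases hkm : k = jm
        · rw [hjm', hkm]
        · exfalso
          rw [hjm', Function.update_self, Function.update_of_ne hkm] at hjk
          exact hi0fr k (hlt_of_ne k hk hkm) hjk.symm
      · by_cases hkm : k = jm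
        · exfalso
          rw [hkm, Function.update_self, Function.update_of_ne hjm'] at hjk
          exact hi0fr j (hlt_of_ne j hj hjm') hjk
        · rw [Function.update_of_ne hjm', Function.update_of_ne hkm] at hjk
          exact hinj j k (hlt_of_ne j hj hjm') (hlt_of_ne k hk hkm) hjk
    · intro j hj i hi
      have hmul : ((1 + E) * u * g) i j = h i j + (E * h) i j := by
        rw [Matrix.mul_assoc, ← hh, Matrix.add_mul, Matrix.one_mul, Matrix.add_apply]
      rw [hmul, hEmul]
      by_cases hjm' : j = jm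
      · rw [hjm'] at hi ⊢
        have hfri : ∀ k : Fin n, (k : ℕ) < m → s k ≠ i := by
          intro k hk
          have hkne : k ≠ jm := fun hx => by rw [hx] at hk; omega
          have hkle : k ≤ jm := by
            show (k : ℕ) ≤ (jm : ℕ)
            omega
          have := hi k hkle
          rwa [Function.update_of_ne hkne] at this
        have hne : i0 ≠ i := by
          have := hi jm le_rfl
          rwa [Function.update_self] at this
        by_cases hlt : i < i0
        · rw [if_pos ⟨hlt, hfri⟩]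
          field_simp
          ring
        · have hgt : i0 < i := lt_of_le_of_ne (not_lt.1 hlt) hne
          have : ¬ (i < i0 ∧ (∀ k' : Fin n, (k' : ℕ) < m → s k' ≠ i)) := fun hx => hlt hx.1
          rw [if_neg this, add_zero]
          exact hmax i hfri hgt
      · have hj' : (j : ℕ) < m := hlt_of_ne j hj hjm'
        have h1 : h i j = 0 := by
          apply hz j hj'
          intro k hk
          have hkne : k ≠ jm := fun hx => by
            rw [hx] at hk
            have : (jm : ℕ) ≤ (j : ℕ) := hk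
            omega
          have := hi k hk
          rwa [Function.update_of_ne hkne] at this
        have h2 : h i0 j = 0 := by
          apply hz j hj'
          intro k hk
          have : (k : ℕ) ≤ (j : ℕ) := hk
          exact hi0fr k (by omega)
        rw [h1, h2]
        simp

theorem bruhat_matrix (g : Matrix (Fin n) (Fin n) F) (hg : g.det ≠ 0) :
    ∃ (u : Matrix (Fin n) (Fin n) F) (σ : Equiv.Perm (Fin n)),
      u.BlockTriangular (fun i : Fin n => (i : ℕ)) ∧ u.det ≠ 0 ∧
      ∀ k j : Fin n, j < k → (u * g) (σ k) j = 0 := by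
  obtain ⟨u, s, hu, hdu, hinj, hz⟩ := bruhat_aux g hg n le_rfl
  have hsinj : Function.Injective s := fun j k hjk => hinj j k j.2 k.2 hjk
  have hsbij : Function.Bijective s := Finite.injective_iff_bijective.1 hsinj
  refine ⟨u, Equiv.ofBijective s hsbij, hu, hdu, ?_⟩
  intro k j hjk
  apply hz j j.2
  intro k' hk' heq
  have h1 : s k' = s k := heq
  have h2 : k' = k := hsinj h1
  rw [h2] at hk'
  exact absurd hjk (not_lt.2 hk')

/-- Bruhat decomposition of the general linear group -/
theorem bruhat (g : GL (Fin n) F) :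
    ∃ (u u' : GL (Fin n) F) (σ : Equiv.Perm (Fin n)),
      u ∈ parab F (fun i : Fin n => (i : ℕ)) ∧ u' ∈ parab F (fun i : Fin n => (i : ℕ)) ∧
      g = u * pg F n σ * u' := by
  obtain ⟨u, σ, hu, hdu, hz⟩ :=
    bruhat_matrix (g : Matrix (Fin n) (Fin n) F) (det_ne_zero_of_GL g)
  obtain ⟨U, hU⟩ : ∃ U : GL (Fin n) F, (U : Matrix (Fin n) (Fin n) F) = u :=
    ⟨Matrix.GeneralLinearGroup.mkOfDetNeZero u hdu, rfl⟩
  refine ⟨U⁻¹, (pg F n σ)⁻¹ * U * g, σ, ?_, ?_, ?_⟩
  · apply (parab F _).inv_mem
    rw [mem_parab, hU]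
    exact hu
  · rw [mem_parab]
    intro k j hjk
    have h1 : (((pg F n σ)⁻¹ * U * g : GL (Fin n) F) : Matrix (Fin n) (Fin n) F)
        = pm F σ⁻¹ * (u * (g : Matrix (Fin n) (Fin n) F)) := by
      rw [← map_inv, Units.val_mul, Units.val_mul, coe_pg, hU, Matrix.mul_assoc]
    rw [h1, pm_mul, inv_inv]
    exact hz k j hjk
  · group

theorem exists_decomp {b c : Fin n → ℕ} (hb : Monotone b) (hc : Monotone c)
    (g : GL (Fin n) F) :
    ∃ σ : Equiv.Perm (Fin n), ∃ u ∈ parab F b, ∃ u' ∈ parab F c, g = u * pg F n σ * u' := by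
  obtain ⟨u, u', σ, hu, hu', h⟩ := bruhat g
  exact ⟨σ, u, parab_mono hb hu, u', parab_mono hc hu', h⟩

theorem tab_eq_of_rel (b c : Fin n → ℕ) {u w p u' w' p' : GL (Fin n) F}
    (hu : u ∈ parab F b) (hw : w ∈ parab F b) (hp : p ∈ parab F b)
    (hu' : u' ∈ parab F c) (hw' : w' ∈ parab F c) (hp' : p' ∈ parab F c)
    (σ τ : Equiv.Perm (Fin n))
    (h : w * pg F n τ * w' = p * (u * pg F n σ * u') * p') : tab b c τ = tab b c σ := by
  have h1 : w * pg F n τ = p * (u * pg F n σ * u') * p' * w'⁻¹ := by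
    rw [← h]
    group
  have h2 : ((p * u)⁻¹ * w) * pg F n τ = pg F n σ * (u' * p' * w'⁻¹) := by
    rw [mul_assoc, h1]
    group
  obtain ⟨θ, hθ, π, hπ, hτ⟩ := perm_of_mul_eq b c _ _
    ((parab F b).mul_mem ((parab F b).inv_mem ((parab F b).mul_mem hp hu)) hw)
    ((parab F c).mul_mem ((parab F c).mul_mem hu' hp') ((parab F c).inv_mem hw')) σ τ h2
  rw [hτ]
  exact tab_inv b c ((young b).inv_mem hθ) hπ σ

/-- the general linear side: the inner product of two flag permutation characters counts the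
same contingency tables -/
theorem gl_count [Fintype (GL (Fin n) F)] {b c : Fin n → ℕ} (hb : Monotone b)
    (hc : Monotone c) :
    (Nat.card (GL (Fin n) F) : ℂ)⁻¹ * ∑ g : GL (Fin n) F,
        Cfsg.fixedPointCharacter (parab F b) g * Cfsg.fixedPointCharacter (parab F c) g
      = (Nat.card (Set.range (tab b c)) : ℂ) := by
  classical
  choose sg ug hug ug' hug' hsg using exists_decomp (F := F) hb hc
  have hrange : Set.range (fun g : GL (Fin n) F => tab b c (sg g)) = Set.range (tab b c) := by
    ext t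
    constructor
    · rintro ⟨g, rfl⟩
      exact ⟨sg g, rfl⟩
    · rintro ⟨σ, rfl⟩
      refine ⟨pg F n σ, ?_⟩
      show tab b c (sg (pg F n σ)) = tab b c σ
      apply tab_eq_of_rel b c (u := 1) (u' := 1) (p := 1) (p' := 1)
        (w := ug (pg F n σ)) (w' := ug' (pg F n σ)) (one_mem _) (hug _) (one_mem _)
        (one_mem _) (hug' _) (one_mem _)
      rw [← hsg]
      group
  rw [← hrange]
  refine DCoset.dc_count (parab F b) (parab F c) (fun g => tab b c (sg g)) ?_ ?_
  · intro p hp p' hp' g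
    show tab b c (sg (p * g * p')) = tab b c (sg g)
    apply tab_eq_of_rel b c (hug g) (hug (p * g * p')) hp (hug' g) (hug' _) hp'
    rw [← hsg, ← hsg]
  · intro g g' hgg
    obtain ⟨ρ, hρ, π, hπ, hτ⟩ := tab_complete b c _ _ hgg
    refine ⟨ug g' * pg F n ρ * (ug g)⁻¹, ?_, (ug' g)⁻¹ * pg F n π * ug' g', ?_, ?_⟩
    · exact (parab F b).mul_mem ((parab F b).mul_mem (hug g') (pg_mem_parab hρ))
        ((parab F b).inv_mem (hug g))
    · exact (parab F c).mul_mem ((parab F c).mul_mem ((parab F c).inv_mem (hug' g))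
        (pg_mem_parab hπ)) (hug' g')
    · have key : ug g' * pg F n ρ * (ug g)⁻¹ * (ug g * pg F n (sg g) * ug' g)
          * ((ug' g)⁻¹ * pg F n π * ug' g') = ug g' * pg F n (sg g') * ug' g' := by
        rw [hτ, map_mul, map_mul]
        group
      rw [← hsg g, ← hsg g'] at key
      exact key.symm

theorem compLabel_mono (μ : Fin n → ℕ) : Monotone (Cfsg.compLabel μ) := by
  intro i i' hii
  unfold Cfsg.compLabel
  apply Finset.card_le_card
  intro j hj
  rw [Finset.mem_filter] at hj ⊢
  refine ⟨hj.1, le_trans hj.2 ?_⟩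
  exact hii

/-- the comparison of flag characters of `GL_n(q)` with Young characters of `S_n`, for
arbitrary compositions -/
theorem gl_eq_sym [Fintype (GL (Fin n) F)] (ν μ : Fin n → ℕ) :
    (Nat.card (GL (Fin n) F) : ℂ)⁻¹ * ∑ g : GL (Fin n) F,
        Cfsg.fixedPointCharacter (Cfsg.parabolicGL n F ν) g *
          Cfsg.fixedPointCharacter (Cfsg.parabolicGL n F μ) g =
      (Nat.card (Equiv.Perm (Fin n)) : ℂ)⁻¹ * ∑ σ : Equiv.Perm (Fin n),
        Cfsg.fixedPointCharacter (Cfsg.youngSubgroup ν) σ *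
          Cfsg.fixedPointCharacter (Cfsg.youngSubgroup μ) σ := by
  rw [parabolicGL_eq, parabolicGL_eq, youngSubgroup_eq, youngSubgroup_eq,
    gl_count (compLabel_mono ν) (compLabel_mono μ), sym_count]

end Cfsg.Agent.Lib.Helper58.BruhatGL
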