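import Mathlib
import Cfsg.Prelude.Def_ParabolicCharacters
import Cfsg.Agent.Lib.Helper58.DCoset

set_option autoImplicit false

/-!
Counting orbits on pairs of cosets for a group acting through a homomorphism whose image,
together with the stabilisers, covers the big group.
-/

namespace Cfsg.Agent.Lib.Helper58.DCoset

open MulAction

variable {X : Type*} [Group X]

/-- the inner product over `S` of the restrictions of two permutation characters of `X` is
again the number of values of a complete double coset invariant, if stabilisers of pairs of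
cosets cover `X` modulo the image of `S` -/
theorem dc_count_hom {S : Type*} [Group S] [Fintype S] [Finite X] (ι : S →* X)
    (H K : Subgroup X) {T : Type*} (r : X → T)
    (ha : ∀ h ∈ H, ∀ k ∈ K, ∀ x, r (h * x * k) = r x)
    (hb : ∀ x y, r x = r y → ∃ h ∈ H, ∃ k ∈ K, y = h * x * k)
    (hc : ∀ x w z : X, ∃ s : S, ∃ h ∈ H, ∃ k ∈ K, ι s = z * (w * h * w⁻¹) ∧ h * x * k = x) :
    (Nat.card S : ℂ)⁻¹ * ∑ s : S,
        Cfsg.fixedPointCharacter H (ι s) * Cfsg.fixedPointCharacter K (ι s)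
      = (Nat.card (Set.range r) : ℂ) := by
  classical
  haveI : Finite S := Finite.of_fintype S
  letI : MulAction S ((X ⧸ H) × (X ⧸ K)) := MulAction.compHom ((X ⧸ H) × (X ⧸ K)) ι
  have hsmul : ∀ (s : S) (ω : (X ⧸ H) × (X ⧸ K)), s • ω = ι s • ω := fun s ω => rfl
  let inv : (X ⧸ H) × (X ⧸ K) → T := fun ω => r ((ω.1.out)⁻¹ * ω.2.out)
  have hmk : ∀ x y : X, inv ((QuotientGroup.mk x : X ⧸ H), (QuotientGroup.mk y : X ⧸ K))
      = r (x⁻¹ * y) := by
    intro x y
    obtain ⟨h, hh⟩ := QuotientGroup.mk_out_eq_mul H x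
    obtain ⟨k, hk⟩ := QuotientGroup.mk_out_eq_mul K y
    show r (((QuotientGroup.mk x : X ⧸ H).out)⁻¹ * (QuotientGroup.mk y : X ⧸ K).out) = _
    rw [hh, hk]
    have : (x * (h : X))⁻¹ * (y * (k : X)) = (h : X)⁻¹ * (x⁻¹ * y) * (k : X) := by group
    rw [this]
    exact ha _ (H.inv_mem h.2) _ k.2 _
  have hrep : ∀ ω : (X ⧸ H) × (X ⧸ K), ∃ x y : X,
      ω = ((QuotientGroup.mk x : X ⧸ H), (QuotientGroup.mk y : X ⧸ K)) := by
    intro ω
    exact ⟨ω.1.out, ω.2.out, Prod.ext (QuotientGroup.out_eq' _).symm (QuotientGroup.out_eq' _).symm⟩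
  have hinv : ∀ (z : X) (ω : (X ⧸ H) × (X ⧸ K)), inv (z • ω) = inv ω := by
    intro z ω
    obtain ⟨x, y, rfl⟩ := hrep ω
    have : z • ((QuotientGroup.mk x : X ⧸ H), (QuotientGroup.mk y : X ⧸ K))
        = ((QuotientGroup.mk (z * x) : X ⧸ H), (QuotientGroup.mk (z * y) : X ⧸ K)) := rfl
    rw [this, hmk, hmk]
    congr 1
    group
  have hcomp : ∀ ω ω' : (X ⧸ H) × (X ⧸ K), inv ω = inv ω' → ∃ z : X, z • ω = ω' := by
    intro ω ω' h
    obtain ⟨x, y, rfl⟩ := hrep ω
    obtain ⟨x', y', rfl⟩ := hrep ω'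
    rw [hmk, hmk] at h
    obtain ⟨a, haH, k, hkK, hxy⟩ := hb _ _ h
    refine ⟨x' * a * x⁻¹, ?_⟩
    have : (x' * a * x⁻¹) • ((QuotientGroup.mk x : X ⧸ H), (QuotientGroup.mk y : X ⧸ K))
        = ((QuotientGroup.mk (x' * a * x⁻¹ * x) : X ⧸ H),
            (QuotientGroup.mk (x' * a * x⁻¹ * y) : X ⧸ K)) := rfl
    rw [this]
    refine Prod.ext ?_ ?_
    · show (QuotientGroup.mk (x' * a * x⁻¹ * x) : X ⧸ H) = QuotientGroup.mk x'
      rw [QuotientGroup.eq]
      have : (x' * a * x⁻¹ * x)⁻¹ * x' = a⁻¹ := by group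
      rw [this]
      exact H.inv_mem haH
    · show (QuotientGroup.mk (x' * a * x⁻¹ * y) : X ⧸ K) = QuotientGroup.mk y'
      rw [QuotientGroup.eq]
      have h2 : y' = x' * (a * (x⁻¹ * y) * k) := by rw [← hxy]; group
      have : (x' * a * x⁻¹ * y)⁻¹ * y' = k := by rw [h2]; group
      rw [this]
      exact hkK
  have hcompS : ∀ ω ω' : (X ⧸ H) × (X ⧸ K), inv ω = inv ω' → ∃ s : S, s • ω = ω' := by
    intro ω ω' h
    obtain ⟨z, hz⟩ := hcomp ω ω' h
    obtain ⟨x, y, rfl⟩ := hrep ω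
    obtain ⟨s, a, haH, k, hkK, hs, hfix⟩ := hc (x⁻¹ * y) x z
    refine ⟨s, ?_⟩
    rw [hsmul, hs, mul_smul, ← hz]
    congr 1
    have : (x * a * x⁻¹) • ((QuotientGroup.mk x : X ⧸ H), (QuotientGroup.mk y : X ⧸ K))
        = ((QuotientGroup.mk (x * a * x⁻¹ * x) : X ⧸ H),
            (QuotientGroup.mk (x * a * x⁻¹ * y) : X ⧸ K)) := rfl
    rw [this]
    refine Prod.ext ?_ ?_
    · show (QuotientGroup.mk (x * a * x⁻¹ * x) : X ⧸ H) = QuotientGroup.mk x
      rw [QuotientGroup.eq]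
      have : (x * a * x⁻¹ * x)⁻¹ * x = a⁻¹ := by group
      rw [this]
      exact H.inv_mem haH
    · show (QuotientGroup.mk (x * a * x⁻¹ * y) : X ⧸ K) = QuotientGroup.mk y
      rw [QuotientGroup.eq]
      have h2 : a * (x⁻¹ * y) = x⁻¹ * y * k⁻¹ := by
        rw [eq_mul_inv_iff_mul_eq]
        exact hfix
      have h3 : x * a * x⁻¹ * y = y * k⁻¹ := by
        have : x * a * x⁻¹ * y = x * (a * (x⁻¹ * y)) := by group
        rw [this, h2]
        group
      have : (x * a * x⁻¹ * y)⁻¹ * y = k := by rw [h3]; group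
      rw [this]
      exact hkK
  have hsurj : ∀ x : X, ∃ ω : (X ⧸ H) × (X ⧸ K), inv ω = r x := by
    intro x
    refine ⟨((QuotientGroup.mk 1 : X ⧸ H), (QuotientGroup.mk x : X ⧸ K)), ?_⟩
    rw [hmk]
    congr 1
    group
  let f : Quotient (orbitRel S ((X ⧸ H) × (X ⧸ K))) → Set.range r :=
    Quotient.lift (fun ω => (⟨inv ω, ⟨_, rfl⟩⟩ : Set.range r)) (by
      intro a b hab
      obtain ⟨s, hs⟩ := hab
      apply Subtype.ext
      show inv a = inv b
      rw [← hs]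
      exact hinv (ι s) b)
  have hf : Function.Bijective f := by
    constructor
    · intro a b
      refine Quotient.inductionOn₂ a b ?_
      intro ω ω' h
      have h' : inv ω = inv ω' := congrArg Subtype.val h
      obtain ⟨s, hs⟩ := hcompS ω ω' h'
      apply Quotient.sound
      refine ⟨s⁻¹, ?_⟩
      show s⁻¹ • ω' = ω
      rw [← hs, inv_smul_smul]
    · rintro ⟨t, x, rfl⟩
      obtain ⟨ω, hω⟩ := hsurj x
      exact ⟨Quotient.mk _ ω, Subtype.ext hω⟩
  have hcard : Nat.card (Quotient (orbitRel S ((X ⧸ H) × (X ⧸ K)))) = Nat.card (Set.range r) :=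
    Nat.card_congr (Equiv.ofBijective f hf)
  letI : ∀ a : S, Fintype (fixedBy ((X ⧸ H) × (X ⧸ K)) a) := fun a => Fintype.ofFinite _
  letI : Fintype (Quotient (orbitRel S ((X ⧸ H) × (X ⧸ K)))) := Fintype.ofFinite _
  have burn := MulAction.sum_card_fixedBy_eq_card_orbits_mul_card_group S ((X ⧸ H) × (X ⧸ K))
  have hsum : ∑ s : S, Cfsg.fixedPointCharacter H (ι s) * Cfsg.fixedPointCharacter K (ι s)
      = ((∑ s : S, Fintype.card (fixedBy ((X ⧸ H) × (X ⧸ K)) s) : ℕ) : ℂ) := by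
    rw [Nat.cast_sum]
    refine Finset.sum_congr rfl (fun s _ => ?_)
    rw [← Nat.card_eq_fintype_card]
    have hfix : Nat.card (fixedBy ((X ⧸ H) × (X ⧸ K)) s)
        = Nat.card (fixedBy ((X ⧸ H) × (X ⧸ K)) (ι s)) := rfl
    rw [hfix, card_fixedBy_prod]
    unfold Cfsg.fixedPointCharacter
    push_cast
    rfl
  rw [hsum, burn, ← Nat.card_eq_fintype_card, ← Nat.card_eq_fintype_card, hcard]
  have hX : (Nat.card S : ℂ) ≠ 0 := by
    have : Nat.card S ≠ 0 := Nat.card_pos.ne'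
    exact_mod_cast this
  push_cast
  field_simp

end Cfsg.Agent.Lib.Helper58.DCoset
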