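import Mathlib
import Cfsg.Agent.S0035
import Cfsg.Agent.S0108
import Cfsg.Agent.S0602
import Cfsg.Agent.Lib.Helper11.ThompsonOf

set_option autoImplicit false

/-!
Abstract core of the exclusion of the "holomorph of a simple group" case for extremely
primitive groups: a finite nontrivial group `D` with a family of subgroups `S x` (the point
stabilizers) that are exactly the centralizers of nonidentity elements, and which are "maximal
among invariant subgroups", cannot exist.
-/

namespace Cfsg.Agent.Lib.Helper58.EPCore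

universe u

open scoped Pointwise

section
variable {D : Type u} [Group D]

lemma conj_smul_mem_iff (C : Subgroup D) (g y : D) :
    y ∈ MulAut.conj g • C ↔ g⁻¹ * y * g ∈ C := by
  rw [Subgroup.mem_pointwise_smul_iff_inv_smul_mem]
  simp [MulAut.smul_def]

lemma mem_centralizer_singleton (d e : D) :
    e ∈ Subgroup.centralizer ({d} : Set D) ↔ d * e = e * d := by
  rw [Subgroup.mem_centralizer_iff]
  constructor
  · intro h; exact h d (Set.mem_singleton _)
  · intro h g hg
    rw [Set.mem_singleton_iff] at hg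
    rw [hg]; exact h

/-- a `p`-group has a normal `p`-complement -/
lemma hasNPC_of_isPGroup (p : ℕ) [Fact p.Prime] (Q : Type u) [Group Q] [Finite Q]
    (hQ : IsPGroup p Q) : Cfsg.HasNormalPComplement p Q := by
  obtain ⟨P⟩ : Nonempty (Sylow p Q) := inferInstance
  have hP : (P : Subgroup Q) = ⊤ := by
    have := P.3 (Q := ⊤) (fun g => by
      obtain ⟨k, hk⟩ := hQ (g : Q)
      exact ⟨k, Subtype.ext hk⟩) le_top
    exact this.symm
  refine ⟨P, ⊥, inferInstance, ?_⟩
  rw [hP]
  exact Subgroup.isComplement'_bot_top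

lemma mem_zpowers_pow_of_coprime [Finite D] (g : D) (n : ℕ) (h : (orderOf g).Coprime n) :
    g ∈ Subgroup.zpowers (g ^ n) := by
  have hle : Subgroup.zpowers (g ^ n) ≤ Subgroup.zpowers g := by
    rw [Subgroup.zpowers_le]
    exact Subgroup.npow_mem_zpowers g n
  have hcard : Nat.card (Subgroup.zpowers g) ≤ Nat.card (Subgroup.zpowers (g ^ n)) := by
    rw [Nat.card_zpowers, Nat.card_zpowers, Nat.Coprime.orderOf_pow h]
  have := Subgroup.eq_of_le_of_card_ge hle hcard
  rw [this]
  exact Subgroup.mem_zpowers g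

/-- an element of prime order `r` obtained as a power -/
lemma exists_pow_prime_order [Finite D] (y : D) (hy : y ≠ 1) :
    ∃ r : ℕ, r.Prime ∧ r ∣ orderOf y ∧ orderOf (y ^ (orderOf y / r)) = r ∧
      y ^ (orderOf y / r) ≠ 1 := by
  have h1 : orderOf y ≠ 1 := fun h => hy (orderOf_eq_one_iff.mp h)
  obtain ⟨r, hr, hrd⟩ := Nat.exists_prime_and_dvd h1
  have h2 : orderOf (y ^ (orderOf y / r)) = r :=
    orderOf_pow_orderOf_div (orderOf_pos y).ne' hrd
  refine ⟨r, hr, hrd, h2, ?_⟩
  intro h
  rw [h, orderOf_one] at h2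
  exact hr.one_lt.ne h2

end

section core
variable {D : Type u} [Group D] {X : Type*}

/-- The abstract hypotheses: `S x` are the "point stabilizers", `A x` the automorphisms of `D`
induced by the stabilizer of `x` in the ambient group. -/
structure Hyp (S : X → Subgroup D) (A : X → Set (MulAut D)) : Prop where
  h1 : ∀ x, ∀ φ ∈ A x, ∀ s : D, φ s ∈ S x ↔ s ∈ S x
  h2 : ∀ x, ∀ M : Subgroup D, S x ≤ M → (∀ φ ∈ A x, ∀ m ∈ M, φ m ∈ M) → M = S x ∨ M = ⊤
  h3 : ∀ x, ∀ K : Subgroup D, K.Normal → K ≤ S x → K = ⊥
  h4 : ∀ d : D, d ≠ 1 → ∃ x, S x = Subgroup.centralizer {d}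
  h4' : ∀ d : D, ∀ j : ℕ, d ^ j ≠ 1 → Subgroup.centralizer {d ^ j} = Subgroup.centralizer {d}
  h5 : ∀ x y, ∀ φ ∈ A x, ∀ s : D, (∃ e : D, e * φ s * e⁻¹ ∈ S y) → ∃ e : D, e * s * e⁻¹ ∈ S y

variable {S : X → Subgroup D} {A : X → Set (MulAut D)}

lemma Hyp.ne_top [Nontrivial D] (H : Hyp S A) (x : X) : S x ≠ ⊤ := by
  intro h
  have := H.h3 x ⊤ inferInstance (by rw [h])
  exact top_ne_bot this

lemma Hyp.normalizer_eq (H : Hyp S A) (x : X) (K : Subgroup D) (hK : K ≤ S x) (hK1 : K ≠ ⊥)
    (hinv : ∀ φ ∈ A x, ∀ k : D, φ k ∈ K ↔ k ∈ K)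
    (hn : S x ≤ Subgroup.normalizer (K : Set D)) :
    Subgroup.normalizer (K : Set D) = S x := by
  rcases H.h2 x (Subgroup.normalizer (K : Set D)) hn (by
    intro φ hφ m hm
    rw [Subgroup.mem_normalizer_iff] at hm ⊢
    intro n
    obtain ⟨n', rfl⟩ := φ.surjective n
    rw [hinv φ hφ n', ← map_inv, ← map_mul, ← map_mul, hinv φ hφ]
    exact hm n') with h | h
  · exact h
  · exfalso
    have hKn : K.Normal := Subgroup.normalizer_eq_top_iff.mp h
    exact hK1 (H.h3 x K hKn hK)

lemma Hyp.centralizer_eq_of_coprime (H : Hyp S A) {u v : D} (hu : u ≠ 1) (hv : v ≠ 1)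
    (hc : Commute u v) (hcop : (orderOf u).Coprime (orderOf v)) :
    Subgroup.centralizer ({u} : Set D) = Subgroup.centralizer {v} := by
  have key : ∀ {a b : D}, a ≠ 1 → Commute a b → (orderOf a).Coprime (orderOf b) →
      Subgroup.centralizer ({a * b} : Set D) = Subgroup.centralizer {a} := by
    intro a b ha hab hco
    have h1 : (a * b) ^ orderOf b = a ^ orderOf b := by
      rw [hab.mul_pow, pow_orderOf_eq_one, mul_one]
    have h2 : a ^ orderOf b ≠ 1 := by
      intro h
      have h3 : orderOf a ∣ orderOf b := orderOf_dvd_of_pow_eq_one h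
      have h4 : orderOf a = 1 := Nat.Coprime.eq_one_of_dvd hco h3
      exact ha (orderOf_eq_one_iff.mp h4)
    have h5 := H.h4' (a * b) (orderOf b) (by rw [h1]; exact h2)
    have h6 := H.h4' a (orderOf b) h2
    rw [← h5, h1, h6]
  have e1 := key hu hc hcop
  have e2 := key hv hc.symm hcop.symm
  rw [hc.eq] at e1
  rw [← e1, e2]

lemma Hyp.caseI [Finite D] [Nontrivial D] (H : Hyp S A) (u v : D) (hu : (orderOf u).Prime)
    (hv : (orderOf v).Prime) (hne : orderOf u ≠ orderOf v) (hc : Commute u v) : False := by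
  classical
  have hu1 : u ≠ 1 := fun h => by rw [h, orderOf_one] at hu; exact Nat.not_prime_one hu
  have hv1 : v ≠ 1 := fun h => by rw [h, orderOf_one] at hv; exact Nat.not_prime_one hv
  obtain ⟨x, hx⟩ := H.h4 u hu1
  set C := Subgroup.centralizer ({u} : Set D) with hCdef
  have hCv : Subgroup.centralizer ({v} : Set D) = C :=
    (H.centralizer_eq_of_coprime hu1 hv1 hc ((Nat.coprime_primes hu hv).mpr hne)).symm
  have hall : ∀ y ∈ C, y ≠ 1 → Subgroup.centralizer ({y} : Set D) = C := by
    intro y hy hy1
    obtain ⟨r, hr, hrd, hor, hne1⟩ := exists_pow_prime_order y hy1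
    have hy'C : y ^ (orderOf y / r) ∈ C := C.pow_mem hy _
    have e1 : Subgroup.centralizer ({y ^ (orderOf y / r)} : Set D) = Subgroup.centralizer {y} :=
      H.h4' y _ hne1
    rw [← e1]
    by_cases hrp : r = orderOf u
    · have hy'v : y ^ (orderOf y / r) ∈ Subgroup.centralizer ({v} : Set D) := by
        rw [hCv]; exact hy'C
      have hcomm : Commute v (y ^ (orderOf y / r)) := (mem_centralizer_singleton v _).mp hy'v
      have := H.centralizer_eq_of_coprime hv1 hne1 hcomm (by
        rw [hor, hrp]; exact (Nat.coprime_primes hv hu).mpr (Ne.symm hne))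
      rw [← this, hCv]
    · have hcomm : Commute u (y ^ (orderOf y / r)) := (mem_centralizer_singleton u _).mp hy'C
      have := H.centralizer_eq_of_coprime hu1 hne1 hcomm (by
        rw [hor]; exact (Nat.coprime_primes hu hr).mpr (Ne.symm hrp))
      rw [← this]
  have huC : u ∈ C := (mem_centralizer_singleton u u).mpr rfl
  have hCbot : C ≠ ⊥ := fun h => hu1 (by rw [h, Subgroup.mem_bot] at huC; exact huC)
  have hCtop : C ≠ ⊤ := by rw [← hx]; exact H.ne_top x
  have hNC : Subgroup.normalizer (C : Set D) = C := by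
    have := H.normalizer_eq x (S x) le_rfl (by rw [hx]; exact hCbot) (H.h1 x)
      Subgroup.le_normalizer
    rw [hx] at this
    exact this
  have hfrob : Cfsg.IsFrobeniusComplement C := by
    refine ⟨hCbot, hCtop, ?_⟩
    intro g hg
    rw [eq_bot_iff]
    rintro y ⟨hy1, hy2⟩
    rw [Subgroup.mem_bot]
    by_contra hy
    apply hg
    rw [← hNC, Subgroup.mem_normalizer_iff]
    have hy2' : g⁻¹ * y * g ∈ C := (conj_smul_mem_iff C g y).mp hy2
    have hy0 : g⁻¹ * y * g ≠ 1 := by
      intro h
      apply hy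
      have : y = g * (g⁻¹ * y * g) * g⁻¹ := by group
      rw [this, h]; group
    have hc1 := hall y hy1 hy
    have hc2 := hall _ hy2' hy0
    intro n
    constructor
    · intro hn
      have h1 : n ∈ Subgroup.centralizer ({g⁻¹ * y * g} : Set D) := by rw [hc2]; exact hn
      rw [mem_centralizer_singleton] at h1
      rw [← hc1, mem_centralizer_singleton]
      have e : y * (g * n * g⁻¹) = g * ((g⁻¹ * y * g) * n) * g⁻¹ := by group
      rw [e, h1]; group
    · intro hn
      have h1 : g * n * g⁻¹ ∈ Subgroup.centralizer ({y} : Set D) := by rw [hc1]; exact hn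
      rw [mem_centralizer_singleton] at h1
      rw [← hc2, mem_centralizer_singleton]
      have e : n * (g⁻¹ * y * g) = g⁻¹ * ((g * n * g⁻¹) * y) * g := by group
      rw [e, ← h1]; group
  obtain ⟨F, hFset, hFn, hFc⟩ := Cfsg.Agent.S0035.result C hfrob
  have hFmem : ∀ f : D, f ∈ F ↔ f = 1 ∨ ∀ g : D, f ∉ MulAut.conj g • C := by
    intro f
    have := Set.ext_iff.mp hFset f
    exact this
  have hcard := hFc.card_mul_card
  have hFbot : F ≠ ⊥ := by
    intro h
    rw [h, Subgroup.card_bot, one_mul] at hcard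
    exact hCtop ((Subgroup.card_eq_iff_eq_top C).mp hcard)
  obtain ⟨f, hfF, hf1⟩ : ∃ f ∈ F, f ≠ 1 := by
    by_contra hcon
    push Not at hcon
    exact hFbot ((Subgroup.eq_bot_iff_forall F).mpr hcon)
  obtain ⟨x', hx'⟩ := H.h4 f hf1
  have hle : S x' ≤ F := by
    rw [hx']
    intro g hg
    by_contra hgF
    rw [hFmem] at hgF
    push Not at hgF
    obtain ⟨hg1, e, he⟩ := hgF
    have he' : e⁻¹ * g * e ∈ C := (conj_smul_mem_iff C e g).mp he
    have he1 : e⁻¹ * g * e ≠ 1 := by
      intro h
      apply hg1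
      have : g = e * (e⁻¹ * g * e) * e⁻¹ := by group
      rw [this, h]; group
    have hc := hall _ he' he1
    have hfg : f * g = g * f := (mem_centralizer_singleton f g).mp hg
    have h2 : e⁻¹ * f * e ∈ C := by
      rw [← hc, mem_centralizer_singleton]
      have e' : e⁻¹ * g * e * (e⁻¹ * f * e) = e⁻¹ * (g * f) * e := by group
      rw [e', ← hfg]; group
    have h3 : f ∈ MulAut.conj e • C := (conj_smul_mem_iff C e f).mpr h2
    rcases (hFmem f).mp hfF with h | h
    · exact hf1 h
    · exact h e h3
  have hinv : ∀ φ ∈ A x', ∀ m ∈ F, φ m ∈ F := by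
    intro φ hφ m hm
    by_cases hm1 : m = 1
    · rw [hm1, map_one]; exact F.one_mem
    rw [hFmem]
    right
    intro g hg
    have hg' : g⁻¹ * φ m * g ∈ C := (conj_smul_mem_iff C g (φ m)).mp hg
    obtain ⟨e, he⟩ := H.h5 x' x φ hφ m ⟨g⁻¹, by rw [hx]; simpa using hg'⟩
    rw [hx] at he
    have h3 : m ∈ MulAut.conj e⁻¹ • C := (conj_smul_mem_iff C e⁻¹ m).mpr (by simpa using he)
    rcases (hFmem m).mp hm with h | h
    · exact hm1 h
    · exact h e⁻¹ h3
  rcases H.h2 x' F hle hinv with h | h
  · exact hFbot (H.h3 x' F hFn (le_of_eq h))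
  · rw [h, Subgroup.card_top] at hcard
    have hpos : 0 < Nat.card D := Nat.card_pos
    have h1 : Nat.card C = 1 := Nat.eq_of_mul_eq_mul_left hpos (hcard.trans (mul_one _).symm)
    exact hCbot (Subgroup.card_eq_one.mp h1)

lemma Hyp.caseII [Finite D] [Nontrivial D] (H : Hyp S A)
    (hII : ∀ u v : D, (orderOf u).Prime → (orderOf v).Prime → orderOf u ≠ orderOf v →
      ¬ Commute u v) : False := by
  classical
  have hpg : ∀ u : D, (orderOf u).Prime →
      IsPGroup (orderOf u) (Subgroup.centralizer ({u} : Set D)) := by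
    intro u hu
    rintro ⟨y, hy⟩
    have hdiv : ∀ {r : ℕ}, r.Prime → r ∣ orderOf y → r = orderOf u := by
      intro r hr hrd
      by_contra hne
      have hor : orderOf (y ^ (orderOf y / r)) = r :=
        orderOf_pow_orderOf_div (orderOf_pos y).ne' hrd
      have hcomm : Commute u (y ^ (orderOf y / r)) :=
        Commute.pow_right ((mem_centralizer_singleton u y).mp hy) _
      exact hII u _ hu (by rw [hor]; exact hr) (by rw [hor]; exact Ne.symm hne) hcomm
    have hpow := Nat.eq_prime_pow_of_unique_prime_dvd (orderOf_pos y).ne' hdiv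
    refine ⟨(orderOf y).primeFactorsList.length, ?_⟩
    apply Subtype.ext
    show y ^ (orderOf u ^ (orderOf y).primeFactorsList.length) = 1
    rw [← hpow]; exact pow_orderOf_eq_one y
  by_cases hIIa : ∃ p : ℕ, p.Prime ∧ IsPGroup p D
  · obtain ⟨p, hp, hD⟩ := hIIa
    haveI : Fact p.Prime := ⟨hp⟩
    haveI := hD.center_nontrivial
    obtain ⟨⟨u, hu⟩, hu1⟩ := exists_ne (1 : Subgroup.center D)
    have hu1' : u ≠ 1 := fun h => hu1 (Subtype.ext h)
    obtain ⟨x, hx⟩ := H.h4 u hu1'
    apply H.ne_top x
    rw [hx, eq_top_iff]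
    intro e _
    rw [mem_centralizer_singleton]
    exact (Subgroup.mem_center_iff.mp hu e).symm
  · push Not at hIIa
    obtain ⟨p, hp, hp2, hpd⟩ : ∃ p : ℕ, p.Prime ∧ p ≠ 2 ∧ p ∣ Nat.card D := by
      by_contra hcon
      push Not at hcon
      apply hIIa 2 Nat.prime_two
      have : Nat.card D = 2 ^ (Nat.card D).primeFactorsList.length :=
        Nat.eq_prime_pow_of_unique_prime_dvd Nat.card_pos.ne' (fun {r} hr hrd => by
          by_contra h; exact hcon r hr h hrd)
      exact IsPGroup.of_card this
    haveI : Fact p.Prime := ⟨hp⟩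
    obtain ⟨P⟩ : Nonempty (Sylow p D) := inferInstance
    have hPbot : (P : Subgroup D) ≠ ⊥ := P.ne_bot_of_dvd_card hpd
    haveI : Nontrivial (P : Subgroup D) := (Subgroup.nontrivial_iff_ne_bot _).mpr hPbot
    haveI := P.2.center_nontrivial
    obtain ⟨⟨z, hz⟩, hz1⟩ := exists_ne (1 : Subgroup.center (P : Subgroup D))
    have hz1' : z ≠ 1 := fun h => hz1 (Subtype.ext h)
    obtain ⟨r, hr, hrd, hor, hne1⟩ := exists_pow_prime_order z hz1'
    have hrp : r = p := by
      obtain ⟨k, hk⟩ := (IsPGroup.iff_orderOf.mp P.2) z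
      rw [hk] at hrd
      exact (Nat.prime_dvd_prime_iff_eq hr hp).mp (hr.dvd_of_dvd_pow hrd)
    have hu₀c : z ^ (orderOf z / r) ∈ Subgroup.center (P : Subgroup D) :=
      Subgroup.pow_mem _ hz _
    obtain ⟨u, hudef⟩ : ∃ u : D, u = ((z ^ (orderOf z / r) : (P : Subgroup D)) : D) := ⟨_, rfl⟩
    have hou : orderOf u = p := by rw [hudef, Subgroup.orderOf_coe, hor, hrp]
    have hu1 : u ≠ 1 := fun h => by rw [h, orderOf_one] at hou; exact hp.one_lt.ne hou
    have huP : u ∈ (P : Subgroup D) := by rw [hudef]; exact Subtype.property _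
    have hPle : (P : Subgroup D) ≤ Subgroup.centralizer ({u} : Set D) := by
      intro e he
      rw [mem_centralizer_singleton]
      have h1 := Subgroup.mem_center_iff.mp hu₀c ⟨e, he⟩
      have h2 := congrArg Subtype.val h1
      rw [hudef]
      exact h2.symm
    have hCu : Subgroup.centralizer ({u} : Set D) = P := by
      have h1 := hpg u (by rw [hou]; exact hp)
      rw [hou] at h1
      exact P.3 h1 hPle
    obtain ⟨x, hx⟩ := H.h4 u hu1
    rw [hCu] at hx
    have hJle : Cfsg.thompsonSubgroupOf p (P : Subgroup D) ≤ S x := by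
      rw [hx]; exact Cfsg.Agent.Lib.Helper11.thompsonSubgroupOf_le p _
    have hJbot : Cfsg.thompsonSubgroupOf p (P : Subgroup D) ≠ ⊥ := by
      intro h
      have hdvd : p ∣ Nat.card (P : Subgroup D) := by
        obtain ⟨k, hk⟩ := IsPGroup.iff_card.mp P.2
        rw [hk]
        rcases Nat.eq_zero_or_pos k with h0 | h0
        · exfalso; rw [h0, pow_zero] at hk; exact hPbot (Subgroup.card_eq_one.mp hk)
        · exact dvd_pow_self p h0.ne'
      have h2 := (Cfsg.Agent.S0602.result (G := (P : Subgroup D)) (p := p)).2 hdvd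
      apply h2
      exact (Subgroup.map_eq_bot_iff_of_injective _ (Subgroup.subtype_injective _)).mp h
    have hJmap : ∀ φ : MulAut D, (∀ s : D, φ s ∈ (P : Subgroup D) ↔ s ∈ (P : Subgroup D)) →
        ∀ k : D, φ k ∈ Cfsg.thompsonSubgroupOf p (P : Subgroup D) ↔
          k ∈ Cfsg.thompsonSubgroupOf p (P : Subgroup D) := by
      intro φ hφ k
      have hPmap : (P : Subgroup D).map φ.toMonoidHom = P := by
        ext s
        constructor
        · rintro ⟨s', hs', rfl⟩; exact (hφ s').mpr hs'
        · intro hs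
          refine ⟨φ.symm s, ?_, by simp⟩
          exact (hφ _).mp (by simpa using hs)
      have hJm : (Cfsg.thompsonSubgroupOf p (P : Subgroup D)).map φ.toMonoidHom =
          Cfsg.thompsonSubgroupOf p (P : Subgroup D) := by
        have := Cfsg.Agent.Lib.Helper11.thompsonSubgroupOf_map p φ.toMonoidHom φ.injective
          (P : Subgroup D)
        rw [hPmap] at this
        exact this.symm
      constructor
      · intro hk
        rw [← hJm] at hk
        obtain ⟨k', hk', hkk⟩ := hk
        have : k' = k := φ.injective hkk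
        rw [← this]; exact hk'
      · intro hk
        rw [← hJm]; exact ⟨k, hk, rfl⟩
    have hNJ : Subgroup.normalizer (Cfsg.thompsonSubgroupOf p (P : Subgroup D) : Set D) = S x := by
      apply H.normalizer_eq x _ hJle hJbot
      · intro φ hφ k
        exact hJmap φ (fun s => by rw [← hx]; exact H.h1 x φ hφ s) k
      · rw [hx]
        intro e he
        rw [Subgroup.mem_normalizer_iff]
        intro n
        have h1 := hJmap (MulAut.conj e) (fun s => by
          simp only [MulAut.conj_apply]
          constructor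
          · intro h
            have h2 := (P : Subgroup D).mul_mem
              ((P : Subgroup D).mul_mem ((P : Subgroup D).inv_mem he) h) he
            simpa [mul_assoc] using h2
          · intro h
            exact (P : Subgroup D).mul_mem ((P : Subgroup D).mul_mem he h)
              ((P : Subgroup D).inv_mem he)) n
        simp only [MulAut.conj_apply] at h1
        exact h1.symm
    have hNPC : Cfsg.HasNormalPComplement p D := by
      rw [Cfsg.Agent.S0108.result hp2 P]
      constructor
      · have hpg' : IsPGroup p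
            (Subgroup.normalizer (Cfsg.thompsonSubgroupOf p (P : Subgroup D) : Set D)) := by
          rw [hNJ, hx]; exact P.2
        exact hasNPC_of_isPGroup p _ hpg'
      · have hZ : Subgroup.centralizer
            (((P : Subgroup D) ⊓ Subgroup.centralizer (P : Set D) : Subgroup D) : Set D) = P := by
          apply le_antisymm
          · intro e he
            rw [← hCu, mem_centralizer_singleton]
            have huZ : u ∈ (P : Subgroup D) ⊓ Subgroup.centralizer (P : Set D) := by
              refine ⟨huP, ?_⟩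
              show u ∈ Subgroup.centralizer ((P : Subgroup D) : Set D)
              rw [Subgroup.mem_centralizer_iff]
              intro g hg
              have := (mem_centralizer_singleton u g).mp (hPle hg)
              exact this.symm
            exact Subgroup.mem_centralizer_iff.mp he u huZ
          · intro e he
            rw [Subgroup.mem_centralizer_iff]
            intro z hz
            exact (Subgroup.mem_centralizer_iff.mp hz.2 e he).symm
        have hpg' : IsPGroup p (Subgroup.centralizer
            (((P : Subgroup D) ⊓ Subgroup.centralizer (P : Set D) : Subgroup D) : Set D)) := by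
          rw [hZ]; exact P.2
        exact hasNPC_of_isPGroup p _ hpg'
    obtain ⟨P₁, K, hKn, hKc⟩ := hNPC
    have hMK : Subgroup.closure {g : D | ¬ p ∣ orderOf g} ≤ K := by
      rw [Subgroup.closure_le]
      intro g hg
      have hidx : K.index = Nat.card (P₁ : Subgroup D) := hKc.symm.index_eq_card
      obtain ⟨a, ha⟩ := IsPGroup.iff_card.mp P₁.2
      have h1 : g ^ (p ^ a) ∈ K := by
        have := Subgroup.pow_index_mem K g
        rwa [hidx, ha] at this
      have hcop : (orderOf g).Coprime (p ^ a) :=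
        Nat.Coprime.pow_right a ((Nat.Prime.coprime_iff_not_dvd hp).mpr hg).symm
      have h2 := mem_zpowers_pow_of_coprime g (p ^ a) hcop
      exact (Subgroup.zpowers_le.mpr h1) h2
    have hP₁ : (P₁ : Subgroup D) ≠ ⊥ := P₁.ne_bot_of_dvd_card hpd
    have hKtop : K ≠ ⊤ := by
      intro h
      have h0 := hKc.card_mul_card
      rw [h, Subgroup.card_top] at h0
      have hpos : 0 < Nat.card D := Nat.card_pos
      have h1 : Nat.card (P₁ : Subgroup D) = 1 :=
        Nat.eq_of_mul_eq_mul_left hpos (h0.trans (mul_one _).symm)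
      exact hP₁ (Subgroup.card_eq_one.mp h1)
    have hMtop : Subgroup.closure {g : D | ¬ p ∣ orderOf g} ≠ ⊤ := fun h =>
      hKtop (top_le_iff.mp (h ▸ hMK))
    obtain ⟨q, hq, hqp, hqd⟩ : ∃ q : ℕ, q.Prime ∧ q ≠ p ∧ q ∣ Nat.card D := by
      by_contra hcon
      push Not at hcon
      apply hIIa p hp
      have : Nat.card D = p ^ (Nat.card D).primeFactorsList.length :=
        Nat.eq_prime_pow_of_unique_prime_dvd Nat.card_pos.ne' (fun {r} hr hrd => by
          by_contra h; exact hcon r hr h hrd)
      exact IsPGroup.of_card this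
    haveI : Fact q.Prime := ⟨hq⟩
    obtain ⟨v, hv⟩ := exists_prime_orderOf_dvd_card' q hqd
    have hv1 : v ≠ 1 := fun h => by rw [h, orderOf_one] at hv; exact hq.one_lt.ne hv
    obtain ⟨x', hx'⟩ := H.h4 v hv1
    have hpq : ¬ p ∣ q := fun h => hqp ((Nat.prime_dvd_prime_iff_eq hp hq).mp h).symm
    have hvM : v ∈ Subgroup.closure {g : D | ¬ p ∣ orderOf g} := Subgroup.subset_closure (by
      show ¬ p ∣ orderOf v
      rw [hv]; exact hpq)
    have hle : S x' ≤ Subgroup.closure {g : D | ¬ p ∣ orderOf g} := by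
      rw [hx']
      intro y hy
      apply Subgroup.subset_closure
      show ¬ p ∣ orderOf y
      have hpgv := hpg v (by rw [hv]; exact hq)
      rw [hv] at hpgv
      obtain ⟨k, hk⟩ := (IsPGroup.iff_orderOf.mp hpgv) ⟨y, hy⟩
      rw [Subgroup.orderOf_mk] at hk
      rw [hk]
      intro h
      exact hpq (hp.dvd_of_dvd_pow h)
    have hMinv : ∀ φ : MulAut D, ∀ m ∈ Subgroup.closure {g : D | ¬ p ∣ orderOf g},
        φ m ∈ Subgroup.closure {g : D | ¬ p ∣ orderOf g} := by
      intro φ m hm
      induction hm using Subgroup.closure_induction with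
      | mem g hg =>
        apply Subgroup.subset_closure
        show ¬ p ∣ orderOf (φ g)
        rw [MulEquiv.orderOf_eq]; exact hg
      | one => rw [map_one]; exact Subgroup.one_mem _
      | mul a b _ _ iha ihb => rw [map_mul]; exact Subgroup.mul_mem _ iha ihb
      | inv a _ iha => rw [map_inv]; exact Subgroup.inv_mem _ iha
    have hMn : (Subgroup.closure {g : D | ¬ p ∣ orderOf g}).Normal := ⟨fun n hn g => by
      have := hMinv (MulAut.conj g) n hn
      simpa using this⟩
    rcases H.h2 x' _ hle (fun φ _ m hm => hMinv φ m hm) with h | h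
    · have h1 := H.h3 x' _ hMn (le_of_eq h)
      rw [h1, Subgroup.mem_bot] at hvM
      exact hv1 hvM
    · exact hMtop h

/-- The abstract core: the hypotheses are contradictory. -/
theorem core_false [Finite D] [Nontrivial D] (H : Hyp S A) : False := by
  by_cases hI : ∃ u v : D, (orderOf u).Prime ∧ (orderOf v).Prime ∧ orderOf u ≠ orderOf v ∧
      Commute u v
  · obtain ⟨u, v, hu, hv, hne, hc⟩ := hI
    exact H.caseI u v hu hv hne hc
  · push Not at hI
    exact H.caseII (fun u v hu hv hne hc => hI u v hu hv hne hc)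

end core

end Cfsg.Agent.Lib.Helper58.EPCore
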