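import Mathlib
import Cfsg.Agent.S3493
import Cfsg.Agent.S0144
import Cfsg.Agent.Lib.Helper59.DerP
import Cfsg.Agent.Lib.Helper10.PrimSolv

set_option autoImplicit false
set_option linter.style.haveILetI false

namespace Cfsg.Agent.Lib.Helper58.DerClasses

open MulAction Cfsg.Agent.S3493

/-- A finite group in which any three nonidentity elements include two of the same order is
solvable (at most two primes divide its order; Burnside). -/
lemma solvable_of_orders (U : Type*) [Group U] [Finite U]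
    (h : ∀ x y z : U, x ≠ 1 → y ≠ 1 → z ≠ 1 →
      orderOf x = orderOf y ∨ orderOf x = orderOf z ∨ orderOf y = orderOf z) :
    Group.IsSolvable U := by
  classical
  have hcard : (Nat.card U).primeFactors.card ≤ 2 := by
    by_contra hc
    push Not at hc
    obtain ⟨p, hp, q, hq, r, hr, hpq, hpr, hqr⟩ := Finset.two_lt_card.mp hc
    have hp' := Nat.prime_of_mem_primeFactors hp
    have hq' := Nat.prime_of_mem_primeFactors hq
    have hr' := Nat.prime_of_mem_primeFactors hr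
    haveI := Fact.mk hp'
    haveI := Fact.mk hq'
    haveI := Fact.mk hr'
    obtain ⟨x, hx⟩ := exists_prime_orderOf_dvd_card' (G := U) p (Nat.dvd_of_mem_primeFactors hp)
    obtain ⟨y, hy⟩ := exists_prime_orderOf_dvd_card' (G := U) q (Nat.dvd_of_mem_primeFactors hq)
    obtain ⟨z, hz⟩ := exists_prime_orderOf_dvd_card' (G := U) r (Nat.dvd_of_mem_primeFactors hr)
    have hx1 : x ≠ 1 := by
      intro h1; rw [h1, orderOf_one] at hx; exact hp'.one_lt.ne hx
    have hy1 : y ≠ 1 := by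
      intro h1; rw [h1, orderOf_one] at hy; exact hq'.one_lt.ne hy
    have hz1 : z ≠ 1 := by
      intro h1; rw [h1, orderOf_one] at hz; exact hr'.one_lt.ne hz
    rcases h x y z hx1 hy1 hz1 with h1 | h1 | h1
    · rw [hx, hy] at h1; exact hpq h1
    · rw [hx, hz] at h1; exact hpr h1
    · rw [hy, hz] at h1; exact hqr h1
  have hm : Nat.card U ≠ 0 := Nat.card_pos.ne'
  have hfac := Nat.prod_factorization_pow_eq_self hm
  rw [Finsupp.prod, Nat.support_factorization] at hfac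
  have h3 : (Nat.card U).primeFactors.card = 0 ∨ (Nat.card U).primeFactors.card = 1 ∨
      (Nat.card U).primeFactors.card = 2 := by omega
  rcases h3 with h0 | h1 | h2
  · rw [Finset.card_eq_zero] at h0
    rw [h0, Finset.prod_empty] at hfac
    exact Cfsg.Agent.S0144.result 2 2 0 0 Nat.prime_two Nat.prime_two (by rw [← hfac]; norm_num)
  · obtain ⟨p, hp⟩ := Finset.card_eq_one.mp h1
    rw [hp, Finset.prod_singleton] at hfac
    have hp' : p.Prime := Nat.prime_of_mem_primeFactors (by rw [hp]; exact Finset.mem_singleton_self p)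
    exact Cfsg.Agent.S0144.result p p ((Nat.card U).factorization p) 0 hp' hp'
      (by rw [pow_zero, mul_one, hfac])
  · obtain ⟨p, q, hpq, hs⟩ := Finset.card_eq_two.mp h2
    rw [hs, Finset.prod_pair hpq] at hfac
    have hp' : p.Prime := Nat.prime_of_mem_primeFactors (by rw [hs]; simp)
    have hq' : q.Prime := Nat.prime_of_mem_primeFactors (by rw [hs]; simp)
    exact Cfsg.Agent.S0144.result p q ((Nat.card U).factorization p)
      ((Nat.card U).factorization q) hp' hq' hfac.symm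

section
variable {G : Type*} [Group G]

/-- the closure of a pairwise commuting set is commutative -/
lemma closure_comm {S : Set G} (h : ∀ x ∈ S, ∀ y ∈ S, x * y = y * x) :
    ∀ a ∈ Subgroup.closure S, ∀ b ∈ Subgroup.closure S, a * b = b * a := by
  have h1 : Subgroup.closure S ≤ Subgroup.centralizer S := by
    apply (Subgroup.closure_le _).mpr
    intro y hy
    rw [SetLike.mem_coe, Subgroup.mem_centralizer_iff]
    intro z hz
    exact h z hz y hy
  have h2 : Subgroup.closure S ≤ Subgroup.centralizer (Subgroup.closure S : Set G) := by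
    apply (Subgroup.closure_le _).mpr
    intro y hy
    rw [SetLike.mem_coe, Subgroup.mem_centralizer_iff]
    intro a ha
    have h0 := h1 ha
    rw [Subgroup.mem_centralizer_iff] at h0
    exact (h0 y hy).symm
  intro a ha b hb
  have h0 := h2 hb
  rw [Subgroup.mem_centralizer_iff] at h0
  exact h0 a ha

/-- a solvable minimal normal subgroup is commutative -/
lemma comm_of_solvable_minNormal {N : Subgroup G} [hNn : N.Normal]
    (hNmin : ∀ M : Subgroup G, M.Normal → M ≤ N → M = ⊥ ∨ M = N)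
    (hsolv : Group.IsSolvable N) : ∀ x ∈ N, ∀ y ∈ N, x * y = y * x := by
  by_cases hb : N = ⊥
  · intro x hx y hy
    rw [hb, Subgroup.mem_bot] at hx hy
    rw [hx, hy]
  have hK : ⁅N, N⁆ = ⊥ := by
    rcases hNmin ⁅N, N⁆ inferInstance (Subgroup.commutator_le_self N) with h | h
    · exact h
    · exfalso
      haveI : Nontrivial N := (Subgroup.nontrivial_iff_ne_bot N).mpr hb
      haveI : Group.IsPerfect N := Subgroup.isPerfect_iff.mpr h
      exact Group.IsPerfect.not_isSolvable N hsolv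
  have hle := Subgroup.commutator_eq_bot_iff_le_centralizer.mp hK
  intro x hx y hy
  have h0 := hle hy
  rw [Subgroup.mem_centralizer_iff] at h0
  exact h0 x hx

/-- a solvable minimal invariant subgroup is commutative -/
lemma comm_of_solvable_minInv {N T : Subgroup G} (hT : MinInv N T)
    (hsolv : Group.IsSolvable T) : ∀ x ∈ T, ∀ y ∈ T, x * y = y * x := by
  have hKinv : ∀ n ∈ N, ∀ k ∈ ⁅T, T⁆, n * k * n⁻¹ ∈ ⁅T, T⁆ := by
    intro n hn k hk
    have h1 : cj n ⁅T, T⁆ = ⁅T, T⁆ := by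
      have h2 : cj n ⁅T, T⁆ = ⁅cj n T, cj n T⁆ := Subgroup.map_commutator T T _
      rw [h2, cj_eq_of_mem hT hn]
    have h3 := conj_mem_cj n ⁅T, T⁆ hk
    rw [h1] at h3
    exact h3
  have hK : ⁅T, T⁆ = ⊥ := by
    by_contra hne
    have h := hT.2.2.2 ⁅T, T⁆ (Subgroup.commutator_le_self T) hne hKinv
    haveI : Nontrivial T := (Subgroup.nontrivial_iff_ne_bot T).mpr hT.2.1
    haveI : Group.IsPerfect T := Subgroup.isPerfect_iff.mpr h
    exact Group.IsPerfect.not_isSolvable T hsolv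
  have hle := Subgroup.commutator_eq_bot_iff_le_centralizer.mp hK
  intro x hx y hy
  have h0 := hle hy
  rw [Subgroup.mem_centralizer_iff] at h0
  exact h0 x hx

/-- the normal closure of a minimal invariant subgroup is all of `N` -/
lemma normalClosure_minInv {N T : Subgroup G} [hNn : N.Normal]
    (hNmin : ∀ M : Subgroup G, M.Normal → M ≤ N → M = ⊥ ∨ M = N)
    (hT : MinInv N T) : Subgroup.normalClosure (T : Set G) = N := by
  rcases hNmin _ Subgroup.normalClosure_normal (Subgroup.normalClosure_le_normal hT.1) with h | h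
  · exfalso
    apply hT.2.1
    rw [eq_bot_iff, ← h]
    exact Subgroup.le_normalClosure
  · exact h

/-- every conjugate of an element of `T` lies in a conjugate subgroup -/
lemma mem_conjugatesOfSet_cj {T : Subgroup G} {x : G}
    (hx : x ∈ Group.conjugatesOfSet (T : Set G)) : ∃ g : G, ∃ a ∈ T, x = g * a * g⁻¹ := by
  rw [Group.mem_conjugatesOfSet_iff] at hx
  obtain ⟨a, ha, hax⟩ := hx
  rw [isConj_iff] at hax
  obtain ⟨g, rfl⟩ := hax
  exact ⟨g, a, ha, rfl⟩

/-- if a minimal invariant subgroup is commutative, so is `N` -/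
lemma comm_of_minInv_comm {N T : Subgroup G} [hNn : N.Normal]
    (hNmin : ∀ M : Subgroup G, M.Normal → M ≤ N → M = ⊥ ∨ M = N)
    (hT : MinInv N T) (hc : ∀ a ∈ T, ∀ b ∈ T, a * b = b * a) :
    ∀ x ∈ N, ∀ y ∈ N, x * y = y * x := by
  have hconj : ∀ x ∈ Group.conjugatesOfSet (T : Set G),
      ∀ y ∈ Group.conjugatesOfSet (T : Set G), x * y = y * x := by
    intro x hx y hy
    obtain ⟨g, a, ha, rfl⟩ := mem_conjugatesOfSet_cj hx
    obtain ⟨h, b, hb, rfl⟩ := mem_conjugatesOfSet_cj hy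
    rcases minInv_disj (minInv_conj hT g) (minInv_conj hT h) with heq | ⟨hcm, -⟩
    · have hb' : h * b * h⁻¹ ∈ cj g T := by rw [heq]; exact conj_mem_cj h T hb
      rw [mem_cj] at hb'
      have h1 := hc a ha _ hb'
      calc g * a * g⁻¹ * (h * b * h⁻¹)
          = g * (a * (g⁻¹ * (h * b * h⁻¹) * g)) * g⁻¹ := by group
        _ = g * ((g⁻¹ * (h * b * h⁻¹) * g) * a) * g⁻¹ := by rw [h1]
        _ = h * b * h⁻¹ * (g * a * g⁻¹) := by group
    · exact hcm _ (conj_mem_cj g T ha) _ (conj_mem_cj h T hb)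
  have hNeq := normalClosure_minInv hNmin hT
  intro x hx y hy
  rw [← hNeq] at hx hy
  exact closure_comm hconj x hx y hy

/-- `N = T · C_N(T)` for a minimal invariant subgroup `T` -/
lemma minInv_decomp {N T : Subgroup G} [hNn : N.Normal]
    (hNmin : ∀ M : Subgroup G, M.Normal → M ≤ N → M = ⊥ ∨ M = N)
    (hT : MinInv N T) :
    ∀ n ∈ N, ∃ t ∈ T, ∃ c ∈ N, (∀ u ∈ T, c * u = u * c) ∧ n = t * c := by
  let P : Subgroup G :=
    { carrier := {n | ∃ t ∈ T, ∃ c ∈ N, (∀ u ∈ T, c * u = u * c) ∧ n = t * c}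
      one_mem' := ⟨1, T.one_mem, 1, N.one_mem, fun u _ => by simp, by simp⟩
      mul_mem' := by
        rintro _ _ ⟨t, ht, c, hc, hcu, rfl⟩ ⟨t', ht', c', hc', hcu', rfl⟩
        refine ⟨t * t', T.mul_mem ht ht', c * c', N.mul_mem hc hc', ?_, ?_⟩
        · intro u hu
          rw [mul_assoc, hcu' u hu, ← mul_assoc, hcu u hu, mul_assoc]
        · have h1 := hcu t' ht'
          calc t * c * (t' * c') = t * (c * t') * c' := by group
            _ = t * (t' * c) * c' := by rw [h1]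
            _ = t * t' * (c * c') := by group
      inv_mem' := by
        rintro _ ⟨t, ht, c, hc, hcu, rfl⟩
        refine ⟨t⁻¹, T.inv_mem ht, c⁻¹, N.inv_mem hc, ?_, ?_⟩
        · intro u hu
          have h1 := hcu u hu
          calc c⁻¹ * u = c⁻¹ * (u * c) * c⁻¹ := by group
            _ = c⁻¹ * (c * u) * c⁻¹ := by rw [h1]
            _ = u * c⁻¹ := by group
        · have h1 := hcu t ht
          calc (t * c)⁻¹ = (c * t)⁻¹ := by rw [h1]
            _ = t⁻¹ * c⁻¹ := by group }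
  have hle : Subgroup.normalClosure (T : Set G) ≤ P := by
    apply (Subgroup.closure_le _).mpr
    intro x hx
    obtain ⟨g, a, ha, rfl⟩ := mem_conjugatesOfSet_cj hx
    rcases minInv_disj (minInv_conj hT g) hT with heq | ⟨hcm, -⟩
    · refine ⟨g * a * g⁻¹, ?_, 1, N.one_mem, fun u _ => by simp, by simp⟩
      rw [← heq]; exact conj_mem_cj g T ha
    · refine ⟨1, T.one_mem, g * a * g⁻¹, (minInv_conj hT g).1 (conj_mem_cj g T ha), ?_, by simp⟩
      intro u hu
      exact hcm _ (conj_mem_cj g T ha) u hu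
  rw [normalClosure_minInv hNmin hT] at hle
  intro n hn
  exact hle hn

/-- a minimal invariant subgroup of a noncommutative minimal normal subgroup has trivial
centre -/
lemma minInv_center {N T : Subgroup G} [hNn : N.Normal]
    (hNmin : ∀ M : Subgroup G, M.Normal → M ≤ N → M = ⊥ ∨ M = N)
    (hNc : ¬ ∀ x ∈ N, ∀ y ∈ N, x * y = y * x)
    (hT : MinInv N T) : ∀ w ∈ T, (∀ s ∈ T, s * w = w * s) → w = 1 := by
  let Z : Subgroup G :=
    { carrier := {w | w ∈ T ∧ ∀ s ∈ T, s * w = w * s}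
      one_mem' := ⟨T.one_mem, fun s _ => by simp⟩
      mul_mem' := by
        rintro a b ⟨ha, ha'⟩ ⟨hb, hb'⟩
        refine ⟨T.mul_mem ha hb, fun s hs => ?_⟩
        rw [← mul_assoc, ha' s hs, mul_assoc, hb' s hs, mul_assoc]
      inv_mem' := by
        rintro a ⟨ha, ha'⟩
        refine ⟨T.inv_mem ha, fun s hs => ?_⟩
        have h1 := ha' s hs
        calc s * a⁻¹ = a⁻¹ * (a * s) * a⁻¹ := by group
          _ = a⁻¹ * (s * a) * a⁻¹ := by rw [h1]
          _ = a⁻¹ * s := by group }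
  have hZT : Z ≤ T := fun w hw => hw.1
  have hZinv : ∀ n ∈ N, ∀ w ∈ Z, n * w * n⁻¹ ∈ Z := by
    rintro n hn w ⟨hw, hw'⟩
    refine ⟨hT.2.2.1 n hn w hw, fun s hs => ?_⟩
    have hs' : n⁻¹ * s * n ∈ T := by
      have h0 := hT.2.2.1 n⁻¹ (N.inv_mem hn) s hs
      simpa using h0
    have h1 := hw' _ hs'
    calc s * (n * w * n⁻¹) = n * ((n⁻¹ * s * n) * w) * n⁻¹ := by group
      _ = n * (w * (n⁻¹ * s * n)) * n⁻¹ := by rw [h1]
      _ = n * w * n⁻¹ * s := by group
  have hZbot : Z = ⊥ := by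
    by_contra hne
    have h := hT.2.2.2 Z hZT hne hZinv
    apply hNc
    apply comm_of_minInv_comm hNmin hT
    intro a ha b hb
    have hb' : b ∈ Z := by rw [h]; exact hb
    exact hb'.2 a ha
  intro w hw hw'
  have h0 : w ∈ Z := ⟨hw, hw'⟩
  rw [hZbot, Subgroup.mem_bot] at h0
  exact h0

/-- uniqueness of the decomposition of a product of two elements from distinct minimal
invariant subgroups -/
lemma minInv_two_decomp {N U V U' V' : Subgroup G}
    (hcenter : ∀ W : Subgroup G, MinInv N W → ∀ w ∈ W, (∀ s ∈ W, s * w = w * s) → w = 1)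
    (hU : MinInv N U) (hV : MinInv N V) (hU' : MinInv N U') (hV' : MinInv N V')
    (hUV : U ≠ V) (hUV' : U' ≠ V')
    {u v u' v' : G} (hu : u ∈ U) (hv : v ∈ V) (hu' : u' ∈ U') (hv' : v' ∈ V')
    (hu1 : u ≠ 1) (hv1 : v ≠ 1) (h : u * v = u' * v') :
    (U = U' ∧ V = V' ∧ u = u' ∧ v = v') ∨ (U = V' ∧ V = U' ∧ u = v' ∧ v = u') := by
  obtain ⟨hcUV, hiUV⟩ := (minInv_disj hU hV).resolve_left hUV
  have h1 : U = U' ∨ U = V' := by
    by_contra hne
    push Not at hne
    obtain ⟨hc1, -⟩ := (minInv_disj hU hU').resolve_left hne.1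
    obtain ⟨hc2, -⟩ := (minInv_disj hU hV').resolve_left hne.2
    apply hu1
    apply hcenter U hU u hu
    intro s hs
    have e : u = u' * v' * v⁻¹ := by rw [← h]; group
    rw [e]
    have a1 := hc1 s hs u' hu'
    have a2 := hc2 s hs v' hv'
    have a3 := hcUV s hs v⁻¹ (V.inv_mem hv)
    calc s * (u' * v' * v⁻¹) = (s * u') * v' * v⁻¹ := by group
      _ = u' * (s * v') * v⁻¹ := by rw [a1]; group
      _ = u' * v' * (s * v⁻¹) := by rw [a2]; group
      _ = u' * v' * v⁻¹ * s := by rw [a3]; group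
  have h2 : V = U' ∨ V = V' := by
    by_contra hne
    push Not at hne
    obtain ⟨hc1, -⟩ := (minInv_disj hV hU').resolve_left hne.1
    obtain ⟨hc2, -⟩ := (minInv_disj hV hV').resolve_left hne.2
    apply hv1
    apply hcenter V hV v hv
    intro s hs
    have e : v = u⁻¹ * u' * v' := by
      calc v = u⁻¹ * (u * v) := by group
        _ = u⁻¹ * u' * v' := by rw [h]; group
    rw [e]
    have a1 := hc1 s hs u' hu'
    have a2 := hc2 s hs v' hv'
    have a3 := (hcUV u⁻¹ (U.inv_mem hu) s hs).symm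
    calc s * (u⁻¹ * u' * v') = (s * u⁻¹) * u' * v' := by group
      _ = u⁻¹ * (s * u') * v' := by rw [a3]; group
      _ = u⁻¹ * u' * (s * v') := by rw [a1]; group
      _ = u⁻¹ * u' * v' * s := by rw [a2]; group
  rcases h1 with h1 | h1 <;> rcases h2 with h2 | h2
  · exact absurd (h1.trans h2.symm) hUV
  · left
    subst h1; subst h2
    have e : u'⁻¹ * u = v' * v⁻¹ := by
      calc u'⁻¹ * u = u'⁻¹ * (u * v) * v⁻¹ := by group
        _ = u'⁻¹ * (u' * v') * v⁻¹ := by rw [h]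
        _ = v' * v⁻¹ := by group
    have h3 := hiUV _ (U.mul_mem (U.inv_mem hu') hu) (by rw [e]; exact V.mul_mem hv' (V.inv_mem hv))
    have h4 : u = u' := by rw [inv_mul_eq_one] at h3; exact h3.symm
    refine ⟨rfl, rfl, h4, ?_⟩
    rw [h4] at h
    exact mul_left_cancel h
  · right
    subst h1; subst h2
    have hc := hcUV v' hv' u' hu'
    have e : v'⁻¹ * u = u' * v⁻¹ := by
      calc v'⁻¹ * u = v'⁻¹ * (u * v) * v⁻¹ := by group
        _ = v'⁻¹ * (u' * v') * v⁻¹ := by rw [h]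
        _ = v'⁻¹ * (v' * u') * v⁻¹ := by rw [hc]
        _ = u' * v⁻¹ := by group
    have h3 := hiUV _ (U.mul_mem (U.inv_mem hv') hu) (by rw [e]; exact V.mul_mem hu' (V.inv_mem hv))
    have h4 : u = v' := by rw [inv_mul_eq_one] at h3; exact h3.symm
    refine ⟨rfl, rfl, h4, ?_⟩
    rw [h4, ← hc] at h
    exact mul_left_cancel h
  · exact absurd (h1.trans h2.symm) hUV

end

section
variable {G : Type*} [Group G]

lemma orderOf_conj' (g x : G) : orderOf (g * x * g⁻¹) = orderOf x :=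
  orderOf_injective (MulAut.conj g).toMonoidHom (MulAut.conj g).injective x

lemma cent_mul {U : Subgroup G} {c c' : G} (hc : ∀ u ∈ U, c * u = u * c)
    (hc' : ∀ u ∈ U, c' * u = u * c') : ∀ u ∈ U, (c * c') * u = u * (c * c') := by
  intro u hu
  rw [mul_assoc, hc' u hu, ← mul_assoc, hc u hu, mul_assoc]

lemma cent_inv {U : Subgroup G} {c : G} (hc : ∀ u ∈ U, c * u = u * c) :
    ∀ u ∈ U, c⁻¹ * u = u * c⁻¹ := by
  intro u hu
  have h1 := hc u hu
  calc c⁻¹ * u = c⁻¹ * (u * c) * c⁻¹ := by group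
    _ = c⁻¹ * (c * u) * c⁻¹ := by rw [h1]
    _ = u * c⁻¹ := by group

end

/-- The derangements form at most two conjugacy classes: among any three derangements two are
conjugate. -/
def AtMostTwo (G Ω : Type*) [Group G] [MulAction G Ω] : Prop :=
  ∀ x y z : G, (∀ ω : Ω, x • ω ≠ ω) → (∀ ω : Ω, y • ω ≠ ω) → (∀ ω : Ω, z • ω ≠ ω) →
    (∃ g : G, g * x * g⁻¹ = y) ∨ (∃ g : G, g * x * g⁻¹ = z) ∨ (∃ g : G, g * y * g⁻¹ = z)

section
variable {G : Type*} [Group G] [Finite G] {Ω : Type*} [Fintype Ω] [MulAction G Ω]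
  [FaithfulSMul G Ω]

/-- The case of a non-semiregular minimal invariant subgroup. -/
lemma caseii [Nontrivial Ω] (hprim : IsPreprimitive G Ω)
    (hκ : AtMostTwo G Ω)
    (N : Subgroup G) [hNn : N.Normal]
    (hNmin : ∀ M : Subgroup G, M.Normal → M ≤ N → M = ⊥ ∨ M = N)
    (hNc : ¬ ∀ x ∈ N, ∀ y ∈ N, x * y = y * x)
    (hNtr : ∀ α ω : Ω, ∃ n ∈ N, n • α = ω)
    (T₁ : Subgroup G) (hT₁ : MinInv N T₁) (g₀ : G) (hg₀ : cj g₀ T₁ ≠ T₁)
    (α : Ω) (t₀ : G) (ht₀ : t₀ ∈ T₁) (ht₀1 : t₀ ≠ 1) (ht₀α : t₀ • α = α) : False := by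
  classical
  have hcenter : ∀ W : Subgroup G, MinInv N W → ∀ w ∈ W, (∀ s ∈ W, s * w = w * s) → w = 1 :=
    fun W hW => minInv_center hNmin hNc hW
  have hdec := minInv_decomp hNmin hT₁
  -- `T₁` fixes no point
  have hnofix : ∀ ω : Ω, ¬ ∀ t ∈ T₁, t • ω = ω := by
    intro ω hfix
    apply hT₁.2.1
    rw [eq_bot_iff]
    intro t ht
    rw [Subgroup.mem_bot]
    apply FaithfulSMul.eq_of_smul_eq_smul (α := Ω)
    intro ω'
    obtain ⟨n, hn, rfl⟩ := hNtr ω ω'
    have h1 : n⁻¹ * t * n ∈ T₁ := by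
      have h0 := hT₁.2.2.1 n⁻¹ (N.inv_mem hn) t ht
      simpa using h0
    have h3 := hfix _ h1
    rw [one_smul]
    calc t • n • ω = n • (n⁻¹ * t * n) • ω := by simp [mul_smul]
      _ = n • ω := by rw [h3]
  -- the subgroup `Q`
  let Q : Subgroup G :=
    { carrier := {n | n ∈ N ∧ ∀ U : Subgroup G, MinInv N U → ∃ t ∈ U, ∃ c ∈ N, ∃ c' ∈ N,
          (∀ u ∈ U, c * u = u * c) ∧ (∀ u ∈ U, c' * u = u * c') ∧ n = t * c ∧ (t * c') • α = α}
      one_mem' := ⟨N.one_mem, fun U _ => ⟨1, U.one_mem, 1, N.one_mem, 1, N.one_mem,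
        fun u _ => by simp, fun u _ => by simp, by simp, by simp⟩⟩
      mul_mem' := by
        rintro a b ⟨haN, ha⟩ ⟨hbN, hb⟩
        refine ⟨N.mul_mem haN hbN, fun U hU => ?_⟩
        obtain ⟨t, ht, c, hc, c₁, hc₁, hcu, hc₁u, rfl, hfix⟩ := ha U hU
        obtain ⟨t', ht', c', hc', c₁', hc₁', hcu', hc₁u', rfl, hfix'⟩ := hb U hU
        refine ⟨t * t', U.mul_mem ht ht', c * c', N.mul_mem hc hc', c₁ * c₁',
          N.mul_mem hc₁ hc₁', cent_mul hcu hcu', cent_mul hc₁u hc₁u', ?_, ?_⟩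
        · have h1 := hcu t' ht'
          calc t * c * (t' * c') = t * (c * t') * c' := by group
            _ = t * (t' * c) * c' := by rw [h1]
            _ = t * t' * (c * c') := by group
        · have h1 := hc₁u t' ht'
          have e : t * t' * (c₁ * c₁') = (t * c₁) * (t' * c₁') := by
            calc t * t' * (c₁ * c₁') = t * (t' * c₁) * c₁' := by group
              _ = t * (c₁ * t') * c₁' := by rw [h1]
              _ = (t * c₁) * (t' * c₁') := by group
          rw [e, mul_smul, hfix', hfix]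
      inv_mem' := by
        rintro a ⟨haN, ha⟩
        refine ⟨N.inv_mem haN, fun U hU => ?_⟩
        obtain ⟨t, ht, c, hc, c₁, hc₁, hcu, hc₁u, rfl, hfix⟩ := ha U hU
        refine ⟨t⁻¹, U.inv_mem ht, c⁻¹, N.inv_mem hc, c₁⁻¹, N.inv_mem hc₁,
          cent_inv hcu, cent_inv hc₁u, ?_, ?_⟩
        · have h1 := hcu t ht
          calc (t * c)⁻¹ = (c * t)⁻¹ := by rw [h1]
            _ = t⁻¹ * c⁻¹ := by group
        · have h1 := hc₁u t ht
          have e : t⁻¹ * c₁⁻¹ = (t * c₁)⁻¹ := by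
            calc t⁻¹ * c₁⁻¹ = (c₁ * t)⁻¹ := by group
              _ = (t * c₁)⁻¹ := by rw [h1]
          rw [e, inv_smul_eq_iff, hfix] }
  have hQα : ∀ n ∈ N, n • α = α → n ∈ Q := by
    intro n hn hnα
    refine ⟨hn, fun U hU => ?_⟩
    obtain ⟨t, ht, c, hc, hcu, rfl⟩ := minInv_decomp hNmin hU n hn
    exact ⟨t, ht, c, hc, c, hc, hcu, hcu, rfl, hnα⟩
  have hQinv : ∀ h : G, h • α = α → ∀ q ∈ Q, h * q * h⁻¹ ∈ Q := by
    rintro h hh q ⟨hqN, hq⟩
    refine ⟨hNn.conj_mem q hqN h, fun U hU => ?_⟩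
    obtain ⟨t, ht, c, hc, c', hc', hcu, hc'u, rfl, hfix⟩ := hq (cj h⁻¹ U) (minInv_conj hU h⁻¹)
    have hcU : ∀ (x : G), (∀ u ∈ cj h⁻¹ U, x * u = u * x) →
        ∀ u ∈ U, (h * x * h⁻¹) * u = u * (h * x * h⁻¹) := by
      intro x hx u hu
      have hu' : h⁻¹ * u * h ∈ cj h⁻¹ U := by
        have h0 := conj_mem_cj h⁻¹ U hu
        simpa using h0
      have h1 := hx _ hu'
      calc h * x * h⁻¹ * u = h * (x * (h⁻¹ * u * h)) * h⁻¹ := by group
        _ = h * ((h⁻¹ * u * h) * x) * h⁻¹ := by rw [h1]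
        _ = u * (h * x * h⁻¹) := by group
    refine ⟨h * t * h⁻¹, ?_, h * c * h⁻¹, hNn.conj_mem c hc h, h * c' * h⁻¹,
      hNn.conj_mem c' hc' h, hcU c hcu, hcU c' hc'u, by group, ?_⟩
    · rw [mem_cj] at ht
      simpa using ht
    · have e : h * t * h⁻¹ * (h * c' * h⁻¹) = h * (t * c') * h⁻¹ := by group
      rw [e, mul_smul, mul_smul, inv_smul_eq_iff.mpr hh.symm, hfix, hh]
  let HQ : Subgroup G :=
    { carrier := {g | ∃ q ∈ Q, ∃ h : G, h • α = α ∧ g = q * h}
      one_mem' := ⟨1, Q.one_mem, 1, one_smul _ _, by group⟩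
      mul_mem' := by
        rintro _ _ ⟨a, ha, h, hh, rfl⟩ ⟨a', ha', h', hh', rfl⟩
        exact ⟨a * (h * a' * h⁻¹), Q.mul_mem ha (hQinv h hh a' ha'), h * h',
          by rw [mul_smul, hh', hh], by group⟩
      inv_mem' := by
        rintro _ ⟨a, ha, h, hh, rfl⟩
        have hh' : h⁻¹ • α = α := by rw [inv_smul_eq_iff, hh]
        exact ⟨h⁻¹ * a⁻¹ * h⁻¹⁻¹, hQinv _ hh' _ (Q.inv_mem ha), h⁻¹, hh', by group⟩ }
  have hHQ : stabilizer G α ≤ HQ := fun h hh => ⟨1, Q.one_mem, h, hh, by group⟩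
  have hco : IsCoatom (stabilizer G α) :=
    IsPreprimitive.isCoatom_stabilizer_of_isPreprimitive (G := G) α
  -- product structure at `α`
  have hPSα : ∀ t ∈ T₁, ∀ c ∈ N, (∀ u ∈ T₁, c * u = u * c) → (t * c) • α = α → t • α = α := by
    rcases hco.le_iff.mp hHQ with h | h
    · exfalso
      have hNQ : ∀ n ∈ N, n ∈ Q := by
        intro n hn
        have h0 : n ∈ HQ := by rw [h]; trivial
        obtain ⟨q, hq, k, hk, rfl⟩ := h0
        have hkN : k ∈ N := by
          have h4 := N.mul_mem (N.inv_mem hq.1) hn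
          simpa using h4
        exact Q.mul_mem hq (hQα k hkN hk)
      have hpart : ∀ t ∈ T₁, ∃ c' ∈ N, (∀ u ∈ T₁, c' * u = u * c') ∧ (t * c') • α = α := by
        intro t ht
        obtain ⟨-, hq⟩ := hNQ t (hT₁.1 ht)
        obtain ⟨t', ht', c, hc, c', hc', hcu, hc'u, heq, hfix⟩ := hq T₁ hT₁
        have hcT : c ∈ T₁ := by
          have h5 : c = t'⁻¹ * t := by rw [heq]; group
          rw [h5]; exact T₁.mul_mem (T₁.inv_mem ht') ht
        have hc1 : c = 1 := hcenter T₁ hT₁ c hcT (fun s hs => (hcu s hs).symm)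
        rw [hc1, mul_one] at heq
        rw [heq]
        exact ⟨c', hc', hc'u, hfix⟩
      let X : Subgroup G :=
        { carrier := {s | s ∈ T₁ ∧ s • α = α}
          one_mem' := ⟨T₁.one_mem, one_smul _ _⟩
          mul_mem' := by
            rintro a b ⟨ha, ha'⟩ ⟨hb, hb'⟩
            exact ⟨T₁.mul_mem ha hb, by rw [mul_smul, hb', ha']⟩
          inv_mem' := by
            rintro a ⟨ha, ha'⟩
            exact ⟨T₁.inv_mem ha, by rw [inv_smul_eq_iff, ha']⟩ }
      have hXinv : ∀ n ∈ N, ∀ s ∈ X, n * s * n⁻¹ ∈ X := by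
        rintro n hn s ⟨hs, hsα⟩
        refine ⟨hT₁.2.2.1 n hn s hs, ?_⟩
        obtain ⟨t, ht, c, hc, hcu, rfl⟩ := hdec n hn
        obtain ⟨c', hc', hc'u, hfix⟩ := hpart t ht
        have e : t * c * s * (t * c)⁻¹ = (t * c') * s * (t * c')⁻¹ := by
          have h1 := hcu s hs
          have h2 := hc'u s hs
          calc t * c * s * (t * c)⁻¹ = t * (c * s) * c⁻¹ * t⁻¹ := by group
            _ = t * (s * c) * c⁻¹ * t⁻¹ := by rw [h1]
            _ = t * (s * c') * c'⁻¹ * t⁻¹ := by group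
            _ = t * (c' * s) * c'⁻¹ * t⁻¹ := by rw [h2]
            _ = (t * c') * s * (t * c')⁻¹ := by group
        rw [e, mul_smul, mul_smul, inv_smul_eq_iff.mpr hfix.symm, hsα, hfix]
      have hXbot : X ≠ ⊥ := by
        intro hb
        have h0 : t₀ ∈ X := ⟨ht₀, ht₀α⟩
        rw [hb, Subgroup.mem_bot] at h0
        exact ht₀1 h0
      have hXT := hT₁.2.2.2 X (fun s hs => hs.1) hXbot hXinv
      apply hnofix α
      intro t ht
      have h0 : t ∈ X := by rw [hXT]; exact ht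
      exact h0.2
    · intro t ht c hc hcu hfix
      have htQ : t ∈ Q := by
        refine ⟨hT₁.1 ht, fun U hU => ?_⟩
        by_cases hUT : U = T₁
        · rw [hUT]
          exact ⟨t, ht, 1, N.one_mem, c, hc, fun u _ => by simp, hcu, by simp, hfix⟩
        · obtain ⟨hcm, -⟩ := (minInv_disj hU hT₁).resolve_left hUT
          exact ⟨1, U.one_mem, t, hT₁.1 ht, 1, N.one_mem, fun u hu => (hcm u hu t ht).symm,
            fun u _ => by simp, by simp, by simp⟩
      have h0 : t ∈ HQ := ⟨t, htQ, 1, one_smul _ _, by group⟩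
      rw [h] at h0
      exact h0
  -- product structure at all points
  have hPS : ∀ ω : Ω, ∀ t ∈ T₁, ∀ c ∈ N, (∀ u ∈ T₁, c * u = u * c) →
      (t * c) • ω = ω → t • ω = ω := by
    intro ω t ht c hc hcu hfix
    obtain ⟨m, hm, rfl⟩ := hNtr α ω
    have ht' : m⁻¹ * t * m ∈ T₁ := by
      have h0 := hT₁.2.2.1 m⁻¹ (N.inv_mem hm) t ht
      simpa using h0
    have hc' : m⁻¹ * c * m ∈ N := by
      have h0 := hNn.conj_mem c hc m⁻¹
      simpa using h0
    have hcu' : ∀ u ∈ T₁, (m⁻¹ * c * m) * u = u * (m⁻¹ * c * m) := by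
      intro u hu
      have h1 := hcu _ (hT₁.2.2.1 m hm u hu)
      calc m⁻¹ * c * m * u = m⁻¹ * (c * (m * u * m⁻¹)) * m := by group
        _ = m⁻¹ * ((m * u * m⁻¹) * c) * m := by rw [h1]
        _ = u * (m⁻¹ * c * m) := by group
    have hfix' : ((m⁻¹ * t * m) * (m⁻¹ * c * m)) • α = α := by
      have e : (m⁻¹ * t * m) * (m⁻¹ * c * m) = m⁻¹ * (t * c) * m := by group
      rw [e, mul_smul, mul_smul, hfix, inv_smul_smul]
    have h2 := hPSα _ ht' _ hc' hcu' hfix'
    calc t • m • α = m • (m⁻¹ * t * m) • α := by simp [mul_smul]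
      _ = m • α := by rw [h2]
  -- Jordan: a derangement in `T₁`
  let R : Subgroup T₁ :=
    { carrier := {s | (s : G) • α = α}
      one_mem' := one_smul _ _
      mul_mem' := by
        intro a b ha hb
        have ha' : (a : G) • α = α := ha
        have hb' : (b : G) • α = α := hb
        show ((a : G) * (b : G)) • α = α
        rw [mul_smul, hb', ha']
      inv_mem' := by
        intro a ha
        have ha' : (a : G) • α = α := ha
        show ((a : G))⁻¹ • α = α
        rw [inv_smul_eq_iff, ha'] }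
  have hR : R ≠ ⊤ := by
    intro htop
    apply hnofix α
    intro t ht
    have h0 : (⟨t, ht⟩ : T₁) ∈ R := by rw [htop]; trivial
    exact h0
  obtain ⟨x, hx⟩ := Cfsg.Agent.Lib.Helper59.DerP.jordan_conj R hR
  have hd₁ : ∀ ω : Ω, (x : G) • ω ≠ ω := by
    intro ω hω
    obtain ⟨m, hm, rfl⟩ := hNtr α ω
    obtain ⟨s, hs, c, hc, hcu, rfl⟩ := hdec m hm
    apply hx ⟨s, hs⟩
    show (s⁻¹ * (x : G) * s) • α = α
    have h1 := hcu _ (T₁.mul_mem (T₁.mul_mem (T₁.inv_mem hs) x.2) hs)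
    have e : (s * c)⁻¹ * (x : G) * (s * c) = s⁻¹ * (x : G) * s := by
      calc (s * c)⁻¹ * (x : G) * (s * c) = c⁻¹ * ((s⁻¹ * (x : G) * s) * c) := by group
        _ = c⁻¹ * (c * (s⁻¹ * (x : G) * s)) := by rw [h1]
        _ = s⁻¹ * (x : G) * s := by group
    rw [← e, mul_smul, mul_smul, hω, inv_smul_smul]
  have hd₁1 : (x : G) ≠ 1 := by
    intro h1
    exact hd₁ α (by rw [h1, one_smul])
  have hd₁c : ∀ c ∈ N, (∀ u ∈ T₁, c * u = u * c) → ∀ ω : Ω, ((x : G) * c) • ω ≠ ω := by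
    intro c hc hcu ω hω
    exact hd₁ ω (hPS ω x x.2 c hc hcu hω)
  have hT₂ := minInv_conj hT₁ g₀
  obtain ⟨hcomm, hint⟩ := (minInv_disj hT₁ hT₂).resolve_left (Ne.symm hg₀)
  have hD2 : ∀ c ∈ cj g₀ T₁, ∀ ω : Ω, ((x : G) * c) • ω ≠ ω := fun c hc =>
    hd₁c c (hT₂.1 hc) (fun u hu => (hcomm u hu c hc).symm)
  have hnc : ∀ c ∈ cj g₀ T₁, c ≠ 1 → ¬ ∃ g : G, g * (x : G) * g⁻¹ = (x : G) * c := by
    rintro c hc hc1 ⟨g, hg⟩
    obtain ⟨u, hudef⟩ : ∃ u : G, u = g * (x : G) * g⁻¹ := ⟨_, rfl⟩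
    rw [← hudef] at hg
    have hu : u ∈ cj g T₁ := by rw [hudef]; exact conj_mem_cj g T₁ x.2
    rcases minInv_disj (minInv_conj hT₁ g) hT₁ with heq | ⟨hcm, -⟩
    · rw [heq, hg] at hu
      have hcT : c ∈ T₁ := by
        have h5 : c = (x : G)⁻¹ * ((x : G) * c) := by group
        rw [h5]; exact T₁.mul_mem (T₁.inv_mem x.2) hu
      exact hc1 (hint c hcT hc)
    · apply hd₁1
      apply hcenter T₁ hT₁ _ x.2
      intro s hs
      have hxu : (x : G) = u * c⁻¹ := by rw [hg]; group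
      have a1 := (hcm u hu s hs).symm
      have a2 := hcomm s hs c⁻¹ ((cj g₀ T₁).inv_mem hc)
      calc s * (x : G) = s * (u * c⁻¹) := by rw [← hxu]
        _ = (s * u) * c⁻¹ := by group
        _ = (u * s) * c⁻¹ := by rw [a1]
        _ = u * (s * c⁻¹) := by group
        _ = u * (c⁻¹ * s) := by rw [a2]
        _ = (u * c⁻¹) * s := by group
        _ = (x : G) * s := by rw [← hxu]
  have hord : ∀ c ∈ cj g₀ T₁, ∀ c' ∈ cj g₀ T₁, c ≠ 1 → c' ≠ 1 → orderOf c = orderOf c' := by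
    intro c hc c' hc' hc1 hc'1
    rcases hκ (x : G) ((x : G) * c) ((x : G) * c') hd₁ (hD2 c hc) (hD2 c' hc') with h | h | h
    · exact absurd h (hnc c hc hc1)
    · exact absurd h (hnc c' hc' hc'1)
    · obtain ⟨g, hg⟩ := h
      have e : g * ((x : G) * c) * g⁻¹ = (g * (x : G) * g⁻¹) * (g * c * g⁻¹) := by group
      rw [e] at hg
      have hU := minInv_conj hT₁ g
      have hV := minInv_conj hT₂ g
      have hUV : cj g T₁ ≠ cj g (cj g₀ T₁) := by
        intro heq
        apply hg₀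
        have h1 : cj g⁻¹ (cj g T₁) = cj g⁻¹ (cj g (cj g₀ T₁)) := by rw [heq]
        rw [cj_mul, cj_mul, inv_mul_cancel, cj_one, cj_one] at h1
        exact h1.symm
      have hu1 : g * (x : G) * g⁻¹ ≠ 1 := by
        intro h1; apply hd₁1
        have h5 : (x : G) = g⁻¹ * (g * (x : G) * g⁻¹) * g := by group
        rw [h5, h1]; group
      have hv1 : g * c * g⁻¹ ≠ 1 := by
        intro h1; apply hc1
        have h5 : c = g⁻¹ * (g * c * g⁻¹) * g := by group
        rw [h5, h1]; group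
      have hoc : orderOf (g * c * g⁻¹) = orderOf c := orderOf_conj' g c
      have hox : orderOf (g * (x : G) * g⁻¹) = orderOf (x : G) := orderOf_conj' g _
      rcases minInv_two_decomp hcenter hU hV hT₁ hT₂ hUV (Ne.symm hg₀)
        (conj_mem_cj g T₁ x.2) (conj_mem_cj g _ hc) x.2 hc' hu1 hv1 hg with
        ⟨-, -, -, h4⟩ | ⟨-, -, h3, h4⟩
      · rw [← hoc, h4]
      · rw [← hoc, h4, ← h3, hox]
  have hsolv : Group.IsSolvable (cj g₀ T₁) := by
    apply solvable_of_orders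
    intro a b c ha hb hc
    left
    have h5 := hord (a : G) a.2 (b : G) b.2 (fun h => ha (Subtype.ext h))
      (fun h => hb (Subtype.ext h))
    rw [Subgroup.orderOf_coe, Subgroup.orderOf_coe] at h5
    exact h5
  exact hNc (comm_of_minInv_comm hNmin hT₂ (comm_of_solvable_minInv hT₂ hsolv))

/-- Core lemma: a primitive group which is not almost simple and whose derangements form at
most two conjugacy classes has a regular abelian normal subgroup. -/
theorem core (hΩ : 2 ≤ Fintype.card Ω) (hprim : IsPreprimitive G Ω)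
    (hnas : ¬ ∃ T : Subgroup G, T.Normal ∧ IsSimpleGroup T ∧ ¬ IsMulCommutative T ∧
      Subgroup.centralizer (T : Set G) = ⊥)
    (hκ : AtMostTwo G Ω) :
    ∃ N : Subgroup G, N.Normal ∧ N ≠ ⊥ ∧ (∀ x ∈ N, ∀ y ∈ N, x * y = y * x) ∧
      (∀ α ω : Ω, ∃ n ∈ N, n • α = ω) ∧ (∀ n ∈ N, ∀ ω : Ω, n • ω = ω → n = 1) := by
  classical
  haveI : IsPretransitive G Ω := hprim.toIsPretransitive
  haveI : Nontrivial Ω := Fintype.one_lt_card_iff_nontrivial.mp hΩ
  haveI : Nontrivial G := by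
    by_contra hnt
    rw [not_nontrivial_iff_subsingleton] at hnt
    obtain ⟨a, b, hab⟩ := exists_pair_ne Ω
    obtain ⟨g, hg⟩ := exists_smul_eq G a b
    rw [Subsingleton.elim g 1, one_smul] at hg
    exact hab hg
  obtain ⟨N, hNn, hNbot, hNmin⟩ := exists_minNormal'' G
  haveI := hNn
  haveI hNtrI : IsPretransitive N Ω :=
    Cfsg.Agent.Lib.Helper10.isPretransitive_of_normal_of_preprimitive hprim N hNbot
  have hNtr : ∀ α ω : Ω, ∃ n ∈ N, n • α = ω := by
    intro α ω
    obtain ⟨n, hn⟩ := exists_smul_eq N α ω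
    exact ⟨n, n.2, hn⟩
  by_cases hNc : ∀ x ∈ N, ∀ y ∈ N, x * y = y * x
  · refine ⟨N, hNn, hNbot, hNc, hNtr, ?_⟩
    intro n hn ω hω
    have h1 := Cfsg.Agent.Lib.Helper10.stabilizer_eq_bot_of_comm_transitive N hNc ω
    have h2 : (⟨n, hn⟩ : N) ∈ stabilizer N ω := hω
    rw [h1, Subgroup.mem_bot] at h2
    exact congrArg Subtype.val h2
  exfalso
  have hNsolv : ¬ Group.IsSolvable N := fun h => hNc (comm_of_solvable_minNormal hNmin h)
  have hder_ord : ∀ x y z : G, (∀ ω : Ω, x • ω ≠ ω) → (∀ ω : Ω, y • ω ≠ ω) →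
      (∀ ω : Ω, z • ω ≠ ω) →
      orderOf x = orderOf y ∨ orderOf x = orderOf z ∨ orderOf y = orderOf z := by
    intro x y z hx hy hz
    rcases hκ x y z hx hy hz with ⟨g, rfl⟩ | ⟨g, rfl⟩ | ⟨g, rfl⟩
    · left; exact (orderOf_conj' g x).symm
    · right; left; exact (orderOf_conj' g x).symm
    · right; right; exact (orderOf_conj' g y).symm
  have hsemi : ∀ U : Subgroup G, (∀ u ∈ U, ∀ ω : Ω, u • ω = ω → u = 1) →
      Group.IsSolvable U := by
    intro U hU
    apply solvable_of_orders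
    intro a b c ha hb hc
    have hd : ∀ a : U, a ≠ 1 → ∀ ω : Ω, (a : G) • ω ≠ ω := fun a ha ω hω =>
      ha (Subtype.ext (hU a a.2 ω hω))
    have h5 := hder_ord (a : G) (b : G) (c : G) (hd a ha) (hd b hb) (hd c hc)
    rw [Subgroup.orderOf_coe, Subgroup.orderOf_coe, Subgroup.orderOf_coe] at h5
    exact h5
  by_cases hreg : ∀ n ∈ N, ∀ ω : Ω, n • ω = ω → n = 1
  · exact hNsolv (hsemi N hreg)
  push Not at hreg
  obtain ⟨n₀, hn₀, ω₀, hn₀ω, hn₀1⟩ := hreg
  by_cases hsimp : IsSimpleGroup N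
  · by_cases hC : Subgroup.centralizer (N : Set G) = ⊥
    · exact hnas ⟨N, hNn, hsimp, fun hc => hNc (fun x hx y hy =>
        congrArg Subtype.val (hc.is_comm.comm ⟨x, hx⟩ ⟨y, hy⟩)), hC⟩
    · haveI hCtrI : IsPretransitive (Subgroup.centralizer (N : Set G)) Ω :=
        Cfsg.Agent.Lib.Helper10.isPretransitive_of_normal_of_preprimitive hprim _ hC
      apply hn₀1
      exact Cfsg.Agent.Lib.Helper10.eq_one_of_fix_of_centralizes
        (Subgroup.centralizer (N : Set G)) ω₀ hn₀ω (by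
          rw [Subgroup.mem_centralizer_iff]
          intro c hc
          exact (Subgroup.mem_centralizer_iff.mp hc n₀ hn₀).symm)
  · obtain ⟨T₁, hT₁, hT₁N⟩ := exists_minInv N hNbot hsimp
    obtain ⟨g₀, hg₀⟩ : ∃ g₀, cj g₀ T₁ ≠ T₁ := by
      by_contra hall
      push Not at hall
      have hT₁n : T₁.Normal := ⟨fun t ht g => by
        have h0 := conj_mem_cj g T₁ ht
        rw [hall g] at h0; exact h0⟩
      rcases hNmin T₁ hT₁n hT₁.1 with h | h
      · exact hT₁.2.1 h
      · exact hT₁N h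
    by_cases hsr : ∀ t ∈ T₁, ∀ ω : Ω, t • ω = ω → t = 1
    · exact hNc (comm_of_minInv_comm hNmin hT₁ (comm_of_solvable_minInv hT₁ (hsemi T₁ hsr)))
    · push Not at hsr
      obtain ⟨t₀, ht₀, α, ht₀α, ht₀1⟩ := hsr
      exact caseii hprim hκ N hNmin hNc hNtr T₁ hT₁ g₀ hg₀ α t₀ ht₀ ht₀1 ht₀α

/-- a regular subgroup has as many elements as there are points -/
lemma card_of_reg (N : Subgroup G) (hNtr : ∀ α ω : Ω, ∃ n ∈ N, n • α = ω)
    (hNreg : ∀ n ∈ N, ∀ ω : Ω, n • ω = ω → n = 1) (α : Ω) : Nat.card N = Nat.card Ω := by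
  apply Nat.card_eq_of_bijective (fun n : N => (n : G) • α)
  constructor
  · intro a b hab
    have hab' : (a : G) • α = (b : G) • α := hab
    have h1 : ((b : G)⁻¹ * (a : G)) • α = α := by rw [mul_smul, hab', inv_smul_smul]
    have h2 := hNreg _ (N.mul_mem (N.inv_mem b.2) a.2) α h1
    rw [inv_mul_eq_one] at h2
    exact Subtype.ext h2.symm
  · intro ω
    obtain ⟨n, hn, hnω⟩ := hNtr α ω
    exact ⟨⟨n, hn⟩, hnω⟩

/-- if every element of the coset `N g` has a fixed point, then `g` fixes at most one point -/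
lemma fix_unique_of_coset (N : Subgroup G) (hNtr : ∀ α ω : Ω, ∃ n ∈ N, n • α = ω)
    (hNreg : ∀ n ∈ N, ∀ ω : Ω, n • ω = ω → n = 1) (g : G)
    (hfix : ∀ m ∈ N, ∃ ω : Ω, (m * g) • ω = ω) {a b : Ω} (ha : g • a = a) (hb : g • b = b) :
    a = b := by
  classical
  choose m hmN hm using fun ω : Ω => hNtr (g • ω) ω
  have hsurj : Function.Surjective (fun ω : Ω => (⟨m ω, hmN ω⟩ : N)) := by
    intro n
    obtain ⟨ω, hω⟩ := hfix n n.2
    refine ⟨ω, ?_⟩
    apply Subtype.ext
    show m ω = n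
    have h1 : ((n : G)⁻¹ * m ω) • (g • ω) = g • ω := by
      rw [mul_smul, hm ω, inv_smul_eq_iff, ← mul_smul, hω]
    have h2 := hNreg _ (N.mul_mem (N.inv_mem n.2) (hmN ω)) _ h1
    rw [inv_mul_eq_one] at h2
    exact h2.symm
  have hbij := hsurj.bijective_of_nat_card_le (le_of_eq (card_of_reg N hNtr hNreg a).symm)
  have h1 : ∀ c : Ω, g • c = c → m c = 1 := by
    intro c hc
    have h2 := hm c
    rw [hc] at h2
    exact hNreg _ (hmN c) c h2
  apply hbij.1
  apply Subtype.ext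
  show m a = m b
  rw [h1 a ha, h1 b hb]

/-- if every element of the coset `N g` fixes at most one point, then `g` has a fixed point -/
lemma fix_exists_of_coset (N : Subgroup G) (hNtr : ∀ α ω : Ω, ∃ n ∈ N, n • α = ω)
    (hNreg : ∀ n ∈ N, ∀ ω : Ω, n • ω = ω → n = 1) (α : Ω) (g : G)
    (hfix : ∀ m ∈ N, ∀ a b : Ω, (m * g) • a = a → (m * g) • b = b → a = b) :
    ∃ ω : Ω, g • ω = ω := by
  classical
  choose m hmN hm using fun ω : Ω => hNtr (g • ω) ω
  have hinj : Function.Injective (fun ω : Ω => (⟨m ω, hmN ω⟩ : N)) := by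
    intro a b hab
    have hab' : m a = m b := congrArg Subtype.val hab
    apply hfix (m a) (hmN a) a b
    · rw [mul_smul, hm a]
    · rw [hab', mul_smul, hm b]
  have hbij := hinj.bijective_of_nat_card_le (le_of_eq (card_of_reg N hNtr hNreg α))
  obtain ⟨ω, hω⟩ := hbij.2 1
  have h1 : m ω = 1 := congrArg Subtype.val hω
  have h2 := hm ω
  rw [h1, one_smul] at h2
  exact ⟨ω, h2⟩

/-- if all nonidentity elements of the regular abelian normal subgroup are conjugate, then the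
group is 2-transitive -/
lemma two_trans_of_conj (N : Subgroup G) (hNtr : ∀ α ω : Ω, ∃ n ∈ N, n • α = ω)
    (hNc : ∀ x ∈ N, ∀ y ∈ N, x * y = y * x)
    (hconj : ∀ x ∈ N, ∀ y ∈ N, x ≠ 1 → y ≠ 1 → ∃ g : G, g * x * g⁻¹ = y) :
    IsMultiplyPretransitive G Ω 2 := by
  rw [is_two_pretransitive_iff]
  intro a b c d hab hcd
  obtain ⟨x, hx, hxa⟩ := hNtr a b
  obtain ⟨y, hy, hyc⟩ := hNtr c d
  have hx1 : x ≠ 1 := by
    intro h; rw [h, one_smul] at hxa; exact hab hxa
  have hy1 : y ≠ 1 := by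
    intro h; rw [h, one_smul] at hyc; exact hcd hyc
  obtain ⟨g, hg⟩ := hconj x hx y hy hx1 hy1
  obtain ⟨m, hm, hma⟩ := hNtr (g • a) c
  refine ⟨m * g, by rw [mul_smul, hma], ?_⟩
  rw [← hxa]
  calc (m * g) • x • a = (m * (g * x * g⁻¹)) • (g • a) := by simp [mul_smul]
    _ = (m * y) • (g • a) := by rw [hg]
    _ = (y * m) • (g • a) := by rw [hNc m hm y hy]
    _ = d := by rw [mul_smul, hma, hyc]

end

end Cfsg.Agent.Lib.Helper58.DerClasses
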