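import Mathlib
import Cfsg.Agent.Lib.Helper58.BruhatGL
import Cfsg.Agent.Lib.Helper40.Parabolic

set_option autoImplicit false

/-!
The double cosets of Young subgroups (equivalently of parabolic subgroups of `GL_n(q)`) are
counted by nonnegative integer matrices with prescribed row and column sums.
-/

namespace Cfsg.Agent.Lib.Helper58.Tables

open Cfsg.Agent.Lib.Helper58.BruhatGL

/-- the number of nonnegative integer matrices with given row and column sums -/
noncomputable def NN {n : ℕ} (α β : Fin n → ℕ) : ℕ :=
  Nat.card {M : Fin n → Fin n → ℕ // (∀ s, ∑ t, M s t = α s) ∧ (∀ t, ∑ s, M s t = β t)}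

theorem card_range_congr {X T T' : Type*} (f : X → T) (g : X → T')
    (h : ∀ x y, f x = f y ↔ g x = g y) :
    Nat.card (Set.range f) = Nat.card (Set.range g) := by
  have hk : Setoid.ker f = Setoid.ker g := Setoid.ext (fun x y => h x y)
  rw [← Nat.card_congr (Setoid.quotientKerEquivRange f),
    ← Nat.card_congr (Setoid.quotientKerEquivRange g), hk]

theorem sum_card_fiber {X B : Type} [Finite X] [Fintype B] (P : X → Prop) (f : X → B) :
    ∑ t : B, Nat.card {x // f x = t ∧ P x} = Nat.card {x // P x} := by
  rw [← Nat.card_sigma]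
  apply Nat.card_congr
  exact
    { toFun := fun y => ⟨y.2.1, y.2.2.2⟩
      invFun := fun x => ⟨f x.1, ⟨x.1, rfl, x.2⟩⟩
      left_inv := by
        rintro ⟨t, x, rfl, hx⟩
        rfl
      right_inv := fun x => rfl }

/-- a permutation realising a given table of joint fibre sizes -/
theorem exists_perm_table {X A B : Type} [Fintype X] [Fintype A] [Fintype B]
    (b : X → A) (c : X → B) (M : A → B → ℕ)
    (hrow : ∀ s, ∑ t, M s t = Nat.card {x // b x = s})
    (hcol : ∀ t, ∑ s, M s t = Nat.card {x // c x = t}) :
    ∃ σ : Equiv.Perm X, ∀ s t, Nat.card {x // c x = t ∧ b (σ x) = s} = M s t := by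
  classical
  have hfib : ∀ p : A × B, Nat.card {y : (Σ p : A × B, Fin (M p.1 p.2)) // y.1 = p}
      = M p.1 p.2 := by
    intro p
    rw [Nat.card_congr (Equiv.sigmaSubtype (β := fun p : A × B => Fin (M p.1 p.2)) p)]
    simp
  have hfib1 : ∀ s, Nat.card {y : (Σ p : A × B, Fin (M p.1 p.2)) // y.1.1 = s}
      = ∑ t, M s t := by
    intro s
    rw [Nat.card_congr (Equiv.subtypeSigmaEquiv (fun p : A × B => Fin (M p.1 p.2))
      (fun p => p.1 = s)), Nat.card_sigma]
    simp only [Nat.card_eq_fintype_card, Fintype.card_fin]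
    let e : B ≃ {p : A × B // p.1 = s} :=
      { toFun := fun t => ⟨(s, t), rfl⟩
        invFun := fun p => p.1.2
        left_inv := fun t => rfl
        right_inv := by
          rintro ⟨⟨a, t⟩, h⟩
          simp only at h
          subst h
          rfl }
    rw [← Equiv.sum_comp e]
    rfl
  have hfib2 : ∀ t, Nat.card {y : (Σ p : A × B, Fin (M p.1 p.2)) // y.1.2 = t}
      = ∑ s, M s t := by
    intro t
    rw [Nat.card_congr (Equiv.subtypeSigmaEquiv (fun p : A × B => Fin (M p.1 p.2))
      (fun p => p.2 = t)), Nat.card_sigma]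
    simp only [Nat.card_eq_fintype_card, Fintype.card_fin]
    let e : A ≃ {p : A × B // p.2 = t} :=
      { toFun := fun s => ⟨(s, t), rfl⟩
        invFun := fun p => p.1.1
        left_inv := fun s => rfl
        right_inv := by
          rintro ⟨⟨s, b⟩, h⟩
          simp only at h
          subst h
          rfl }
    rw [← Equiv.sum_comp e]
    rfl
  obtain ⟨e₁, he₁⟩ := BruhatGL.exists_equiv_of_fiber_card' b
    (fun y : (Σ p : A × B, Fin (M p.1 p.2)) => y.1.1) (fun s => by
      rw [hfib1]
      exact (hrow s).symm)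
  obtain ⟨e₂, he₂⟩ := BruhatGL.exists_equiv_of_fiber_card' c
    (fun y : (Σ p : A × B, Fin (M p.1 p.2)) => y.1.2) (fun t => by
      rw [hfib2]
      exact (hcol t).symm)
  refine ⟨e₂.trans e₁.symm, ?_⟩
  intro s t
  rw [← hfib (s, t)]
  apply Nat.card_congr
  refine Equiv.subtypeEquiv e₂ ?_
  intro x
  have h1 : b ((e₂.trans e₁.symm) x) = (e₂ x).1.1 := by
    rw [← he₁]
    simp
  rw [h1, ← he₂ x]
  constructor
  · rintro ⟨h2, h3⟩
    exact Prod.ext h3 h2
  · intro h
    rw [h]
    exact ⟨rfl, rfl⟩

variable {n : ℕ}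

theorem card_range_tab (b c : Fin n → ℕ) (hb : ∀ i, b i < n) (hc : ∀ i, c i < n)
    (α β : Fin n → ℕ) (hα : ∀ s : Fin n, Nat.card {i : Fin n // b i = (s : ℕ)} = α s)
    (hβ : ∀ t : Fin n, Nat.card {j : Fin n // c j = (t : ℕ)} = β t) :
    Nat.card (Set.range (tab b c)) = NN α β := by
  obtain ⟨tabF, htabF⟩ : ∃ tabF : Equiv.Perm (Fin n) → Fin n → Fin n → ℕ,
      ∀ σ s t, tabF σ s t = tab b c σ (s : ℕ) (t : ℕ) := ⟨fun σ s t => _, fun σ s t => rfl⟩
  have hker : ∀ σ τ, tab b c σ = tab b c τ ↔ tabF σ = tabF τ := by
    intro σ τ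
    constructor
    · intro h
      funext s t
      rw [htabF, htabF, h]
    · intro h
      funext s t
      by_cases hs : s < n
      · by_cases ht : t < n
        · have := congrFun (congrFun h ⟨s, hs⟩) ⟨t, ht⟩
          rw [htabF, htabF] at this
          exact this
        · have h0 : ∀ ρ : Equiv.Perm (Fin n), tab b c ρ s t = 0 := by
            intro ρ
            unfold tab
            rw [Nat.card_eq_zero]
            left
            constructor
            rintro ⟨j, hj, _⟩
            exact ht (hj ▸ hc j)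
          rw [h0, h0]
      · have h0 : ∀ ρ : Equiv.Perm (Fin n), tab b c ρ s t = 0 := by
          intro ρ
          unfold tab
          rw [Nat.card_eq_zero]
          left
          constructor
          rintro ⟨j, _, hj⟩
          exact hs (hj ▸ hb _)
        rw [h0, h0]
  rw [card_range_congr (tab b c) tabF hker]
  have hset : Set.range tabF
      = {M : Fin n → Fin n → ℕ | (∀ s, ∑ t, M s t = α s) ∧ (∀ t, ∑ s, M s t = β t)} := by
    ext M
    constructor
    · rintro ⟨σ, rfl⟩
      constructor
      · intro s
        simp only [htabF]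
        unfold tab
        have h1 : ∀ t : Fin n, Nat.card {j : Fin n // c j = (t : ℕ) ∧ b (σ j) = (s : ℕ)}
            = Nat.card {j : Fin n // (⟨c j, hc j⟩ : Fin n) = t ∧ b (σ j) = (s : ℕ)} := by
          intro t
          apply Nat.card_congr
          refine Equiv.subtypeEquivRight ?_
          intro j
          rw [Fin.ext_iff]
        simp only [h1]
        rw [sum_card_fiber (fun j : Fin n => b (σ j) = (s : ℕ)) (fun j => (⟨c j, hc j⟩ : Fin n)),
          ← hα s]
        apply Nat.card_congr
        exact Equiv.subtypeEquiv σ (fun j => Iff.rfl)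
      · intro t
        simp only [htabF]
        unfold tab
        have h1 : ∀ s : Fin n, Nat.card {j : Fin n // c j = (t : ℕ) ∧ b (σ j) = (s : ℕ)}
            = Nat.card {j : Fin n // (⟨b (σ j), hb _⟩ : Fin n) = s ∧ c j = (t : ℕ)} := by
          intro s
          apply Nat.card_congr
          refine Equiv.subtypeEquivRight ?_
          intro j
          rw [Fin.ext_iff, and_comm]
        simp only [h1]
        rw [sum_card_fiber (fun j : Fin n => c j = (t : ℕ)) (fun j => (⟨b (σ j), hb _⟩ : Fin n)),
          ← hβ t]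
    · rintro ⟨hr, hcl⟩
      obtain ⟨σ, hσ⟩ := exists_perm_table (fun i : Fin n => (⟨b i, hb i⟩ : Fin n))
        (fun j : Fin n => (⟨c j, hc j⟩ : Fin n)) M (fun s => by
          rw [hr s, ← hα s]
          apply Nat.card_congr
          refine Equiv.subtypeEquivRight ?_
          intro j
          rw [Fin.ext_iff]) (fun t => by
          rw [hcl t, ← hβ t]
          apply Nat.card_congr
          refine Equiv.subtypeEquivRight ?_
          intro j
          rw [Fin.ext_iff])
      refine ⟨σ, ?_⟩
      funext s t
      rw [htabF, ← hσ s t]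
      unfold tab
      apply Nat.card_congr
      refine Equiv.subtypeEquivRight ?_
      intro j
      rw [Fin.ext_iff, Fin.ext_iff]
  rw [hset]
  rfl

/-- the inner product of two flag permutation characters of `GL_n(q)` is the number of
nonnegative integer matrices with the two compositions as margins -/
theorem gl_inner {F : Type*} [Field F] [Fintype (GL (Fin n) F)] (α β : Fin n → ℕ)
    (hα : ∑ i, α i = n) (hβ : ∑ i, β i = n) :
    (Nat.card (GL (Fin n) F) : ℂ)⁻¹ * ∑ g : GL (Fin n) F,
        Cfsg.fixedPointCharacter (Cfsg.parabolicGL n F α) g *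
          Cfsg.fixedPointCharacter (Cfsg.parabolicGL n F β) g = (NN α β : ℂ) := by
  rw [parabolicGL_eq, parabolicGL_eq, gl_count (compLabel_mono α) (compLabel_mono β),
    card_range_tab (Cfsg.compLabel α) (Cfsg.compLabel β)
      (Cfsg.Agent.Lib.Helper40.compLabel_lt α hα) (Cfsg.Agent.Lib.Helper40.compLabel_lt β hβ) α β]
  · intro s
    rw [← Cfsg.Agent.Lib.Helper40.card_compLabel_fibre α hα s, Nat.card_eq_fintype_card,
      Fintype.card_subtype]
  · intro t
    rw [← Cfsg.Agent.Lib.Helper40.card_compLabel_fibre β hβ t, Nat.card_eq_fintype_card,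
      Fintype.card_subtype]

end Cfsg.Agent.Lib.Helper58.Tables
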