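import Mathlib
import Cfsg.Agent.Lib.Helper58.Tables

set_option autoImplicit false

/-!
Orthogonality of the alternating sums of contingency table counts (Jacobi-Trudi and the
bialternant formula), proved with generating functions.
-/

namespace Cfsg.Agent.Lib.Helper58.JTrudi

open Cfsg.Agent.Lib.Helper58.Tables

variable {n : ℕ}

/-- the geometric series in `x_i t` -/
noncomputable def G (n : ℕ) (i : Fin n) : PowerSeries (MvPolynomial (Fin n) ℤ) :=
  PowerSeries.mk (fun m => (MvPolynomial.X i) ^ m)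

theorem coeff_G (i : Fin n) (d : ℕ) : PowerSeries.coeff d (G n i) = (MvPolynomial.X i) ^ d := by
  unfold G
  rw [PowerSeries.coeff_mk]

theorem one_sub_mul_G (i : Fin n) :
    (1 - PowerSeries.C (MvPolynomial.X i : MvPolynomial (Fin n) ℤ) * PowerSeries.X) * G n i = 1 := by
  refine PowerSeries.ext (fun d => ?_)
  rw [sub_mul, one_mul, map_sub, mul_assoc, PowerSeries.coeff_C_mul]
  cases d with
  | zero =>
    rw [PowerSeries.coeff_zero_X_mul, coeff_G]
    simp
  | succ d =>
    rw [PowerSeries.coeff_succ_X_mul, coeff_G, coeff_G, PowerSeries.coeff_one, if_neg (Nat.succ_ne_zero d)]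
    ring

/-- the generating function of the complete homogeneous polynomials -/
noncomputable def H (n : ℕ) : PowerSeries (MvPolynomial (Fin n) ℤ) := ∏ i, G n i

/-- complete homogeneous polynomials -/
noncomputable def h (n d : ℕ) : MvPolynomial (Fin n) ℤ := PowerSeries.coeff d (H n)

/-- the product of the `1 - x_l t` over `l ≠ i` -/
noncomputable def P (n : ℕ) (i : Fin n) : PowerSeries (MvPolynomial (Fin n) ℤ) :=
  ∏ l ∈ Finset.univ.erase i,
    (1 - PowerSeries.C (MvPolynomial.X l : MvPolynomial (Fin n) ℤ) * PowerSeries.X)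

theorem P_mul_H (i : Fin n) : P n i * H n = G n i := by
  unfold P H
  rw [← Finset.mul_prod_erase Finset.univ (G n) (Finset.mem_univ i), mul_left_comm,
    ← Finset.prod_mul_distrib, Finset.prod_eq_one (fun l _ => one_sub_mul_G l), mul_one]

theorem coeff_prod_eq_zero (s : Finset (Fin n)) :
    ∀ k : ℕ, s.card < k → PowerSeries.coeff k (∏ l ∈ s,
      (1 - PowerSeries.C (MvPolynomial.X l : MvPolynomial (Fin n) ℤ) * PowerSeries.X)) = 0 := by
  classical
  induction s using Finset.induction_on with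
  | empty =>
    intro k hk
    rw [Finset.prod_empty, PowerSeries.coeff_one, if_neg]
    rw [Finset.card_empty] at hk
    omega
  | insert a s ha ih =>
    intro k hk
    rw [Finset.card_insert_of_notMem ha] at hk
    rw [Finset.prod_insert ha, sub_mul, one_mul, map_sub, mul_assoc, PowerSeries.coeff_C_mul]
    obtain ⟨k', rfl⟩ : ∃ k', k = k' + 1 := ⟨k - 1, by omega⟩
    rw [PowerSeries.coeff_succ_X_mul, ih (k' + 1) (by omega), ih k' (by omega)]
    simp

theorem coeff_P_eq_zero (i : Fin n) (k : ℕ) (hk : n ≤ k) : PowerSeries.coeff k (P n i) = 0 := by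
  apply coeff_prod_eq_zero
  rw [Finset.card_erase_of_mem (Finset.mem_univ i), Finset.card_univ, Fintype.card_fin]
  have := i.pos
  omega

theorem sum_coeff_P_mul_h (i : Fin n) (d : ℕ) :
    ∑ k : Fin n, PowerSeries.coeff (k : ℕ) (P n i) * (if (k : ℕ) ≤ d then h n (d - k) else 0)
      = MvPolynomial.X i ^ d := by
  have h1 : PowerSeries.coeff d (P n i * H n) = MvPolynomial.X i ^ d := by
    rw [P_mul_H, coeff_G]
  rw [PowerSeries.coeff_mul, Finset.Nat.sum_antidiagonal_eq_sum_range_succ
    (fun k e => PowerSeries.coeff k (P n i) * PowerSeries.coeff e (H n))] at h1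
  rw [← h1, Fin.sum_univ_eq_sum_range
    (fun k => PowerSeries.coeff k (P n i) * (if k ≤ d then h n (d - k) else 0)) n]
  have e1 : ∑ k ∈ Finset.range n,
      PowerSeries.coeff k (P n i) * (if k ≤ d then h n (d - k) else 0)
      = ∑ k ∈ (Finset.range n).filter (fun k => k ≤ d),
        PowerSeries.coeff k (P n i) * PowerSeries.coeff (d - k) (H n) := by
    rw [Finset.sum_filter]
    refine Finset.sum_congr rfl (fun k _ => ?_)
    split_ifs
    · rfl
    · rw [mul_zero]
  have e2 : ∑ k ∈ Finset.range (d + 1),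
      PowerSeries.coeff k (P n i) * PowerSeries.coeff (d - k) (H n)
      = ∑ k ∈ (Finset.range (d + 1)).filter (fun k => k < n),
        PowerSeries.coeff k (P n i) * PowerSeries.coeff (d - k) (H n) := by
    symm
    apply Finset.sum_filter_of_ne
    intro k _ hne
    by_contra hk
    apply hne
    rw [coeff_P_eq_zero i k (not_lt.1 hk), zero_mul]
  rw [e1, e2]
  refine Finset.sum_congr ?_ (fun _ _ => rfl)
  ext k
  simp only [Finset.mem_filter, Finset.mem_range]
  omega

theorem h_zero : h n 0 = 1 := by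
  unfold h H
  rw [PowerSeries.coeff_zero_eq_constantCoeff_apply, map_prod]
  apply Finset.prod_eq_one
  intro i _
  rw [← PowerSeries.coeff_zero_eq_constantCoeff_apply, coeff_G, pow_zero]

/-- the matrix of coefficients of the `P i` -/
noncomputable def A (n : ℕ) : Matrix (Fin n) (Fin n) (MvPolynomial (Fin n) ℤ) :=
  fun i k => PowerSeries.coeff (k : ℕ) (P n i)

/-- the Jacobi-Trudi matrix -/
noncomputable def Hm (μ : Fin n → ℕ) : Matrix (Fin n) (Fin n) (MvPolynomial (Fin n) ℤ) :=
  fun k t => if (k : ℕ) ≤ μ t then h n (μ t - k) else 0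

/-- the alternant matrix -/
noncomputable def V (μ : Fin n → ℕ) : Matrix (Fin n) (Fin n) (MvPolynomial (Fin n) ℤ) :=
  fun i t => MvPolynomial.X i ^ μ t

theorem A_mul_Hm (μ : Fin n → ℕ) : A n * Hm μ = V μ := by
  apply Matrix.ext
  intro i t
  rw [Matrix.mul_apply]
  exact sum_coeff_P_mul_h i (μ t)

theorem det_Hm_delta : (Hm (fun t : Fin n => (t : ℕ))).det = 1 := by
  have htri : (Hm (fun t : Fin n => (t : ℕ))).BlockTriangular id := by
    intro k t hkt
    show (if (k : ℕ) ≤ (t : ℕ) then h n ((t : ℕ) - k) else 0) = 0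
    rw [if_neg]
    exact not_le.2 hkt
  rw [Matrix.det_of_upperTriangular htri]
  apply Finset.prod_eq_one
  intro k _
  show (if (k : ℕ) ≤ (k : ℕ) then h n ((k : ℕ) - k) else 0) = 1
  rw [if_pos le_rfl, Nat.sub_self, h_zero]

/-- the bialternant formula: alternant of `δ` times the Jacobi-Trudi determinant is the
alternant of `μ` -/
theorem det_V_delta_mul (μ : Fin n → ℕ) :
    (V (fun t : Fin n => (t : ℕ))).det * (Hm μ).det = (V μ).det := by
  have h1 := congrArg Matrix.det (A_mul_Hm μ)
  have h2 := congrArg Matrix.det (A_mul_Hm (fun t : Fin n => (t : ℕ)))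
  rw [Matrix.det_mul] at h1 h2
  rw [det_Hm_delta, mul_one] at h2
  rw [← h2, h1]

/-- a vector of exponents as a finitely supported function -/
noncomputable def fs (α : Fin n → ℕ) : Fin n →₀ ℕ := Finsupp.equivFunOnFinite.symm α

theorem fs_apply (α : Fin n → ℕ) (i : Fin n) : fs α i = α i := rfl

theorem fs_injective : Function.Injective (fs : (Fin n → ℕ) → (Fin n →₀ ℕ)) :=
  Finsupp.equivFunOnFinite.symm.injective

theorem prod_X_pow' (l : Fin n →₀ ℕ) :
    ∏ i, (MvPolynomial.X i : MvPolynomial (Fin n) ℤ) ^ l i = MvPolynomial.monomial l 1 := by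
  rw [MvPolynomial.monomial_eq, map_one, one_mul, Finsupp.prod_fintype]
  intro i
  exact pow_zero _

theorem prod_X_pow (α : Fin n → ℕ) :
    ∏ i, (MvPolynomial.X i : MvPolynomial (Fin n) ℤ) ^ α i = MvPolynomial.monomial (fs α) 1 :=
  prod_X_pow' (fs α)

theorem h_eq (d : ℕ) : h n d = ∑ m ∈ Finset.finsuppAntidiag (Finset.univ : Finset (Fin n)) d,
    MvPolynomial.monomial m 1 := by
  classical
  unfold h H
  rw [PowerSeries.coeff_prod]
  refine Finset.sum_congr rfl (fun l _ => ?_)
  simp only [coeff_G]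
  exact prod_X_pow' l

theorem coeff_intCast_mul (m : Fin n →₀ ℕ) (z : ℤ) (p : MvPolynomial (Fin n) ℤ) :
    MvPolynomial.coeff m ((z : MvPolynomial (Fin n) ℤ) * p) = z * MvPolynomial.coeff m p := by
  rw [← zsmul_eq_mul, MvPolynomial.coeff_smul, smul_eq_mul]

/-- the coefficients of products of complete homogeneous polynomials count matrices with
given margins -/
theorem coeff_prod_h (α β : Fin n → ℕ) :
    MvPolynomial.coeff (fs α) (∏ t, h n (β t)) = (NN α β : ℤ) := by
  classical
  simp only [h_eq]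
  rw [Finset.prod_univ_sum]
  simp only [← MvPolynomial.monomial_sum_one]
  rw [MvPolynomial.coeff_sum]
  simp only [MvPolynomial.coeff_monomial]
  rw [Finset.sum_boole]
  congr 1
  rw [← Fintype.card_coe, ← Nat.card_eq_fintype_card]
  unfold NN
  apply Nat.card_congr
  exact
    { toFun := fun f => ⟨fun s t => f.1 t s, by
        have hf := Finset.mem_filter.1 f.2
        constructor
        · intro s
          have h1 := congrArg (fun g : Fin n →₀ ℕ => g s) hf.2
          simp only [Finsupp.finsetSum_apply] at h1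
          exact h1
        · intro t
          exact (Finset.mem_finsuppAntidiag.1 (Fintype.mem_piFinset.1 hf.1 t)).1⟩
      invFun := fun M => ⟨fun t => fs (fun s => M.1 s t), by
        rw [Finset.mem_filter, Fintype.mem_piFinset]
        constructor
        · intro t
          rw [Finset.mem_finsuppAntidiag]
          exact ⟨M.2.2 t, Finset.subset_univ _⟩
        · ext s
          rw [Finsupp.finsetSum_apply]
          exact M.2.1 s⟩
      left_inv := fun f => by
        apply Subtype.ext
        funext t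
        ext s
        rfl
      right_inv := fun M => rfl }

theorem strictMono_perm_eq_one (σ : Equiv.Perm (Fin n)) (hσ : StrictMono σ) : σ = 1 := by
  have hinv : StrictMono σ.symm := by
    intro a b hab
    by_contra hcon
    push Not at hcon
    have h1 := hσ.monotone hcon
    simp only [Equiv.apply_symm_apply] at h1
    exact absurd hab (not_lt.2 h1)
  ext i
  have h1 : i ≤ σ i := hσ.le_apply
  have h2 : i ≤ σ.symm i := hinv.le_apply
  have h3 : σ i ≤ i := by
    have h4 := hσ.monotone h2
    simp only [Equiv.apply_symm_apply] at h4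
    exact h4
  exact congrArg Fin.val (le_antisymm h3 h1)

theorem comp_perm_eq (lam μ : Fin n → ℕ) (hl : StrictMono lam) (hm : StrictMono μ)
    (σ : Equiv.Perm (Fin n)) (h : (fun i => μ (σ i)) = lam) : σ = 1 := by
  apply strictMono_perm_eq_one
  intro i j hij
  by_contra hcon
  push Not at hcon
  have h1 : μ (σ j) ≤ μ (σ i) := hm.monotone hcon
  have h2 : lam i < lam j := hl hij
  rw [← h] at h2
  exact absurd h2 (not_lt.2 h1)

theorem coeff_det_V (lam μ : Fin n → ℕ) (hl : StrictMono lam) (hm : StrictMono μ) :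
    MvPolynomial.coeff (fs lam) (V μ).det = if lam = μ then 1 else 0 := by
  classical
  rw [← Matrix.det_transpose, Matrix.det_apply', MvPolynomial.coeff_sum]
  have hterm : ∀ σ : Equiv.Perm (Fin n), MvPolynomial.coeff (fs lam)
      (((Equiv.Perm.sign σ : ℤ) : MvPolynomial (Fin n) ℤ) * ∏ i, (V μ).transpose (σ i) i)
      = if σ = 1 ∧ lam = μ then 1 else 0 := by
    intro σ
    have hp : ∏ i, (V μ).transpose (σ i) i = MvPolynomial.monomial (fs (fun i => μ (σ i))) 1 :=
      prod_X_pow (fun i => μ (σ i))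
    rw [hp, coeff_intCast_mul, MvPolynomial.coeff_monomial]
    by_cases hc : (fun i => μ (σ i)) = lam
    · have hσ := comp_perm_eq lam μ hl hm σ hc
      subst hσ
      have hlm : lam = μ := by
        rw [← hc]
        rfl
      rw [if_pos (by rw [hc]), if_pos ⟨rfl, hlm⟩]
      simp
    · rw [if_neg (fun hh => hc (fs_injective hh)), if_neg, mul_zero]
      rintro ⟨rfl, rfl⟩
      exact hc rfl
  simp only [hterm]
  by_cases h : lam = μ
  · simp [h]
  · simp [h]

/-- orthogonality of the alternating sums of numbers of matrices with given margins -/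
theorem ortho (lam μ : Fin n → ℕ) (hl : StrictMono lam) (hm : StrictMono μ) :
    ∑ κ : Equiv.Perm (Fin n), ∑ κ' : Equiv.Perm (Fin n),
      (if (∀ i, ((κ i : Fin n) : ℕ) ≤ lam i) then
        (if (∀ t, ((κ' t : Fin n) : ℕ) ≤ μ t) then
          ((Equiv.Perm.sign κ : ℤ) * (Equiv.Perm.sign κ' : ℤ)) *
            (NN (fun i => lam i - ((κ i : Fin n) : ℕ)) (fun t => μ t - ((κ' t : Fin n) : ℕ)) : ℤ)
        else 0) else 0) = if lam = μ then 1 else 0 := by
  classical
  rw [← coeff_det_V lam μ hl hm, ← det_V_delta_mul μ]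
  symm
  have hV : (V (fun t : Fin n => (t : ℕ))).det = ∑ κ : Equiv.Perm (Fin n),
      ((Equiv.Perm.sign κ : ℤ) : MvPolynomial (Fin n) ℤ) *
        MvPolynomial.monomial (fs (fun i => ((κ i : Fin n) : ℕ))) 1 := by
    rw [← Matrix.det_transpose, Matrix.det_apply']
    refine Finset.sum_congr rfl (fun κ _ => ?_)
    congr 1
    exact prod_X_pow (fun i => ((κ i : Fin n) : ℕ))
  have hH : (Hm μ).det = ∑ κ' : Equiv.Perm (Fin n),
      ((Equiv.Perm.sign κ' : ℤ) : MvPolynomial (Fin n) ℤ) *
        (if (∀ t, ((κ' t : Fin n) : ℕ) ≤ μ t) then ∏ t, h n (μ t - ((κ' t : Fin n) : ℕ))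
          else 0) := by
    rw [Matrix.det_apply]
    refine Finset.sum_congr rfl (fun κ' _ => ?_)
    rw [Units.smul_def, zsmul_eq_mul]
    congr 1
    have h1 := Finset.prod_ite_zero (s := (Finset.univ : Finset (Fin n)))
      (p := fun t => ((κ' t : Fin n) : ℕ) ≤ μ t)
      (f := fun t => h n (μ t - ((κ' t : Fin n) : ℕ)))
    simp only [Finset.mem_univ, forall_true_left] at h1
    exact h1
  rw [hV, hH, Finset.sum_mul_sum, MvPolynomial.coeff_sum]
  refine Finset.sum_congr rfl (fun κ _ => ?_)
  rw [MvPolynomial.coeff_sum]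
  refine Finset.sum_congr rfl (fun κ' _ => ?_)
  have hre : ((Equiv.Perm.sign κ : ℤ) : MvPolynomial (Fin n) ℤ) *
        MvPolynomial.monomial (fs (fun i => ((κ i : Fin n) : ℕ))) 1 *
      (((Equiv.Perm.sign κ' : ℤ) : MvPolynomial (Fin n) ℤ) *
        (if (∀ t, ((κ' t : Fin n) : ℕ) ≤ μ t) then ∏ t, h n (μ t - ((κ' t : Fin n) : ℕ))
          else 0))
      = (((Equiv.Perm.sign κ : ℤ) * (Equiv.Perm.sign κ' : ℤ) : ℤ) : MvPolynomial (Fin n) ℤ) *
        (MvPolynomial.monomial (fs (fun i => ((κ i : Fin n) : ℕ))) 1 *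
          (if (∀ t, ((κ' t : Fin n) : ℕ) ≤ μ t) then ∏ t, h n (μ t - ((κ' t : Fin n) : ℕ))
            else 0)) := by
    push_cast
    ring
  rw [hre, coeff_intCast_mul, MvPolynomial.coeff_monomial_mul']
  by_cases h1 : ∀ i, ((κ i : Fin n) : ℕ) ≤ lam i
  · have hle : fs (fun i => ((κ i : Fin n) : ℕ)) ≤ fs lam := fun i => h1 i
    have hsub : fs lam - fs (fun i => ((κ i : Fin n) : ℕ))
        = fs (fun i => lam i - ((κ i : Fin n) : ℕ)) := by
      ext i
      rfl
    rw [if_pos h1, if_pos hle, hsub, one_mul]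
    by_cases h2 : ∀ t, ((κ' t : Fin n) : ℕ) ≤ μ t
    · rw [if_pos h2, if_pos h2, coeff_prod_h]
    · rw [if_neg h2, if_neg h2, MvPolynomial.coeff_zero, mul_zero]
  · have hle : ¬ fs (fun i => ((κ i : Fin n) : ℕ)) ≤ fs lam := fun hh => h1 (fun i => hh i)
    rw [if_neg h1, if_neg hle, mul_zero]

end Cfsg.Agent.Lib.Helper58.JTrudi
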