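import Mathlib

set_option autoImplicit false

namespace Cfsg.Agent.Lib.Helper58

/-- 4 by 4 matrices with natural entries, read modulo 7. -/
structure M4 where
  x00 : ℕ
  x01 : ℕ
  x02 : ℕ
  x03 : ℕ
  x10 : ℕ
  x11 : ℕ
  x12 : ℕ
  x13 : ℕ
  x20 : ℕ
  x21 : ℕ
  x22 : ℕ
  x23 : ℕ
  x30 : ℕ
  x31 : ℕ
  x32 : ℕ
  x33 : ℕ

namespace M4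

/-- Product modulo 7. -/
def mul (x y : M4) : M4 :=
  ⟨(x.x00 * y.x00 + x.x01 * y.x10 + x.x02 * y.x20 + x.x03 * y.x30) % 7,
   (x.x00 * y.x01 + x.x01 * y.x11 + x.x02 * y.x21 + x.x03 * y.x31) % 7,
   (x.x00 * y.x02 + x.x01 * y.x12 + x.x02 * y.x22 + x.x03 * y.x32) % 7,
   (x.x00 * y.x03 + x.x01 * y.x13 + x.x02 * y.x23 + x.x03 * y.x33) % 7,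
   (x.x10 * y.x00 + x.x11 * y.x10 + x.x12 * y.x20 + x.x13 * y.x30) % 7,
   (x.x10 * y.x01 + x.x11 * y.x11 + x.x12 * y.x21 + x.x13 * y.x31) % 7,
   (x.x10 * y.x02 + x.x11 * y.x12 + x.x12 * y.x22 + x.x13 * y.x32) % 7,
   (x.x10 * y.x03 + x.x11 * y.x13 + x.x12 * y.x23 + x.x13 * y.x33) % 7,
   (x.x20 * y.x00 + x.x21 * y.x10 + x.x22 * y.x20 + x.x23 * y.x30) % 7,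
   (x.x20 * y.x01 + x.x21 * y.x11 + x.x22 * y.x21 + x.x23 * y.x31) % 7,
   (x.x20 * y.x02 + x.x21 * y.x12 + x.x22 * y.x22 + x.x23 * y.x32) % 7,
   (x.x20 * y.x03 + x.x21 * y.x13 + x.x22 * y.x23 + x.x23 * y.x33) % 7,
   (x.x30 * y.x00 + x.x31 * y.x10 + x.x32 * y.x20 + x.x33 * y.x30) % 7,
   (x.x30 * y.x01 + x.x31 * y.x11 + x.x32 * y.x21 + x.x33 * y.x31) % 7,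
   (x.x30 * y.x02 + x.x31 * y.x12 + x.x32 * y.x22 + x.x33 * y.x32) % 7,
   (x.x30 * y.x03 + x.x31 * y.x13 + x.x32 * y.x23 + x.x33 * y.x33) % 7⟩

/-- Sum modulo 7. -/
def add (x y : M4) : M4 :=
  ⟨(x.x00 + y.x00) % 7,
   (x.x01 + y.x01) % 7,
   (x.x02 + y.x02) % 7,
   (x.x03 + y.x03) % 7,
   (x.x10 + y.x10) % 7,
   (x.x11 + y.x11) % 7,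
   (x.x12 + y.x12) % 7,
   (x.x13 + y.x13) % 7,
   (x.x20 + y.x20) % 7,
   (x.x21 + y.x21) % 7,
   (x.x22 + y.x22) % 7,
   (x.x23 + y.x23) % 7,
   (x.x30 + y.x30) % 7,
   (x.x31 + y.x31) % 7,
   (x.x32 + y.x32) % 7,
   (x.x33 + y.x33) % 7⟩

/-- The identity. -/
def one : M4 := ⟨1, 0, 0, 0, 0, 1, 0, 0, 0, 0, 1, 0, 0, 0, 0, 1⟩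

/-- Zero. -/
def zero : M4 := ⟨0, 0, 0, 0, 0, 0, 0, 0, 0, 0, 0, 0, 0, 0, 0, 0⟩

/-- Minus the identity. -/
def negOne : M4 := ⟨6, 0, 0, 0, 0, 6, 0, 0, 0, 0, 6, 0, 0, 0, 0, 6⟩

/-- Boolean equality. -/
def beq (x y : M4) : Bool :=
  Nat.beq x.x00 y.x00 &&
  Nat.beq x.x01 y.x01 &&
  Nat.beq x.x02 y.x02 &&
  Nat.beq x.x03 y.x03 &&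
  Nat.beq x.x10 y.x10 &&
  Nat.beq x.x11 y.x11 &&
  Nat.beq x.x12 y.x12 &&
  Nat.beq x.x13 y.x13 &&
  Nat.beq x.x20 y.x20 &&
  Nat.beq x.x21 y.x21 &&
  Nat.beq x.x22 y.x22 &&
  Nat.beq x.x23 y.x23 &&
  Nat.beq x.x30 y.x30 &&
  Nat.beq x.x31 y.x31 &&
  Nat.beq x.x32 y.x32 &&
  Nat.beq x.x33 y.x33

/-- The matrix over `ZMod 7`. -/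
def toMat (x : M4) : Matrix (Fin 4) (Fin 4) (ZMod 7) :=
  !![(x.x00 : ZMod 7), (x.x01 : ZMod 7), (x.x02 : ZMod 7), (x.x03 : ZMod 7);
     (x.x10 : ZMod 7), (x.x11 : ZMod 7), (x.x12 : ZMod 7), (x.x13 : ZMod 7);
     (x.x20 : ZMod 7), (x.x21 : ZMod 7), (x.x22 : ZMod 7), (x.x23 : ZMod 7);
     (x.x30 : ZMod 7), (x.x31 : ZMod 7), (x.x32 : ZMod 7), (x.x33 : ZMod 7)]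

theorem eq_of_beq {x y : M4} (h : beq x y = true) : x = y := by
  rcases x with ⟨a00, a01, a02, a03, a10, a11, a12, a13, a20, a21, a22, a23, a30, a31, a32, a33⟩
  rcases y with ⟨b00, b01, b02, b03, b10, b11, b12, b13, b20, b21, b22, b23, b30, b31, b32, b33⟩
  simp only [beq, Bool.and_eq_true] at h
  obtain ⟨⟨⟨⟨⟨⟨⟨⟨⟨⟨⟨⟨⟨⟨⟨h00, h01⟩, h02⟩, h03⟩, h10⟩, h11⟩, h12⟩, h13⟩, h20⟩, h21⟩, h22⟩, h23⟩, h30⟩,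
    h31⟩, h32⟩, h33⟩ := h
  rw [Nat.eq_of_beq_eq_true h00, Nat.eq_of_beq_eq_true h01, Nat.eq_of_beq_eq_true h02,
    Nat.eq_of_beq_eq_true h03, Nat.eq_of_beq_eq_true h10, Nat.eq_of_beq_eq_true h11,
    Nat.eq_of_beq_eq_true h12, Nat.eq_of_beq_eq_true h13, Nat.eq_of_beq_eq_true h20,
    Nat.eq_of_beq_eq_true h21, Nat.eq_of_beq_eq_true h22, Nat.eq_of_beq_eq_true h23,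
    Nat.eq_of_beq_eq_true h30, Nat.eq_of_beq_eq_true h31, Nat.eq_of_beq_eq_true h32,
    Nat.eq_of_beq_eq_true h33]

theorem toMat_mul (x y : M4) : toMat (mul x y) = toMat x * toMat y := by
  ext i j
  fin_cases i <;> fin_cases j <;>
    simp [toMat, mul, Matrix.mul_apply, Fin.sum_univ_four, ZMod.natCast_mod]

theorem toMat_add (x y : M4) : toMat (add x y) = toMat x + toMat y := by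
  ext i j
  fin_cases i <;> fin_cases j <;> simp [toMat, add, ZMod.natCast_mod]

theorem toMat_one : toMat one = 1 := by
  ext i j
  fin_cases i <;> fin_cases j <;> simp [toMat, one]

theorem toMat_zero : toMat zero = 0 := by
  ext i j
  fin_cases i <;> fin_cases j <;> simp [toMat, zero]

theorem six_eq : (6 : ZMod 7) = -1 := by decide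

theorem toMat_negOne : toMat negOne = -1 := by
  ext i j
  fin_cases i <;> fin_cases j <;> simp [toMat, negOne, six_eq]

end M4

open M4

/-- First generator (order 8). -/
def g1 : M4 := ⟨0, 0, 2, 5, 0, 0, 6, 5, 4, 6, 6, 2, 3, 3, 1, 1⟩

/-- Second generator (order 12). -/
def g2 : M4 := ⟨1, 0, 1, 0, 0, 6, 0, 6, 4, 3, 4, 6, 5, 3, 3, 3⟩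

/-- Inverse of the first generator. -/
def g1i : M4 := ⟨3, 4, 3, 1, 2, 4, 4, 4, 5, 2, 0, 0, 1, 2, 0, 0⟩

/-- Inverse of the second generator. -/
def g2i : M4 := ⟨2, 5, 0, 4, 6, 5, 2, 0, 6, 2, 0, 3, 1, 1, 5, 0⟩

/-- The 240 elements of the group. -/
def elems : List M4 :=
  [⟨0, 0, 0, 3, 0, 0, 2, 0, 0, 3, 6, 0, 2, 0, 0, 6⟩,
   ⟨0, 0, 0, 4, 0, 0, 5, 0, 0, 4, 1, 0, 5, 0, 0, 1⟩,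
   ⟨0, 0, 1, 0, 0, 0, 0, 1, 6, 0, 3, 1, 0, 6, 3, 3⟩,
   ⟨0, 0, 2, 5, 0, 0, 6, 5, 4, 6, 6, 2, 3, 3, 1, 1⟩,
   ⟨0, 0, 3, 6, 0, 0, 3, 4, 2, 2, 3, 2, 1, 5, 1, 4⟩,
   ⟨0, 0, 4, 1, 0, 0, 4, 3, 5, 5, 4, 5, 6, 2, 6, 3⟩,
   ⟨0, 0, 5, 2, 0, 0, 1, 2, 3, 1, 1, 5, 4, 4, 6, 6⟩,
   ⟨0, 0, 6, 0, 0, 0, 0, 6, 1, 0, 4, 6, 0, 1, 4, 4⟩,
   ⟨0, 1, 1, 5, 3, 0, 1, 1, 1, 2, 0, 6, 6, 1, 4, 0⟩,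
   ⟨0, 1, 3, 2, 4, 0, 1, 4, 1, 5, 6, 4, 6, 6, 2, 1⟩,
   ⟨0, 1, 5, 6, 3, 0, 4, 5, 4, 1, 1, 6, 3, 4, 4, 1⟩,
   ⟨0, 3, 0, 0, 2, 0, 0, 0, 1, 2, 0, 4, 6, 1, 5, 0⟩,
   ⟨0, 3, 0, 3, 5, 0, 5, 0, 0, 4, 1, 4, 2, 0, 2, 6⟩,
   ⟨0, 3, 4, 2, 5, 0, 1, 3, 6, 5, 0, 6, 6, 1, 3, 0⟩,
   ⟨0, 3, 4, 5, 2, 0, 1, 4, 0, 0, 0, 4, 0, 0, 5, 0⟩,
   ⟨0, 3, 5, 2, 5, 0, 1, 2, 1, 4, 6, 4, 2, 6, 2, 1⟩,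
   ⟨0, 3, 5, 5, 2, 0, 1, 5, 6, 0, 3, 5, 0, 6, 1, 3⟩,
   ⟨0, 3, 6, 0, 2, 0, 0, 6, 2, 2, 4, 3, 6, 2, 2, 4⟩,
   ⟨0, 3, 6, 3, 5, 0, 5, 1, 5, 5, 2, 6, 6, 2, 3, 5⟩,
   ⟨0, 4, 0, 0, 5, 0, 0, 0, 6, 5, 0, 3, 1, 6, 2, 0⟩,
   ⟨0, 4, 0, 4, 2, 0, 2, 0, 0, 3, 6, 3, 5, 0, 5, 1⟩,
   ⟨0, 4, 1, 0, 5, 0, 0, 1, 5, 5, 3, 4, 1, 5, 5, 3⟩,
   ⟨0, 4, 1, 4, 2, 0, 2, 6, 2, 2, 5, 1, 1, 5, 4, 2⟩,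
   ⟨0, 4, 2, 2, 5, 0, 6, 2, 1, 0, 4, 2, 0, 1, 6, 4⟩,
   ⟨0, 4, 2, 5, 2, 0, 6, 5, 6, 3, 1, 3, 5, 1, 5, 6⟩,
   ⟨0, 4, 3, 2, 5, 0, 6, 3, 0, 0, 0, 3, 0, 0, 2, 0⟩,
   ⟨0, 4, 3, 5, 2, 0, 6, 4, 1, 2, 0, 1, 1, 6, 4, 0⟩,
   ⟨0, 6, 2, 1, 4, 0, 3, 2, 3, 6, 6, 1, 4, 3, 3, 6⟩,
   ⟨0, 6, 4, 5, 3, 0, 6, 3, 6, 2, 1, 3, 1, 1, 5, 6⟩,
   ⟨0, 6, 6, 2, 4, 0, 6, 6, 6, 5, 0, 1, 1, 6, 3, 0⟩,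
   ⟨1, 0, 0, 0, 0, 1, 0, 0, 0, 0, 1, 0, 0, 0, 0, 1⟩,
   ⟨1, 0, 0, 3, 0, 1, 2, 0, 0, 3, 0, 0, 2, 0, 0, 0⟩,
   ⟨1, 0, 1, 0, 0, 6, 0, 6, 4, 3, 4, 6, 5, 3, 3, 3⟩,
   ⟨1, 0, 1, 3, 0, 6, 5, 6, 6, 4, 0, 4, 2, 1, 2, 0⟩,
   ⟨1, 0, 3, 2, 0, 6, 1, 4, 6, 0, 4, 1, 0, 1, 4, 3⟩,
   ⟨1, 0, 3, 6, 0, 6, 3, 4, 4, 6, 1, 3, 3, 3, 5, 6⟩,
   ⟨1, 0, 4, 2, 0, 1, 6, 4, 3, 4, 2, 1, 5, 3, 3, 2⟩,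
   ⟨1, 0, 4, 6, 0, 1, 4, 4, 3, 1, 3, 1, 3, 3, 3, 3⟩,
   ⟨1, 2, 0, 1, 1, 6, 4, 0, 4, 1, 1, 5, 4, 3, 6, 6⟩,
   ⟨1, 2, 0, 4, 6, 1, 5, 0, 2, 4, 5, 5, 5, 2, 1, 5⟩,
   ⟨1, 2, 0, 6, 6, 1, 4, 0, 2, 6, 3, 6, 4, 2, 4, 3⟩,
   ⟨1, 2, 2, 2, 1, 6, 1, 5, 3, 1, 3, 5, 4, 4, 6, 4⟩,
   ⟨1, 2, 2, 4, 6, 1, 5, 2, 4, 4, 6, 5, 5, 4, 1, 6⟩,
   ⟨1, 2, 2, 6, 6, 1, 4, 2, 4, 6, 2, 4, 4, 4, 5, 2⟩,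
   ⟨1, 3, 0, 3, 5, 6, 5, 0, 2, 1, 6, 5, 4, 5, 6, 1⟩,
   ⟨1, 3, 1, 4, 5, 6, 2, 6, 0, 4, 3, 5, 2, 0, 6, 4⟩,
   ⟨1, 3, 3, 1, 5, 6, 4, 4, 6, 3, 6, 0, 5, 1, 0, 1⟩,
   ⟨1, 3, 3, 2, 5, 6, 1, 4, 4, 3, 2, 0, 5, 3, 0, 5⟩,
   ⟨1, 3, 5, 5, 5, 6, 6, 2, 5, 2, 0, 3, 1, 2, 5, 0⟩,
   ⟨1, 3, 5, 6, 5, 6, 3, 2, 3, 2, 5, 2, 1, 4, 1, 2⟩,
   ⟨1, 4, 1, 0, 2, 6, 0, 6, 6, 0, 6, 0, 0, 1, 0, 1⟩,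
   ⟨1, 4, 2, 6, 2, 6, 3, 5, 1, 3, 1, 4, 5, 6, 2, 6⟩,
   ⟨1, 4, 3, 5, 2, 6, 6, 4, 3, 6, 5, 2, 3, 4, 1, 2⟩,
   ⟨1, 4, 4, 6, 2, 6, 3, 3, 1, 2, 2, 2, 1, 6, 1, 5⟩,
   ⟨1, 4, 5, 5, 2, 6, 6, 2, 3, 5, 4, 6, 6, 4, 3, 3⟩,
   ⟨1, 4, 6, 4, 2, 6, 2, 1, 5, 1, 1, 4, 4, 2, 2, 6⟩,
   ⟨1, 5, 0, 4, 6, 6, 2, 0, 4, 5, 2, 2, 6, 3, 1, 5⟩,
   ⟨1, 5, 3, 4, 1, 1, 5, 3, 0, 6, 2, 1, 4, 0, 3, 2⟩,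
   ⟨1, 5, 6, 4, 6, 6, 2, 1, 2, 6, 3, 4, 3, 5, 2, 4⟩,
   ⟨1, 6, 2, 1, 4, 1, 3, 2, 3, 6, 0, 1, 4, 3, 3, 0⟩,
   ⟨1, 6, 2, 4, 4, 1, 5, 2, 3, 2, 6, 1, 6, 3, 3, 6⟩,
   ⟨1, 6, 2, 6, 4, 1, 4, 2, 3, 4, 2, 0, 5, 3, 0, 2⟩,
   ⟨1, 6, 3, 1, 4, 1, 3, 3, 2, 6, 3, 2, 4, 2, 6, 3⟩,
   ⟨1, 6, 3, 4, 4, 1, 5, 3, 2, 2, 2, 2, 6, 2, 6, 2⟩,
   ⟨1, 6, 3, 6, 4, 1, 4, 3, 2, 4, 5, 1, 5, 2, 3, 5⟩,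
   ⟨2, 0, 3, 3, 0, 2, 2, 3, 2, 5, 5, 0, 1, 2, 0, 5⟩,
   ⟨2, 0, 4, 2, 0, 5, 1, 3, 3, 3, 1, 0, 5, 4, 0, 6⟩,
   ⟨2, 0, 5, 1, 0, 2, 3, 5, 4, 3, 1, 6, 2, 4, 4, 1⟩,
   ⟨2, 1, 1, 3, 4, 5, 5, 6, 6, 4, 2, 1, 2, 1, 4, 5⟩,
   ⟨2, 1, 2, 5, 3, 2, 1, 2, 5, 3, 5, 6, 2, 5, 4, 5⟩,
   ⟨2, 1, 3, 5, 3, 2, 1, 3, 4, 3, 1, 0, 2, 4, 0, 1⟩,
   ⟨2, 1, 4, 3, 3, 2, 2, 4, 0, 1, 1, 5, 3, 0, 1, 1⟩,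
   ⟨2, 1, 5, 3, 3, 2, 2, 5, 6, 1, 4, 6, 3, 6, 4, 4⟩,
   ⟨2, 1, 6, 5, 4, 5, 6, 1, 2, 5, 3, 6, 6, 5, 3, 4⟩,
   ⟨2, 2, 0, 4, 6, 2, 5, 0, 2, 4, 6, 5, 5, 2, 1, 6⟩,
   ⟨2, 2, 1, 4, 1, 5, 2, 6, 3, 5, 1, 2, 6, 4, 1, 6⟩,
   ⟨2, 2, 2, 2, 6, 2, 6, 2, 4, 2, 2, 4, 6, 4, 5, 2⟩,
   ⟨2, 2, 3, 2, 1, 5, 1, 4, 0, 4, 0, 4, 2, 0, 2, 0⟩,
   ⟨2, 2, 3, 3, 1, 5, 5, 4, 3, 1, 5, 6, 4, 4, 3, 2⟩,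
   ⟨2, 2, 4, 3, 6, 2, 2, 4, 5, 5, 1, 6, 1, 5, 4, 1⟩,
   ⟨2, 2, 5, 1, 1, 5, 4, 2, 0, 0, 4, 1, 0, 0, 4, 3⟩,
   ⟨2, 2, 6, 1, 6, 2, 3, 6, 0, 3, 4, 5, 2, 0, 1, 4⟩,
   ⟨2, 4, 2, 1, 5, 2, 3, 2, 6, 1, 4, 3, 3, 6, 2, 4⟩,
   ⟨2, 4, 2, 5, 5, 2, 1, 2, 6, 5, 5, 3, 1, 6, 2, 5⟩,
   ⟨2, 4, 5, 1, 5, 2, 3, 5, 3, 1, 1, 2, 3, 3, 6, 1⟩,
   ⟨2, 4, 5, 5, 5, 2, 1, 5, 3, 5, 2, 2, 1, 3, 6, 2⟩,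
   ⟨2, 4, 6, 1, 5, 2, 3, 6, 2, 1, 4, 3, 3, 2, 2, 4⟩,
   ⟨2, 4, 6, 5, 5, 2, 1, 6, 2, 5, 5, 3, 1, 2, 2, 5⟩,
   ⟨2, 5, 0, 0, 6, 5, 0, 0, 1, 3, 3, 1, 5, 6, 4, 4⟩,
   ⟨2, 5, 0, 4, 6, 5, 2, 0, 6, 2, 0, 3, 1, 1, 5, 0⟩,
   ⟨2, 5, 3, 3, 6, 5, 5, 4, 1, 4, 3, 5, 2, 6, 6, 4⟩,
   ⟨2, 5, 3, 6, 6, 5, 3, 4, 3, 5, 6, 3, 6, 4, 5, 1⟩,
   ⟨2, 5, 5, 0, 1, 2, 0, 5, 5, 3, 5, 2, 2, 5, 6, 5⟩,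
   ⟨2, 5, 5, 3, 1, 2, 2, 5, 5, 6, 4, 2, 4, 5, 6, 4⟩,
   ⟨2, 6, 3, 2, 4, 2, 6, 3, 2, 0, 5, 1, 0, 2, 3, 5⟩,
   ⟨2, 6, 3, 4, 3, 5, 2, 4, 1, 4, 5, 5, 2, 6, 6, 2⟩,
   ⟨2, 6, 3, 6, 4, 2, 4, 3, 2, 4, 6, 1, 5, 2, 3, 6⟩,
   ⟨2, 6, 6, 1, 4, 2, 3, 6, 6, 1, 4, 1, 3, 6, 3, 4⟩,
   ⟨2, 6, 6, 3, 3, 5, 5, 1, 3, 6, 1, 0, 3, 4, 0, 6⟩,
   ⟨2, 6, 6, 5, 4, 2, 1, 6, 6, 5, 5, 1, 1, 6, 3, 5⟩,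
   ⟨3, 1, 1, 2, 3, 3, 6, 1, 3, 2, 4, 6, 6, 3, 4, 4⟩,
   ⟨3, 1, 1, 5, 4, 4, 6, 6, 6, 0, 4, 5, 0, 1, 6, 3⟩,
   ⟨3, 1, 3, 1, 3, 3, 3, 3, 4, 6, 1, 0, 4, 4, 0, 1⟩,
   ⟨3, 1, 3, 5, 4, 4, 6, 4, 5, 5, 6, 3, 6, 2, 5, 1⟩,
   ⟨3, 1, 5, 3, 3, 3, 2, 5, 6, 1, 5, 6, 3, 6, 4, 5⟩,
   ⟨3, 1, 5, 6, 4, 4, 3, 2, 4, 5, 1, 3, 6, 3, 5, 6⟩,
   ⟨3, 1, 6, 0, 3, 3, 0, 6, 1, 0, 0, 0, 0, 1, 0, 0⟩,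
   ⟨3, 1, 6, 4, 4, 4, 2, 1, 0, 0, 2, 5, 0, 0, 6, 5⟩,
   ⟨3, 2, 4, 3, 1, 4, 5, 3, 0, 4, 2, 5, 2, 0, 6, 5⟩,
   ⟨3, 2, 4, 6, 6, 3, 4, 4, 5, 1, 1, 6, 3, 5, 4, 1⟩,
   ⟨3, 2, 5, 2, 1, 4, 1, 2, 2, 0, 4, 2, 0, 5, 1, 3⟩,
   ⟨3, 2, 5, 5, 1, 4, 6, 2, 4, 1, 0, 0, 4, 3, 0, 0⟩,
   ⟨3, 2, 6, 1, 6, 3, 3, 6, 0, 3, 5, 5, 2, 0, 1, 5⟩,
   ⟨3, 2, 6, 4, 1, 4, 2, 1, 6, 4, 4, 5, 2, 1, 6, 3⟩,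
   ⟨3, 3, 1, 0, 5, 4, 0, 6, 5, 6, 6, 4, 3, 2, 2, 1⟩,
   ⟨3, 3, 1, 2, 2, 3, 6, 1, 5, 0, 4, 4, 0, 5, 5, 4⟩,
   ⟨3, 3, 1, 4, 5, 4, 2, 6, 3, 5, 3, 6, 6, 4, 3, 4⟩,
   ⟨3, 4, 2, 0, 5, 3, 0, 2, 6, 2, 4, 3, 6, 6, 2, 4⟩,
   ⟨3, 4, 2, 1, 5, 3, 3, 2, 6, 1, 5, 3, 3, 6, 2, 5⟩,
   ⟨3, 4, 3, 1, 2, 4, 4, 4, 5, 2, 0, 0, 1, 2, 0, 0⟩,
   ⟨3, 4, 5, 0, 2, 4, 0, 2, 5, 5, 4, 4, 6, 2, 2, 3⟩,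
   ⟨3, 4, 6, 0, 5, 3, 0, 6, 2, 2, 0, 4, 6, 2, 5, 0⟩,
   ⟨3, 4, 6, 1, 5, 3, 3, 6, 2, 1, 5, 3, 3, 2, 2, 5⟩,
   ⟨3, 5, 1, 2, 6, 4, 1, 6, 6, 3, 3, 1, 5, 1, 4, 4⟩,
   ⟨3, 5, 2, 2, 1, 3, 6, 2, 1, 0, 0, 3, 0, 1, 2, 0⟩,
   ⟨3, 5, 3, 6, 6, 4, 3, 4, 5, 2, 4, 4, 1, 2, 2, 3⟩,
   ⟨3, 5, 4, 6, 6, 4, 3, 3, 0, 1, 3, 2, 4, 0, 1, 4⟩,
   ⟨3, 5, 5, 3, 1, 3, 2, 5, 5, 6, 5, 2, 4, 5, 6, 5⟩,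
   ⟨3, 5, 6, 3, 6, 4, 5, 1, 6, 0, 6, 4, 0, 1, 2, 1⟩,
   ⟨3, 6, 0, 0, 3, 4, 0, 0, 1, 3, 5, 5, 5, 6, 6, 2⟩,
   ⟨3, 6, 0, 1, 4, 3, 3, 0, 5, 1, 1, 2, 3, 5, 6, 1⟩,
   ⟨3, 6, 1, 0, 3, 4, 0, 6, 3, 2, 4, 3, 1, 4, 5, 3⟩,
   ⟨3, 6, 5, 2, 3, 4, 1, 2, 4, 4, 6, 3, 2, 3, 5, 1⟩,
   ⟨3, 6, 6, 1, 4, 3, 3, 6, 6, 1, 5, 1, 3, 6, 3, 5⟩,
   ⟨3, 6, 6, 2, 3, 4, 1, 1, 6, 3, 5, 1, 5, 1, 4, 2⟩,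
   ⟨4, 1, 0, 0, 4, 3, 0, 0, 6, 4, 2, 2, 2, 1, 1, 5⟩,
   ⟨4, 1, 0, 6, 3, 4, 4, 0, 2, 6, 6, 5, 4, 2, 1, 6⟩,
   ⟨4, 1, 1, 5, 4, 3, 6, 6, 1, 4, 2, 6, 2, 6, 3, 5⟩,
   ⟨4, 1, 1, 6, 3, 4, 4, 1, 1, 6, 2, 6, 4, 1, 4, 2⟩,
   ⟨4, 1, 2, 5, 4, 3, 6, 5, 3, 3, 1, 4, 5, 4, 2, 6⟩,
   ⟨4, 1, 6, 0, 4, 3, 0, 1, 4, 5, 3, 4, 6, 3, 2, 4⟩,
   ⟨4, 2, 1, 4, 1, 3, 2, 6, 1, 0, 1, 3, 0, 6, 5, 6⟩,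
   ⟨4, 2, 2, 4, 6, 4, 5, 2, 2, 1, 2, 5, 3, 2, 1, 2⟩,
   ⟨4, 2, 3, 1, 1, 3, 4, 4, 0, 6, 4, 5, 3, 0, 6, 3⟩,
   ⟨4, 2, 4, 1, 1, 3, 4, 3, 2, 5, 3, 3, 6, 5, 5, 4⟩,
   ⟨4, 2, 5, 5, 6, 4, 1, 5, 6, 0, 0, 4, 0, 6, 5, 0⟩,
   ⟨4, 2, 6, 5, 1, 3, 6, 1, 1, 4, 4, 6, 2, 6, 3, 3⟩,
   ⟨4, 3, 1, 0, 2, 4, 0, 1, 5, 5, 0, 3, 1, 5, 2, 0⟩,
   ⟨4, 3, 1, 6, 2, 4, 4, 1, 5, 6, 2, 4, 4, 5, 5, 2⟩,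
   ⟨4, 3, 2, 0, 5, 3, 0, 5, 2, 2, 3, 3, 1, 5, 5, 4⟩,
   ⟨4, 3, 4, 6, 5, 3, 3, 3, 2, 5, 0, 0, 6, 5, 0, 0⟩,
   ⟨4, 3, 5, 0, 2, 4, 0, 5, 1, 5, 3, 4, 1, 1, 5, 3⟩,
   ⟨4, 3, 5, 6, 2, 4, 4, 5, 1, 6, 2, 4, 4, 1, 5, 2⟩,
   ⟨4, 4, 6, 0, 2, 3, 0, 1, 2, 1, 1, 3, 4, 5, 5, 6⟩,
   ⟨4, 4, 6, 3, 2, 3, 5, 1, 4, 2, 4, 1, 1, 3, 4, 3⟩,
   ⟨4, 4, 6, 5, 5, 4, 1, 6, 2, 0, 3, 3, 0, 2, 2, 3⟩,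
   ⟨4, 5, 1, 3, 6, 3, 5, 6, 1, 3, 3, 2, 5, 6, 1, 4⟩,
   ⟨4, 5, 1, 6, 1, 4, 4, 1, 0, 4, 2, 2, 5, 0, 6, 2⟩,
   ⟨4, 5, 2, 2, 6, 3, 1, 5, 3, 6, 0, 0, 3, 4, 0, 0⟩,
   ⟨4, 5, 2, 5, 6, 3, 6, 5, 5, 0, 3, 5, 0, 2, 6, 4⟩,
   ⟨4, 5, 3, 1, 1, 4, 3, 3, 2, 6, 6, 1, 4, 2, 3, 6⟩,
   ⟨4, 5, 3, 4, 6, 3, 2, 4, 0, 3, 5, 2, 5, 0, 1, 2⟩,
   ⟨4, 6, 1, 0, 4, 4, 0, 1, 6, 0, 0, 0, 0, 6, 0, 0⟩,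
   ⟨4, 6, 1, 3, 3, 3, 5, 6, 0, 0, 5, 2, 0, 0, 1, 2⟩,
   ⟨4, 6, 2, 1, 3, 3, 4, 5, 3, 2, 6, 4, 1, 4, 2, 1⟩,
   ⟨4, 6, 2, 4, 4, 4, 5, 2, 1, 6, 2, 1, 4, 1, 3, 2⟩,
   ⟨4, 6, 4, 2, 3, 3, 1, 3, 2, 2, 1, 4, 1, 5, 2, 6⟩,
   ⟨4, 6, 4, 6, 4, 4, 4, 4, 3, 1, 6, 0, 3, 3, 0, 6⟩,
   ⟨4, 6, 6, 2, 3, 3, 1, 1, 1, 0, 3, 2, 0, 6, 1, 4⟩,
   ⟨4, 6, 6, 5, 4, 4, 1, 6, 4, 5, 3, 1, 1, 4, 3, 3⟩,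
   ⟨5, 0, 2, 6, 0, 5, 4, 2, 3, 4, 6, 1, 5, 3, 3, 6⟩,
   ⟨5, 0, 3, 5, 0, 2, 6, 4, 4, 4, 6, 0, 2, 3, 0, 1⟩,
   ⟨5, 0, 4, 4, 0, 5, 5, 4, 5, 2, 2, 0, 6, 5, 0, 2⟩,
   ⟨5, 1, 1, 2, 3, 5, 6, 1, 1, 2, 2, 6, 6, 1, 4, 2⟩,
   ⟨5, 1, 1, 4, 4, 2, 2, 6, 4, 1, 6, 0, 4, 3, 0, 1⟩,
   ⟨5, 1, 1, 6, 3, 5, 4, 1, 1, 6, 3, 6, 4, 1, 4, 3⟩,
   ⟨5, 1, 4, 1, 3, 5, 3, 4, 5, 3, 1, 6, 2, 5, 4, 1⟩,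
   ⟨5, 1, 4, 3, 4, 2, 5, 3, 6, 3, 2, 2, 5, 1, 1, 5⟩,
   ⟨5, 1, 4, 5, 3, 5, 1, 4, 5, 0, 2, 6, 0, 5, 4, 2⟩,
   ⟨5, 2, 0, 0, 1, 2, 0, 0, 6, 4, 4, 6, 2, 1, 3, 3⟩,
   ⟨5, 2, 0, 3, 1, 2, 5, 0, 1, 5, 0, 4, 6, 6, 2, 0⟩,
   ⟨5, 2, 2, 0, 6, 5, 0, 2, 2, 4, 2, 5, 5, 2, 1, 2⟩,
   ⟨5, 2, 2, 4, 6, 5, 5, 2, 2, 1, 3, 5, 3, 2, 1, 3⟩,
   ⟨5, 2, 4, 1, 1, 2, 4, 3, 4, 2, 1, 4, 1, 3, 2, 6⟩,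
   ⟨5, 2, 4, 4, 1, 2, 2, 3, 6, 3, 4, 2, 5, 1, 1, 3⟩,
   ⟨5, 3, 1, 2, 2, 5, 6, 1, 5, 2, 2, 4, 6, 5, 5, 2⟩,
   ⟨5, 3, 1, 6, 2, 5, 4, 1, 5, 6, 3, 4, 4, 5, 5, 3⟩,
   ⟨5, 3, 2, 2, 2, 5, 6, 2, 4, 2, 5, 5, 6, 4, 1, 5⟩,
   ⟨5, 3, 2, 6, 2, 5, 4, 2, 4, 6, 6, 5, 4, 4, 1, 6⟩,
   ⟨5, 3, 5, 2, 2, 5, 6, 5, 1, 2, 2, 4, 6, 1, 5, 2⟩,
   ⟨5, 3, 5, 6, 2, 5, 4, 5, 1, 6, 3, 4, 4, 1, 5, 3⟩,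
   ⟨5, 5, 0, 3, 1, 5, 2, 0, 5, 3, 1, 2, 2, 5, 6, 1⟩,
   ⟨5, 5, 1, 6, 1, 5, 4, 1, 0, 4, 3, 2, 5, 0, 6, 3⟩,
   ⟨5, 5, 2, 6, 6, 2, 3, 5, 0, 0, 3, 6, 0, 0, 3, 4⟩,
   ⟨5, 5, 3, 4, 1, 5, 5, 3, 2, 2, 6, 1, 6, 2, 3, 6⟩,
   ⟨5, 5, 4, 4, 6, 2, 2, 3, 4, 6, 2, 1, 3, 3, 4, 5⟩,
   ⟨5, 5, 4, 5, 6, 2, 6, 3, 0, 3, 0, 3, 5, 0, 5, 0⟩,
   ⟨5, 5, 5, 5, 1, 5, 1, 5, 3, 5, 5, 3, 1, 3, 2, 5⟩,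
   ⟨5, 5, 6, 3, 6, 2, 5, 1, 4, 2, 6, 5, 1, 3, 6, 1⟩,
   ⟨5, 6, 1, 2, 3, 2, 1, 6, 5, 2, 4, 1, 1, 2, 4, 3⟩,
   ⟨5, 6, 2, 4, 4, 5, 5, 2, 1, 6, 3, 1, 4, 1, 3, 3⟩,
   ⟨5, 6, 3, 4, 4, 5, 5, 3, 0, 6, 6, 2, 4, 0, 6, 6⟩,
   ⟨5, 6, 4, 2, 4, 5, 6, 4, 3, 4, 6, 0, 5, 3, 0, 6⟩,
   ⟨5, 6, 5, 2, 4, 5, 6, 5, 2, 4, 2, 1, 5, 2, 3, 2⟩,
   ⟨5, 6, 6, 4, 3, 2, 2, 1, 1, 3, 5, 6, 5, 6, 3, 2⟩,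
   ⟨6, 0, 0, 0, 0, 6, 0, 0, 0, 0, 6, 0, 0, 0, 0, 6⟩,
   ⟨6, 0, 0, 4, 0, 6, 5, 0, 0, 4, 0, 0, 5, 0, 0, 0⟩,
   ⟨6, 0, 3, 1, 0, 6, 3, 3, 4, 6, 4, 6, 4, 4, 4, 4⟩,
   ⟨6, 0, 3, 5, 0, 6, 1, 3, 4, 3, 5, 6, 2, 4, 4, 5⟩,
   ⟨6, 0, 4, 1, 0, 1, 4, 3, 3, 1, 6, 4, 4, 4, 2, 1⟩,
   ⟨6, 0, 4, 5, 0, 1, 6, 3, 1, 0, 3, 6, 0, 6, 3, 4⟩,
   ⟨6, 0, 6, 0, 0, 1, 0, 1, 3, 4, 3, 1, 2, 4, 4, 4⟩,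
   ⟨6, 0, 6, 4, 0, 1, 2, 1, 1, 3, 0, 3, 5, 6, 5, 0⟩,
   ⟨6, 1, 4, 1, 3, 6, 3, 4, 5, 3, 2, 6, 2, 5, 4, 2⟩,
   ⟨6, 1, 4, 3, 3, 6, 2, 4, 5, 5, 5, 5, 1, 5, 1, 5⟩,
   ⟨6, 1, 4, 6, 3, 6, 4, 4, 5, 1, 4, 5, 3, 5, 1, 4⟩,
   ⟨6, 1, 5, 1, 3, 6, 3, 5, 4, 3, 5, 0, 2, 4, 0, 5⟩,
   ⟨6, 1, 5, 3, 3, 6, 2, 5, 4, 5, 1, 6, 1, 4, 4, 1⟩,
   ⟨6, 1, 5, 6, 3, 6, 4, 5, 4, 1, 0, 6, 3, 4, 4, 0⟩,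
   ⟨6, 2, 0, 3, 1, 1, 5, 0, 3, 2, 5, 5, 1, 4, 6, 2⟩,
   ⟨6, 2, 1, 3, 1, 1, 5, 6, 5, 1, 4, 3, 4, 2, 5, 3⟩,
   ⟨6, 2, 4, 3, 6, 6, 2, 4, 0, 1, 5, 6, 3, 0, 4, 5⟩,
   ⟨6, 3, 1, 3, 5, 1, 5, 6, 2, 6, 6, 3, 3, 5, 5, 1⟩,
   ⟨6, 3, 2, 2, 5, 1, 1, 5, 4, 2, 3, 1, 1, 3, 4, 4⟩,
   ⟨6, 3, 3, 1, 5, 1, 4, 4, 6, 5, 5, 5, 6, 1, 6, 2⟩,
   ⟨6, 3, 4, 2, 5, 1, 1, 3, 4, 1, 2, 5, 4, 3, 6, 5⟩,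
   ⟨6, 3, 5, 1, 5, 1, 4, 2, 6, 4, 6, 3, 2, 1, 5, 1⟩,
   ⟨6, 3, 6, 0, 5, 1, 0, 1, 1, 0, 1, 0, 0, 6, 0, 6⟩,
   ⟨6, 4, 0, 4, 2, 1, 2, 0, 5, 6, 1, 2, 3, 2, 1, 6⟩,
   ⟨6, 4, 2, 1, 2, 1, 4, 5, 4, 5, 2, 5, 6, 3, 6, 5⟩,
   ⟨6, 4, 2, 2, 2, 1, 1, 5, 2, 5, 0, 4, 6, 5, 2, 0⟩,
   ⟨6, 4, 4, 5, 2, 1, 6, 3, 3, 4, 5, 0, 2, 4, 0, 2⟩,
   ⟨6, 4, 4, 6, 2, 1, 3, 3, 1, 4, 1, 0, 2, 6, 0, 6⟩,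
   ⟨6, 4, 6, 3, 2, 1, 5, 1, 0, 3, 4, 2, 5, 0, 1, 3⟩,
   ⟨6, 5, 0, 1, 1, 6, 3, 0, 5, 1, 4, 1, 3, 5, 3, 4⟩,
   ⟨6, 5, 0, 3, 1, 6, 2, 0, 5, 3, 2, 2, 2, 5, 6, 2⟩,
   ⟨6, 5, 0, 6, 6, 1, 3, 0, 3, 6, 6, 2, 3, 4, 1, 1⟩,
   ⟨6, 5, 5, 1, 1, 6, 3, 5, 3, 1, 5, 3, 3, 3, 2, 5⟩,
   ⟨6, 5, 5, 3, 1, 6, 2, 5, 3, 3, 1, 2, 2, 3, 6, 1⟩,
   ⟨6, 5, 5, 5, 6, 1, 6, 2, 4, 6, 4, 2, 3, 3, 1, 3⟩]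

/-- Membership test. -/
def memL (c : M4) : Bool := elems.any (fun d => beq d c)

/-- The list is closed under right multiplication by the generators and their inverses. -/
def closedCheck : Bool :=
  elems.all (fun c => memL (mul c g1) && memL (mul c g2) && memL (mul c g1i) && memL (mul c g2i))

/-- The disjunction of polynomial identities satisfied by every element. -/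
def chk (c : M4) : Bool :=
  beq c one ||
  beq (add one (add c (mul c c))) zero ||
  beq (add one (add c (add (mul c c) (add (mul (mul c c) c) (mul (mul (mul c c) c) c))))) zero ||
  beq c negOne ||
  beq (mul c c) negOne ||
  beq (mul (mul c c) c) negOne ||
  beq (mul (mul (mul c c) c) c) negOne ||
  beq (mul (mul (mul (mul c c) c) c) c) negOne ||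
  beq (mul (mul (mul (mul (mul c c) c) c) c) c) negOne

theorem closedCheck_eq : closedCheck = true := by decide +kernel

theorem chk_all : elems.all chk = true := by decide +kernel

theorem memL_one : memL one = true := by decide +kernel

theorem g1_inv : beq (mul g1 g1i) one = true ∧ beq (mul g1i g1) one = true := by decide +kernel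

theorem g2_inv : beq (mul g2 g2i) one = true ∧ beq (mul g2i g2) one = true := by decide +kernel

/-- `g1 ^ 4 = -1`. -/
theorem g1_pow : beq (mul (mul (mul g1 g1) g1) g1) negOne = true := by decide +kernel

/-- `g2 ^ 2`. -/
def g2sq : M4 := mul g2 g2

/-- `g2 ^ 6 = -1` and `1 + g2 ^ 4 + g2 ^ 8 = 0`. -/
theorem g2_pow : beq (mul (mul g2sq g2sq) g2sq) negOne = true ∧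
    beq (add one (add (mul g2sq g2sq) (mul (mul g2sq g2sq) (mul g2sq g2sq)))) zero = true := by
  decide +kernel

/-- The product of the generators (order 10). -/
def g3 : M4 := mul g1 g2

/-- `g3 ^ 2`. -/
def g3sq : M4 := mul g3 g3

/-- `g3 ^ 5 = -1` and `1 + g3 ^ 2 + g3 ^ 4 + g3 ^ 6 + g3 ^ 8 = 0`. -/
theorem g3_pow : beq (mul (mul g3sq g3sq) g3) negOne = true ∧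
    beq (add one (add g3sq (add (mul g3sq g3sq) (add (mul (mul g3sq g3sq) g3sq)
      (mul (mul g3sq g3sq) (mul g3sq g3sq)))))) zero = true := by
  decide +kernel

end Cfsg.Agent.Lib.Helper58
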