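import Mathlib

set_option autoImplicit false

namespace Cfsg.Agent.Lib.Helper58

open OnePoint Matrix

section

variable {F : Type*} [Field F] [DecidableEq F]

/-- The matrix of the affine map `x ↦ a x + b`. -/
noncomputable def affMat (a b : F) (ha : a ≠ 0) : GL (Fin 2) F :=
  Matrix.GeneralLinearGroup.mkOfDetNeZero !![a, b; 0, 1] (by simp [Matrix.det_fin_two_of, ha])

/-- The matrix of the inversion `x ↦ 1 / x`. -/
noncomputable def swapMat : GL (Fin 2) F :=
  Matrix.GeneralLinearGroup.mkOfDetNeZero !![0, 1; 1, 0] (by simp [Matrix.det_fin_two_of])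

theorem affMat_smul_infty (a b : F) (ha : a ≠ 0) : affMat a b ha • (∞ : OnePoint F) = ∞ := by
  rw [OnePoint.smul_infty_eq_ite]
  simp [affMat, Matrix.GeneralLinearGroup.mkOfDetNeZero]

theorem affMat_smul_coe (a b : F) (ha : a ≠ 0) (x : F) :
    affMat a b ha • (x : OnePoint F) = ((a * x + b : F) : OnePoint F) := by
  rw [OnePoint.smul_some_eq_ite]
  simp [affMat, Matrix.GeneralLinearGroup.mkOfDetNeZero]

theorem swapMat_smul_infty : (swapMat : GL (Fin 2) F) • (∞ : OnePoint F) = ((0 : F) : OnePoint F) := by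
  rw [OnePoint.smul_infty_eq_ite]
  simp [swapMat, Matrix.GeneralLinearGroup.mkOfDetNeZero]

theorem swapMat_smul_zero : (swapMat : GL (Fin 2) F) • ((0 : F) : OnePoint F) = ∞ := by
  rw [OnePoint.smul_some_eq_ite]
  simp [swapMat, Matrix.GeneralLinearGroup.mkOfDetNeZero]

theorem swapMat_smul_coe (x : F) (hx : x ≠ 0) :
    (swapMat : GL (Fin 2) F) • (x : OnePoint F) = ((x⁻¹ : F) : OnePoint F) := by
  rw [OnePoint.smul_some_eq_ite]
  simp [swapMat, Matrix.GeneralLinearGroup.mkOfDetNeZero, hx]

/-- A group containing the affine maps and the inversion, all of whose elements fixing `∞`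
are affine, consists exactly of the Möbius transformations. -/
theorem moebius_of_affine_swap {α G : Type*} [Group G] [MulAction G α] (pt : OnePoint F → α)
    (hpt : Function.Surjective pt)
    (ha : ∀ g : G, g • pt ∞ = pt ∞ →
      ∃ a b : F, a ≠ 0 ∧ ∀ x : F, g • pt (x : OnePoint F) = pt ((x * a + b : F) : OnePoint F))
    (hb : ∀ a b : F, a ≠ 0 →
      ∃ g : G, g • pt ∞ = pt ∞ ∧
        ∀ x : F, g • pt (x : OnePoint F) = pt ((x * a + b : F) : OnePoint F))
    (s : G) (hs1 : s • pt ∞ = pt ((0 : F) : OnePoint F))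
    (hs2 : s • pt ((0 : F) : OnePoint F) = pt ∞)
    (hs3 : ∀ x : F, x ≠ 0 → s • pt (x : OnePoint F) = pt ((x⁻¹ : F) : OnePoint F)) :
    (∀ g : G, ∃ M : GL (Fin 2) F, ∀ x : OnePoint F, g • pt x = pt (M • x)) ∧
    (∀ M : GL (Fin 2) F, ∃ g : G, ∀ x : OnePoint F, g • pt x = pt (M • x)) := by
  constructor
  · let K : Subgroup G :=
      { carrier := {g | ∃ M : GL (Fin 2) F, ∀ x : OnePoint F, g • pt x = pt (M • x)}
        mul_mem' := by
          rintro g₁ g₂ ⟨M₁, h₁⟩ ⟨M₂, h₂⟩
          refine ⟨M₁ * M₂, fun x => ?_⟩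
          rw [mul_smul, h₂, h₁, mul_smul]
        one_mem' := ⟨1, fun x => by rw [one_smul, one_smul]⟩
        inv_mem' := by
          rintro g ⟨M, h⟩
          refine ⟨M⁻¹, fun x => ?_⟩
          rw [inv_smul_eq_iff, h, smul_inv_smul] }
    have hKa : ∀ g : G, g • pt ∞ = pt ∞ → g ∈ K := by
      intro g hg
      obtain ⟨a, b, ha0, hab⟩ := ha g hg
      refine ⟨affMat a b ha0, fun x => ?_⟩
      cases x with
      | infty => rw [affMat_smul_infty, hg]
      | coe x => rw [affMat_smul_coe, hab, mul_comm]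
    have hKs : s ∈ K := by
      refine ⟨swapMat, fun x => ?_⟩
      cases x with
      | infty => rw [swapMat_smul_infty, hs1]
      | coe x =>
        by_cases hx : x = 0
        · rw [hx, swapMat_smul_zero, hs2]
        · rw [swapMat_smul_coe x hx, hs3 x hx]
    intro g
    show g ∈ K
    obtain ⟨y, hy⟩ := hpt (g • pt ∞)
    cases y with
    | infty => exact hKa g hy.symm
    | coe c =>
      obtain ⟨t, ht1, ht2⟩ := hb 1 (-c) one_ne_zero
      have h1 : (s * t * g) • pt ∞ = pt ∞ := by
        rw [mul_smul, mul_smul, ← hy, ht2, mul_one, add_neg_cancel, hs2]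
      have h2 : g = t⁻¹ * s⁻¹ * (s * t * g) := by group
      rw [h2]
      exact K.mul_mem (K.mul_mem (K.inv_mem (hKa t ht1)) (K.inv_mem hKs)) (hKa _ h1)
  · intro M
    have hdet : M 0 0 * M 1 1 - M 0 1 * M 1 0 ≠ 0 := by
      have := M.det_ne_zero
      rwa [Matrix.det_fin_two] at this
    by_cases hc : M 1 0 = 0
    · have hd : M 1 1 ≠ 0 := by
        intro h
        apply hdet
        rw [hc, h]
        ring
      have ha0 : M 0 0 ≠ 0 := by
        intro h
        apply hdet
        rw [hc, h]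
        ring
      obtain ⟨g, hg1, hg2⟩ := hb (M 0 0 / M 1 1) (M 0 1 / M 1 1) (div_ne_zero ha0 hd)
      refine ⟨g, fun x => ?_⟩
      cases x with
      | infty =>
        rw [hg1, OnePoint.smul_infty_eq_ite, if_pos hc]
      | coe x =>
        rw [hg2, OnePoint.smul_some_eq_ite, hc, zero_mul, zero_add, if_neg hd]
        congr 2
        field_simp
    · obtain ⟨g₂, hg21, hg22⟩ := hb (M 1 0) (M 1 1) hc
      have hne : (M 0 1 * M 1 0 - M 0 0 * M 1 1) / M 1 0 ≠ 0 := by
        apply div_ne_zero _ hc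
        intro h
        apply hdet
        linear_combination -h
      obtain ⟨g₁, hg11, hg12⟩ := hb ((M 0 1 * M 1 0 - M 0 0 * M 1 1) / M 1 0) (M 0 0 / M 1 0) hne
      refine ⟨g₁ * s * g₂, fun x => ?_⟩
      cases x with
      | infty =>
        rw [mul_smul, mul_smul, hg21, hs1, hg12, OnePoint.smul_infty_eq_ite, if_neg hc]
        congr 2
        ring
      | coe x =>
        rw [mul_smul, mul_smul, hg22, OnePoint.smul_some_eq_ite]
        by_cases h0 : M 1 0 * x + M 1 1 = 0
        · rw [if_pos h0]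
          have : x * M 1 0 + M 1 1 = 0 := by rw [mul_comm]; exact h0
          rw [this, hs2, hg11]
        · rw [if_neg h0]
          have : x * M 1 0 + M 1 1 ≠ 0 := by rw [mul_comm]; exact h0
          rw [hs3 _ this, hg12]
          congr 2
          field_simp
          ring

/-- A permutation group consisting exactly of the Möbius transformations is isomorphic to
`PGL(2, F)`. -/
theorem pgl_equiv_of_moebius {α : Type*} (G : Subgroup (Equiv.Perm α)) (pt : OnePoint F → α)
    (hpt : Function.Bijective pt)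
    (h1 : ∀ g ∈ G, ∃ M : GL (Fin 2) F, ∀ x : OnePoint F, g (pt x) = pt (M • x))
    (h2 : ∀ M : GL (Fin 2) F, ∃ g ∈ G, ∀ x : OnePoint F, g (pt x) = pt (M • x)) :
    Nonempty (G ≃* Matrix.ProjGenLinGroup (Fin 2) F) := by
  let ι : OnePoint F ≃ α := Equiv.ofBijective pt hpt
  let Φ : GL (Fin 2) F →* Equiv.Perm α :=
    (ι.permCongrHom.toMonoidHom).comp (MulAction.toPermHom (GL (Fin 2) F) (OnePoint F))
  have hΦ : ∀ (M : GL (Fin 2) F) (x : OnePoint F), Φ M (pt x) = pt (M • x) := by
    intro M x
    show ι (M • (ι.symm (pt x))) = pt (M • x)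
    have : ι.symm (pt x) = x := Equiv.ofBijective_symm_apply_apply pt hpt x
    rw [this]
    rfl
  have hΦG : ∀ M, Φ M ∈ G := by
    intro M
    obtain ⟨g, hg, hgx⟩ := h2 M
    have : Φ M = g := Equiv.ext (fun y => by
      obtain ⟨x, rfl⟩ := hpt.2 y
      rw [hΦ, hgx])
    rw [this]
    exact hg
  have hscal : Φ.comp (Matrix.GeneralLinearGroup.scalar (Fin 2)) = 1 := by
    ext u y
    obtain ⟨x, rfl⟩ := hpt.2 y
    show Φ (Matrix.GeneralLinearGroup.scalar (Fin 2) u) (pt x) = pt x
    rw [hΦ]
    congr 1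
    cases x with
    | infty => rw [OnePoint.smul_infty_eq_ite]; simp
    | coe x => rw [OnePoint.smul_some_eq_ite]; simp
  let L : Matrix.ProjGenLinGroup (Fin 2) F →* Equiv.Perm α :=
    Matrix.ProjGenLinGroup.lift Φ hscal
  have hL : ∀ p, L p ∈ G := by
    intro p
    induction p using Matrix.ProjGenLinGroup.induction_on with
    | mk g => exact hΦG g
  let f : Matrix.ProjGenLinGroup (Fin 2) F →* G := L.codRestrict G hL
  have hinj : Function.Injective f := by
    rw [injective_iff_map_eq_one]
    intro p hp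
    induction p using Matrix.ProjGenLinGroup.induction_on with
    | mk M =>
      have hM : Φ M = 1 := by
        have := congrArg Subtype.val hp
        exact this
      have hfix : ∀ x : OnePoint F, M • x = x := by
        intro x
        apply hpt.1
        rw [← hΦ, hM]
        rfl
      have hc : M 1 0 = 0 := OnePoint.smul_infty_eq_self_iff.mp (hfix ∞)
      have hdet : M 0 0 * M 1 1 - M 0 1 * M 1 0 ≠ 0 := by
        have := M.det_ne_zero
        rwa [Matrix.det_fin_two] at this
      have hd : M 1 1 ≠ 0 := by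
        intro h
        apply hdet
        rw [hc, h]
        ring
      have hb0 : M 0 1 = 0 := by
        have h0 := hfix ((0 : F) : OnePoint F)
        rw [OnePoint.smul_some_eq_ite, hc, zero_mul, zero_add, if_neg hd, mul_zero, zero_add,
          OnePoint.coe_eq_coe] at h0
        rcases div_eq_zero_iff.mp h0 with h | h
        · exact h
        · exact absurd h hd
      have ha1 : M 0 0 = M 1 1 := by
        have h0 := hfix ((1 : F) : OnePoint F)
        rw [OnePoint.smul_some_eq_ite, hc, zero_mul, zero_add, if_neg hd, mul_one, hb0, add_zero,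
          OnePoint.coe_eq_coe] at h0
        exact (div_eq_one_iff_eq hd).mp h0
      rw [Matrix.ProjGenLinGroup.mk_eq_one, Matrix.GeneralLinearGroup.center_eq_range_scalar]
      refine ⟨Units.mk0 (M 1 1) hd, ?_⟩
      ext i j
      fin_cases i <;> fin_cases j <;> simp [hc, hb0, ha1]
  have hsurj : Function.Surjective f := by
    rintro ⟨g, hg⟩
    obtain ⟨M, hM⟩ := h1 g hg
    refine ⟨Matrix.ProjGenLinGroup.mk M, Subtype.ext ?_⟩
    show Φ M = g
    exact Equiv.ext (fun y => by
      obtain ⟨x, rfl⟩ := hpt.2 y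
      rw [hΦ, hM])
  exact ⟨(MulEquiv.ofBijective f ⟨hinj, hsurj⟩).symm⟩

/-- `PGL` of isomorphic rings are isomorphic. -/
noncomputable def pglCongr {R S : Type*} [CommRing R] [CommRing S] (e : R ≃+* S) :
    Matrix.ProjGenLinGroup (Fin 2) R ≃* Matrix.ProjGenLinGroup (Fin 2) S :=
  MonoidHom.toMulEquiv (Matrix.ProjGenLinGroup.map e.toRingHom)
    (Matrix.ProjGenLinGroup.map e.symm.toRingHom)
    (by rw [← Matrix.ProjGenLinGroup.map_comp]; simp)
    (by rw [← Matrix.ProjGenLinGroup.map_comp]; simp)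

end

end Cfsg.Agent.Lib.Helper58
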