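import Cfsg.Agent.Lib.Helper58.SharplyTwo
import Cfsg.Prelude.Def_Perm

set_option autoImplicit false
set_option linter.style.haveILetI false

namespace Cfsg.Agent.Lib.Helper58

open MulAction

/-- Data from which a near-field structure on `α` is built: translations `τ` and
multiplications `μ` inside a group acting on `α`. -/
structure NFData (G α : Type*) [Group G] [MulAction G α] where
  o : α
  e : α
  τ : α → G
  μ : α → G
  hoe : e ≠ o
  τ_o : ∀ b, τ b • o = b
  τ_mul : ∀ b c, τ (τ c • b) = τ c * τ b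
  μ_o : ∀ a, a ≠ o → μ a • o = o
  μ_e : ∀ a, a ≠ o → μ a • e = a
  μ_mul : ∀ a b, a ≠ o → b ≠ o → μ (μ b • a) = μ b * μ a
  μ_τ : ∀ c y, c ≠ o → μ c * τ y = τ (μ c • y) * μ c

namespace NFData

variable {G α : Type*} [Group G] [MulAction G α] (D : NFData G α)

theorem τ_zero : D.τ D.o = 1 := by
  have h := D.τ_mul D.o D.o
  rw [D.τ_o] at h
  exact (mul_eq_left.mp h.symm)

theorem μ_one : D.μ D.e = 1 := by
  have h := D.μ_mul D.e D.e D.hoe D.hoe
  rw [D.μ_e D.e D.hoe] at h
  exact (mul_eq_left.mp h.symm)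

theorem μ_ne {a b : α} (ha : a ≠ D.o) (hb : b ≠ D.o) : D.μ b • a ≠ D.o := by
  intro h
  exact ha (MulAction.injective (D.μ b) (h.trans (D.μ_o b hb).symm))

open Classical in
/-- The near-field multiplication. -/
noncomputable def mul (x a : α) : α := if a = D.o then D.o else D.μ a • x

/-- The near-field addition. -/
def add (x y : α) : α := D.τ y • x

theorem mul_of_ne {a : α} (ha : a ≠ D.o) (x : α) : D.mul x a = D.μ a • x := by
  unfold mul
  rw [if_neg ha]

theorem mul_o (x : α) : D.mul x D.o = D.o := by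
  unfold mul
  rw [if_pos rfl]

theorem o_mul (a : α) : D.mul D.o a = D.o := by
  by_cases ha : a = D.o
  · rw [ha, mul_o]
  · rw [D.mul_of_ne ha, D.μ_o a ha]

theorem mul_ne {a b : α} (ha : a ≠ D.o) (hb : b ≠ D.o) : D.mul a b ≠ D.o := by
  rw [D.mul_of_ne hb]
  exact D.μ_ne ha hb

theorem mul_assoc' (x a b : α) : D.mul (D.mul x a) b = D.mul x (D.mul a b) := by
  by_cases hb : b = D.o
  · rw [hb, mul_o, mul_o, mul_o]
  · by_cases ha : a = D.o
    · rw [ha, mul_o, o_mul, mul_o]
    · rw [D.mul_of_ne hb (D.mul x a), D.mul_of_ne ha x, D.mul_of_ne (D.mul_ne ha hb),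
        D.mul_of_ne hb a, D.μ_mul a b ha hb, mul_smul]

theorem one_mul' (a : α) : D.mul D.e a = a := by
  by_cases ha : a = D.o
  · rw [ha, mul_o]
  · rw [D.mul_of_ne ha, D.μ_e a ha]

theorem mul_one' (x : α) : D.mul x D.e = x := by
  rw [D.mul_of_ne D.hoe, D.μ_one, one_smul]

theorem add_assoc' (x y z : α) : D.add (D.add x y) z = D.add x (D.add y z) := by
  unfold add
  rw [D.τ_mul, mul_smul]

theorem zero_add' (x : α) : D.add D.o x = x := D.τ_o x

theorem add_zero' (x : α) : D.add x D.o = x := by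
  unfold add
  rw [D.τ_zero, one_smul]

theorem right_distrib' (x y c : α) : D.mul (D.add x y) c = D.add (D.mul x c) (D.mul y c) := by
  by_cases hc : c = D.o
  · rw [hc, mul_o, mul_o, mul_o, zero_add']
  · rw [D.mul_of_ne hc, D.mul_of_ne hc, D.mul_of_ne hc]
    unfold add
    rw [← mul_smul, D.μ_τ c y hc, mul_smul]

theorem exists_inv' (a : α) (ha : a ≠ D.o) : ∃ b : α, D.mul a b = D.e ∧ D.mul b a = D.e := by
  have hb : (D.μ a)⁻¹ • D.e ≠ D.o := by
    intro h
    apply D.hoe
    rw [inv_smul_eq_iff] at h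
    rw [h, D.μ_o a ha]
  have h1 : D.μ a • ((D.μ a)⁻¹ • D.e) = D.e := smul_inv_smul _ _
  have h2 : D.μ ((D.μ a)⁻¹ • D.e) = (D.μ a)⁻¹ := by
    have h := D.μ_mul ((D.μ a)⁻¹ • D.e) a hb ha
    rw [h1, D.μ_one] at h
    exact (eq_inv_of_mul_eq_one_right h.symm)
  refine ⟨(D.μ a)⁻¹ • D.e, ?_, ?_⟩
  · rw [D.mul_of_ne hb, h2]
    nth_rewrite 2 [← D.μ_e a ha]
    rw [inv_smul_smul]
  · rw [D.mul_of_ne ha, h1]

/-- The additive group structure. -/
@[reducible] noncomputable def addGroup : AddGroup α :=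
  @AddGroup.ofLeftAxioms α ⟨D.add⟩ ⟨fun x => (D.τ x)⁻¹ • D.o⟩ ⟨D.o⟩ D.add_assoc' D.zero_add'
    (fun x => by
      show D.τ x • ((D.τ x)⁻¹ • D.o) = D.o
      exact smul_inv_smul _ _)

/-- The multiplicative monoid structure. -/
@[reducible] noncomputable def monoid : Monoid α where
  mul := D.mul
  one := D.e
  mul_assoc := D.mul_assoc'
  one_mul := D.one_mul'
  mul_one := D.mul_one'

/-- The near-field. -/
@[reducible] noncomputable def nearField : Cfsg.NearField α :=
  { D.addGroup, D.monoid with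
    right_distrib := D.right_distrib'
    mul_zero := D.mul_o
    zero_ne_one := D.hoe.symm
    exists_inv := D.exists_inv' }

theorem nearField_zero : (letI := D.nearField; (0 : α)) = D.o := rfl

theorem nearField_mul (x a : α) : (letI := D.nearField; x * a) = D.mul x a := rfl

theorem nearField_add (x b : α) : (letI := D.nearField; x + b) = D.add x b := rfl

end NFData

namespace SharpTwo

variable {G α : Type*} [Group G] [MulAction G α]

/-- A finite sharply 2-transitive group yields near-field data generating the group. -/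
theorem exists_nfData [Finite G] [Finite α] [Nontrivial α] (S : SharpTwo G α) :
    ∃ D : NFData G α, ∀ g : G, ∃ a b : α, a ≠ D.o ∧ g = D.τ b * D.μ a := by
  classical
  obtain ⟨N, p, j, hp, hj, hcard, hnormal, hNcard, hidx, hcomm, hpow, hmem, htrans⟩ :=
    S.exists_kernel
  obtain ⟨o, e, hoe'⟩ := exists_pair_ne α
  have hoe : e ≠ o := hoe'.symm
  -- uniqueness in N
  have hNuniq : ∀ g ∈ N, ∀ h ∈ N, ∀ a : α, g • a = h • a → g = h := by
    intro g hg h hh a hgh
    have h1 : h⁻¹ * g ∈ N := N.mul_mem (N.inv_mem hh) hg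
    have h2 : (h⁻¹ * g) • a = a := by rw [mul_smul, hgh, inv_smul_smul]
    rcases (hmem _).mp h1 with h3 | h3
    · exact (inv_mul_eq_one.mp h3).symm
    · exact absurd h2 (h3 a)
  -- translations
  let τ : α → G := fun b => Classical.choose (htrans o b)
  have hτN : ∀ b, τ b ∈ N := fun b => (Classical.choose_spec (htrans o b)).1
  have hτo : ∀ b, τ b • o = b := fun b => (Classical.choose_spec (htrans o b)).2
  -- multiplications
  let μ : α → G := fun a =>
    if h : a = o then 1 else Classical.choose (S.trans o e o a hoe.symm (Ne.symm h))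
  have hμo : ∀ a, a ≠ o → μ a • o = o := by
    intro a ha
    have : μ a = Classical.choose (S.trans o e o a hoe.symm (Ne.symm ha)) := dif_neg ha
    rw [this]
    exact (Classical.choose_spec (S.trans o e o a hoe.symm (Ne.symm ha))).1
  have hμe : ∀ a, a ≠ o → μ a • e = a := by
    intro a ha
    have : μ a = Classical.choose (S.trans o e o a hoe.symm (Ne.symm ha)) := dif_neg ha
    rw [this]
    exact (Classical.choose_spec (S.trans o e o a hoe.symm (Ne.symm ha))).2
  have hμne : ∀ a b, a ≠ o → b ≠ o → μ b • a ≠ o := by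
    intro a b ha hb h
    exact ha (MulAction.injective (μ b) (h.trans (hμo b hb).symm))
  refine ⟨{ o := o
            e := e
            τ := τ
            μ := μ
            hoe := hoe
            τ_o := hτo
            τ_mul := ?_
            μ_o := hμo
            μ_e := hμe
            μ_mul := ?_
            μ_τ := ?_ }, ?_⟩
  · intro b c
    apply hNuniq _ (hτN _) _ (N.mul_mem (hτN c) (hτN b)) o
    rw [hτo, mul_smul, hτo]
  · intro a b ha hb
    apply S.eq_of_smul_eq hoe.symm
    · rw [hμo _ (hμne a b ha hb), mul_smul, hμo a ha, hμo b hb]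
    · rw [hμe _ (hμne a b ha hb), mul_smul, hμe a ha]
  · intro c y hc
    have h1 : μ c * τ y * (μ c)⁻¹ ∈ N := hnormal.conj_mem _ (hτN y) _
    have h2 : μ c * τ y * (μ c)⁻¹ = τ (μ c • y) := by
      apply hNuniq _ h1 _ (hτN _) o
      rw [hτo, mul_smul, mul_smul]
      have : (μ c)⁻¹ • o = o := by rw [inv_smul_eq_iff, hμo c hc]
      rw [this, hτo]
    rw [← h2]
    group
  · intro g
    have h1 : ((τ (g • o))⁻¹ * g) • o = o := by
      rw [mul_smul, inv_smul_eq_iff, hτo]
    have h2 : ((τ (g • o))⁻¹ * g) • e ≠ o := by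
      intro h
      exact hoe (MulAction.injective ((τ (g • o))⁻¹ * g) (h.trans h1.symm))
    refine ⟨((τ (g • o))⁻¹ * g) • e, g • o, h2, ?_⟩
    have h3 : (τ (g • o))⁻¹ * g = μ (((τ (g • o))⁻¹ * g) • e) := by
      apply S.eq_of_smul_eq hoe.symm
      · rw [h1, hμo _ h2]
      · rw [hμe _ h2]
    show g = τ (g • o) * μ (((τ (g • o))⁻¹ * g) • e)
    rw [← h3]
    group

/-- A finite sharply 2-transitive group is the affine group of a near-field. -/
theorem exists_nearField [Finite G] [Finite α] [Nontrivial α] (S : SharpTwo G α) :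
    ∃ _ : Cfsg.NearField α, (∀ g : G, ∃ a b : α, a ≠ 0 ∧ ∀ x : α, g • x = x * a + b) ∧
      (∀ a b : α, a ≠ 0 → ∃ g : G, ∀ x : α, g • x = x * a + b) := by
  obtain ⟨D, hD⟩ := S.exists_nfData
  refine ⟨D.nearField, ?_, ?_⟩
  · intro g
    obtain ⟨a, b, ha, hg⟩ := hD g
    refine ⟨a, b, ha, fun x => ?_⟩
    show g • x = D.add (D.mul x a) b
    rw [D.mul_of_ne ha, hg, mul_smul]
    rfl
  · intro a b ha
    have ha' : a ≠ D.o := ha
    refine ⟨D.τ b * D.μ a, fun x => ?_⟩
    show (D.τ b * D.μ a) • x = D.add (D.mul x a) b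
    rw [D.mul_of_ne ha', mul_smul]
    rfl

end SharpTwo

end Cfsg.Agent.Lib.Helper58
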