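import Mathlib

set_option autoImplicit false

namespace Cfsg.Agent.Lib.Helper58.ProdSimple

variable {ι : Type*} [DecidableEq ι] {T : Type*} [Group T]

/-- A non-commutative simple group has trivial centre (elementwise form). -/
theorem exists_not_commute [IsSimpleGroup T] (hnc : ¬ ∀ a b : T, a * b = b * a) {t : T}
    (ht : t ≠ 1) : ∃ s : T, t * s ≠ s * t := by
  by_contra hcon
  push Not at hcon
  have hcen : t ∈ Subgroup.center T := by
    rw [Subgroup.mem_center_iff]
    intro g; exact (hcon g).symm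
  rcases (inferInstance : (Subgroup.center T).Normal).eq_bot_or_eq_top with h | h
  · rw [h, Subgroup.mem_bot] at hcen
    exact ht hcen
  · apply hnc
    intro a b
    have : b ∈ Subgroup.center T := by rw [h]; trivial
    rw [Subgroup.mem_center_iff] at this
    exact this a

/-- A normal subgroup of `T^ι` with an element having a nontrivial `i`-th coordinate contains
the whole `i`-th factor. -/
theorem mulSingle_mem_of_normal [IsSimpleGroup T]
    (hZ : ∀ t : T, t ≠ 1 → ∃ s : T, t * s ≠ s * t)
    (M : Subgroup (ι → T)) (hM : M.Normal) {x : ι → T} (hx : x ∈ M) {i : ι} (hxi : x i ≠ 1)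
    (t : T) : Pi.mulSingle i t ∈ M := by
  obtain ⟨s, hs⟩ := hZ (x i) hxi
  let B : Subgroup T := M.comap (MonoidHom.mulSingle (fun _ : ι => T) i)
  have hBn : B.Normal := hM.comap _
  have hu : x i * s * (x i)⁻¹ * s⁻¹ ∈ B := by
    show Pi.mulSingle i (x i * s * (x i)⁻¹ * s⁻¹) ∈ M
    have h1 : x * Pi.mulSingle i s * x⁻¹ * (Pi.mulSingle i s)⁻¹ ∈ M := by
      have h2 : Pi.mulSingle i s * x⁻¹ * (Pi.mulSingle i s)⁻¹ ∈ M :=
        hM.conj_mem _ (M.inv_mem hx) _
      have h3 := M.mul_mem hx h2
      simpa [mul_assoc] using h3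
    have h4 : x * Pi.mulSingle i s * x⁻¹ * (Pi.mulSingle i s)⁻¹
        = Pi.mulSingle i (x i * s * (x i)⁻¹ * s⁻¹) := by
      funext j
      by_cases hj : j = i
      · subst hj; simp
      · simp [Pi.mulSingle_eq_of_ne hj]
    rwa [h4] at h1
  have hB : B = ⊤ := by
    rcases hBn.eq_bot_or_eq_top with h | h
    · exfalso
      rw [h, Subgroup.mem_bot] at hu
      apply hs
      have h5 := mul_inv_eq_one.mp hu
      rw [mul_inv_eq_iff_eq_mul] at h5
      exact h5
    · exact h
  have : t ∈ B := by rw [hB]; trivial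
  exact this

/-- The `i`-th coordinate factor of `T^ι`. -/
def factor (ι : Type*) [DecidableEq ι] (T : Type*) [Group T] (i : ι) : Subgroup (ι → T) :=
  (MonoidHom.mulSingle (fun _ : ι => T) i).range

theorem mem_factor {i : ι} {x : ι → T} : x ∈ factor ι T i ↔ ∃ t : T, Pi.mulSingle i t = x :=
  Iff.rfl

theorem factor_normal (i : ι) : (factor ι T i).Normal := by
  constructor
  intro n hn g
  obtain ⟨t, rfl⟩ := hn
  refine ⟨g i * t * (g i)⁻¹, ?_⟩
  funext j
  by_cases hj : j = i
  · subst hj; simp
  · simp [Pi.mulSingle_eq_of_ne hj]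

/-- An automorphism of `T^ι` (`T` non-abelian simple, finite) permutes the coordinates. -/
theorem exists_perm_of_mulEquiv [Finite ι] [Finite T] [IsSimpleGroup T]
    (hZ : ∀ t : T, t ≠ 1 → ∃ s : T, t * s ≠ s * t) (φ : (ι → T) ≃* (ι → T)) :
    ∃ (σ : Equiv.Perm ι) (ψ : ι → T ≃* T), ∀ (x : ι → T) (i : ι), φ x (σ i) = ψ i (x i) := by
  classical
  obtain ⟨t₀, ht₀⟩ : ∃ t₀ : T, t₀ ≠ 1 := exists_ne 1
  have hms_inj : ∀ (i : ι) (t : T), Pi.mulSingle (M := fun _ : ι => T) i t = 1 → t = 1 := by
    intro i t h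
    have := congrFun h i
    simpa using this
  -- step 1
  have step1 : ∀ i : ι, ∃ j : ι, (∀ t : T, ∃ t' : T, φ (Pi.mulSingle i t) = Pi.mulSingle j t') ∧
      (∀ t' : T, ∃ t : T, φ (Pi.mulSingle i t) = Pi.mulSingle j t') := by
    intro i
    have hy : φ (Pi.mulSingle i t₀) ≠ 1 := by
      intro h
      have h1 : Pi.mulSingle (M := fun _ : ι => T) i t₀ = 1 := by
        apply φ.injective; rw [h, map_one]
      exact ht₀ (hms_inj i t₀ h1)
    obtain ⟨j, hj⟩ : ∃ j, φ (Pi.mulSingle i t₀) j ≠ 1 := by
      by_contra hcon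
      push Not at hcon
      exact hy (funext hcon)
    let M : Subgroup (ι → T) := (factor ι T i).map φ.toMonoidHom
    have hMn : M.Normal := (factor_normal i).map φ.toMonoidHom φ.surjective
    have hyM : φ (Pi.mulSingle i t₀) ∈ M := ⟨Pi.mulSingle i t₀, ⟨t₀, rfl⟩, rfl⟩
    have hTj : ∀ t : T, Pi.mulSingle j t ∈ M := mulSingle_mem_of_normal hZ M hMn hyM hj
    have hback : ∀ t' : T, ∃ t : T, φ (Pi.mulSingle i t) = Pi.mulSingle j t' := by
      intro t'
      obtain ⟨z, ⟨t, rfl⟩, hz⟩ := hTj t'
      exact ⟨t, hz⟩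
    refine ⟨j, ?_, hback⟩
    let M₂ : Subgroup (ι → T) := (factor ι T j).map φ.symm.toMonoidHom
    have hM₂n : M₂.Normal := (factor_normal j).map φ.symm.toMonoidHom φ.symm.surjective
    obtain ⟨s₀, hs₀⟩ := hback t₀
    have hz₀ : Pi.mulSingle i s₀ ∈ M₂ := by
      refine ⟨Pi.mulSingle j t₀, ⟨t₀, rfl⟩, ?_⟩
      show φ.symm (Pi.mulSingle j t₀) = Pi.mulSingle i s₀
      rw [← hs₀]; exact φ.symm_apply_apply _
    have hs₀1 : s₀ ≠ 1 := by
      intro h
      rw [h] at hs₀
      simp only [Pi.mulSingle_one, map_one] at hs₀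
      exact ht₀ (hms_inj j t₀ hs₀.symm)
    have hz₀i : (Pi.mulSingle i s₀ : ι → T) i ≠ 1 := by simpa using hs₀1
    have hTi : ∀ t : T, Pi.mulSingle i t ∈ M₂ := mulSingle_mem_of_normal hZ M₂ hM₂n hz₀ hz₀i
    intro t
    obtain ⟨z, ⟨t', rfl⟩, hz⟩ := hTi t
    refine ⟨t', ?_⟩
    rw [← hz]
    exact φ.apply_symm_apply _
  choose σ₀ hσ₁ hσ₂ using step1
  have hσinj : Function.Injective σ₀ := by
    intro i i' hii
    by_contra hne
    obtain ⟨t, ht⟩ := hσ₂ i t₀
    obtain ⟨s, hs⟩ := hσ₂ i' t₀
    rw [hii, ← hs] at ht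
    have h1 := φ.injective ht
    have h2 := congrFun h1 i
    rw [Pi.mulSingle_eq_same, Pi.mulSingle_eq_of_ne hne] at h2
    rw [h2] at ht
    simp only [Pi.mulSingle_one, map_one] at ht
    rw [← ht] at hs
    exact ht₀ (hms_inj _ t₀ hs.symm)
  let σ : Equiv.Perm ι := Equiv.ofBijective σ₀ (Finite.injective_iff_bijective.mp hσinj)
  let ψ₀ : ι → T →* T := fun i =>
    (Pi.evalMonoidHom (fun _ : ι => T) (σ₀ i)).comp
      (φ.toMonoidHom.comp (MonoidHom.mulSingle (fun _ : ι => T) i))
  have hψ₀ : ∀ i t, φ (Pi.mulSingle i t) = Pi.mulSingle (σ₀ i) (ψ₀ i t) := by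
    intro i t
    obtain ⟨t', ht'⟩ := hσ₁ i t
    have : ψ₀ i t = t' := by
      show φ (Pi.mulSingle i t) (σ₀ i) = t'
      rw [ht']; simp
    rw [this, ht']
  have hψinj : ∀ i, Function.Injective (ψ₀ i) := by
    intro i
    rw [injective_iff_map_eq_one]
    intro t ht
    have h1 := hψ₀ i t
    rw [ht] at h1
    simp only [Pi.mulSingle_one] at h1
    have h2 : Pi.mulSingle (M := fun _ : ι => T) i t = 1 := by
      apply φ.injective; rw [h1, map_one]
    exact hms_inj i t h2
  let ψ : ι → T ≃* T := fun i =>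
    MulEquiv.ofBijective (ψ₀ i) ⟨hψinj i, Finite.surjective_of_injective (hψinj i)⟩
  refine ⟨σ, ψ, ?_⟩
  intro x i
  show φ x (σ₀ i) = ψ₀ i (x i)
  have hdec : x = Pi.mulSingle i (x i) * Function.update x i 1 := by
    funext j
    by_cases hj : j = i
    · subst hj; simp
    · simp [Pi.mulSingle_eq_of_ne hj, Function.update_of_ne hj]
  have hrest : φ (Function.update x i 1) (σ₀ i) = 1 := by
    by_contra hu
    obtain ⟨s, hs⟩ := hZ _ hu
    obtain ⟨s', rfl⟩ := Finite.surjective_of_injective (hψinj i) s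
    apply hs
    have hcomm : Function.update x i 1 * Pi.mulSingle i s'
        = Pi.mulSingle i s' * Function.update x i 1 := by
      funext j
      by_cases hj : j = i
      · subst hj; simp
      · simp [Pi.mulSingle_eq_of_ne hj]
    have h1 := congrArg (fun y => φ y (σ₀ i)) hcomm
    simp only [map_mul, Pi.mul_apply, hψ₀, Pi.mulSingle_eq_same] at h1
    exact h1
  conv_lhs => rw [hdec]
  rw [map_mul, Pi.mul_apply, hrest, mul_one, hψ₀, Pi.mulSingle_eq_same]

/-- Elements of a subdirect `D ≤ T^ι` supported inside the support of `y ∈ D`, with arbitrary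
`i`-th coordinate (`y i ≠ 1`). -/
theorem exists_supported {ι : Type*} {T : Type*} [Group T] [IsSimpleGroup T] (D : Subgroup (ι → T))
    (hD : ∀ i (t : T), ∃ x ∈ D, x i = t) {y : ι → T} (hy : y ∈ D) {i : ι} (hyi : y i ≠ 1)
    (t : T) : ∃ y' ∈ D, (∀ l, y l = 1 → y' l = 1) ∧ y' i = t := by
  let B : Subgroup T :=
    { carrier := {t | ∃ y' ∈ D, (∀ l, y l = 1 → y' l = 1) ∧ y' i = t}
      mul_mem' := by
        rintro a b ⟨ya, hya, hya1, rfl⟩ ⟨yb, hyb, hyb1, rfl⟩
        exact ⟨ya * yb, D.mul_mem hya hyb, fun l hl => by simp [hya1 l hl, hyb1 l hl], rfl⟩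
      one_mem' := ⟨1, D.one_mem, fun _ _ => rfl, rfl⟩
      inv_mem' := by
        rintro a ⟨ya, hya, hya1, rfl⟩
        exact ⟨ya⁻¹, D.inv_mem hya, fun l hl => by simp [hya1 l hl], rfl⟩ }
  have hBn : B.Normal := by
    constructor
    rintro a ⟨ya, hya, hya1, rfl⟩ s
    obtain ⟨d, hd, rfl⟩ := hD i s
    exact ⟨d * ya * d⁻¹, D.mul_mem (D.mul_mem hd hya) (D.inv_mem hd),
      fun l hl => by simp [hya1 l hl], rfl⟩
  have hyB : y i ∈ B := ⟨y, hy, fun _ h => h, rfl⟩
  rcases hBn.eq_bot_or_eq_top with h | h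
  · rw [h, Subgroup.mem_bot] at hyB; exact absurd hyB hyi
  · have : t ∈ B := by rw [h]; trivial
    exact this

/-- Scott's lemma: a subdirect subgroup of `T^ι` (`T` non-abelian simple, finite) is a product
of full diagonal subgroups over the classes of the relation "same kernel". -/
theorem scott [Finite ι] [Finite T] [IsSimpleGroup T]
    (hZ : ∀ t : T, t ≠ 1 → ∃ s : T, t * s ≠ s * t) (D : Subgroup (ι → T))
    (hD : ∀ i (t : T), ∃ x ∈ D, x i = t) :
    ∃ (c : ι → ι) (θ : ι → T ≃* T),
      (∀ x : ι → T, x ∈ D ↔ ∀ i j, c i = c j → θ i (x i) = θ j (x j)) ∧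
      (∀ i j, c i = c j ↔ ∀ x ∈ D, x i = 1 ↔ x j = 1) := by
  classical
  haveI : Fintype ι := Fintype.ofFinite ι
  obtain ⟨t₀, ht₀⟩ : ∃ t₀ : T, t₀ ≠ 1 := exists_ne 1
  let rel : ι → ι → Prop := fun i j => ∀ x ∈ D, x i = 1 ↔ x j = 1
  have rel_refl : ∀ i, rel i i := fun i x _ => Iff.rfl
  have rel_symm : ∀ {i j}, rel i j → rel j i := fun h x hx => (h x hx).symm
  have rel_trans : ∀ {i j k}, rel i j → rel j k → rel i k :=
    fun h1 h2 x hx => (h1 x hx).trans (h2 x hx)
  let s : Setoid ι := ⟨rel, ⟨rel_refl, rel_symm, rel_trans⟩⟩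
  let c : ι → ι := fun i => (Quotient.mk s i).out
  have hc_rel : ∀ i, rel (c i) i := fun i => Quotient.mk_out (s := s) i
  have hc_iff : ∀ i j, c i = c j ↔ rel i j := by
    intro i j
    constructor
    · intro h
      have : Quotient.mk s i = Quotient.mk s j := Quotient.out_injective h
      exact Quotient.exact this
    · intro h
      show (Quotient.mk s i).out = (Quotient.mk s j).out
      rw [Quotient.sound (s := s) h]
  have hcc : ∀ i, c (c i) = c i := fun i => (hc_iff _ _).mpr (hc_rel i)
  -- isomorphisms between related coordinates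
  have ha : ∀ i j, rel i j → ∃ θ : T ≃* T, ∀ x ∈ D, θ (x i) = x j := by
    intro i j hij
    choose g hg using fun t => hD i t
    have key : ∀ x ∈ D, g (x i) j = x j := by
      intro x hx
      have h1 : (g (x i) * x⁻¹) ∈ D := D.mul_mem (hg _).1 (D.inv_mem hx)
      have h2 : (g (x i) * x⁻¹) i = 1 := by simp [(hg (x i)).2]
      have h3 := (hij _ h1).mp h2
      simpa [mul_inv_eq_one] using h3
    let f : T →* T := MonoidHom.mk' (fun t => g t j) (by
      intro a b
      have := key (g a * g b) (D.mul_mem (hg a).1 (hg b).1)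
      simpa [(hg a).2, (hg b).2] using this)
    have hfinj : Function.Injective f := by
      rw [injective_iff_map_eq_one]
      intro t ht
      have h1 : g t j = 1 := ht
      have h2 := (hij _ (hg t).1).mpr h1
      rw [(hg t).2] at h2; exact h2
    refine ⟨MulEquiv.ofBijective f ⟨hfinj, Finite.surjective_of_injective hfinj⟩, ?_⟩
    intro x hx
    exact key x hx
  -- elements supported on one class
  have hS3 : ∀ j (t : T), ∃ y ∈ D, y j = t ∧ ∀ i, ¬ rel i j → y i = 1 := by
    intro j t
    let supp : (ι → T) → Finset ι := fun x => Finset.univ.filter (fun l => x l ≠ 1)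
    let 𝒳 : Set (ι → T) := {x | x ∈ D ∧ x j ≠ 1}
    obtain ⟨x₀, hx₀D, hx₀j⟩ := hD j t₀
    have hne : 𝒳.Nonempty := ⟨x₀, hx₀D, by rw [hx₀j]; exact ht₀⟩
    obtain ⟨x, ⟨hxD, hxj⟩, hmin⟩ :=
      Set.exists_min_image 𝒳 (fun x => (supp x).card) (Set.toFinite 𝒳) hne
    have hsub : ∀ y : ι → T, (∀ l, x l = 1 → y l = 1) → supp y ⊆ supp x := by
      intro y hy l hl
      simp only [supp, Finset.mem_filter, Finset.mem_univ, true_and] at hl ⊢
      intro h; exact hl (hy l h)
    have claimA : ∀ y ∈ D, (∀ l, x l = 1 → y l = 1) → y j = 1 → y = 1 := by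
      intro y hyD hyx hyj
      by_contra hy1
      obtain ⟨i, hi⟩ : ∃ i, y i ≠ 1 := by
        by_contra hcon; push Not at hcon; exact hy1 (funext hcon)
      have hxi : x i ≠ 1 := fun h => hi (hyx i h)
      obtain ⟨y', hy'D, hy'y, hy'i⟩ := exists_supported D hD hyD hi (x i)⁻¹
      have hzD : x * y' ∈ D := D.mul_mem hxD hy'D
      have hzj : (x * y') j ≠ 1 := by
        simp only [Pi.mul_apply, hy'y j hyj, mul_one]; exact hxj
      have hz𝒳 : x * y' ∈ 𝒳 := ⟨hzD, hzj⟩
      have hlt : (supp (x * y')).card < (supp x).card := by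
        apply Finset.card_lt_card
        rw [Finset.ssubset_iff_of_subset
          (hsub _ (fun l hl => by simp [hl, hy'y l (hyx l hl)]))]
        refine ⟨i, ?_, ?_⟩
        · simp [supp, hxi]
        · simp [supp, hy'i]
      have h3 : (supp x).card ≤ (supp (x * y')).card := hmin _ hz𝒳
      omega
    have claimC : ∀ y ∈ D, (∀ l, x l = 1 → y l = 1) → ∀ i, x i ≠ 1 → y i = 1 → y = 1 := by
      intro y hyD hyx i hxi hyi
      by_cases hyj : y j = 1
      · exact claimA y hyD hyx hyj
      · exfalso
        have h1 : (supp x).card ≤ (supp y).card := hmin y ⟨hyD, hyj⟩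
        have h2 : supp y = supp x := Finset.eq_of_subset_of_card_le (hsub y hyx) h1
        have h3 : i ∈ supp x := by simp [supp, hxi]
        rw [← h2] at h3
        simp only [supp, Finset.mem_filter, Finset.mem_univ, true_and] at h3
        exact h3 hyi
    have claimD : ∀ i, x i ≠ 1 → rel i j := by
      intro i hxi z hz
      constructor
      · intro hzi
        by_contra hzj
        obtain ⟨s', hs'⟩ := hZ _ hzj
        obtain ⟨y, hyD, hyx, hyj⟩ := exists_supported D hD hxD hxj s'
        have hwD : z * y * z⁻¹ * y⁻¹ ∈ D :=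
          D.mul_mem (D.mul_mem (D.mul_mem hz hyD) (D.inv_mem hz)) (D.inv_mem hyD)
        have hw1 := claimC _ hwD (fun l hl => by simp [hyx l hl]) i hxi (by simp [hzi])
        have hwj := congrFun hw1 j
        simp only [Pi.mul_apply, Pi.inv_apply, Pi.one_apply, hyj] at hwj
        apply hs'
        have h5 := mul_inv_eq_one.mp hwj
        rw [mul_inv_eq_iff_eq_mul] at h5
        exact h5
      · intro hzj
        by_contra hzi
        obtain ⟨s', hs'⟩ := hZ _ hzi
        obtain ⟨y, hyD, hyx, hyi⟩ := exists_supported D hD hxD hxi s'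
        have hwD : z * y * z⁻¹ * y⁻¹ ∈ D :=
          D.mul_mem (D.mul_mem (D.mul_mem hz hyD) (D.inv_mem hz)) (D.inv_mem hyD)
        have hw1 := claimA _ hwD (fun l hl => by simp [hyx l hl]) (by simp [hzj])
        have hwi := congrFun hw1 i
        simp only [Pi.mul_apply, Pi.inv_apply, Pi.one_apply, hyi] at hwi
        apply hs'
        have h5 := mul_inv_eq_one.mp hwi
        rw [mul_inv_eq_iff_eq_mul] at h5
        exact h5
    obtain ⟨y, hyD, hyx, hyj⟩ := exists_supported D hD hxD hxj t
    refine ⟨y, hyD, hyj, ?_⟩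
    intro i hi
    apply hyx
    by_contra hxi
    exact hi (claimD i hxi)
  -- assemble
  have hθ : ∀ i, ∃ θ : T ≃* T, ∀ x ∈ D, θ (x i) = x (c i) :=
    fun i => ha i (c i) (rel_symm (hc_rel i))
  choose θ hθ using hθ
  have hθfix : ∀ r, c r = r → ∀ t, θ r t = t := by
    intro r hr t
    obtain ⟨x, hx, rfl⟩ := hD r t
    have := hθ r x hx
    rw [hr] at this; exact this
  refine ⟨c, θ, ?_, hc_iff⟩
  intro x
  constructor
  · intro hx i j hij
    rw [hθ i x hx, hθ j x hx, hij]
  · intro hx
    have hR : ∀ R : Finset ι, (fun i => if c i ∈ R then x i else 1) ∈ D := by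
      intro R
      induction R using Finset.induction_on with
      | empty =>
        have : (fun i => if c i ∈ (∅ : Finset ι) then x i else 1) = (1 : ι → T) := by
          funext i; simp
        rw [this]; exact D.one_mem
      | insert r R hr ih =>
        have hz : (fun i => if c i = r then x i else 1) ∈ D := by
          by_cases hex : ∃ i₀, c i₀ = r
          · obtain ⟨i₀, hi₀⟩ := hex
            have hcr : c r = r := by rw [← hi₀]; exact hcc i₀
            obtain ⟨y, hyD, hyr, hy1⟩ := hS3 r (x r)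
            have : (fun i => if c i = r then x i else 1) = y := by
              funext l
              by_cases hl : c l = r
              · simp only [hl, if_true]
                have h1 : θ l (y l) = y (c l) := hθ l y hyD
                have h2 : θ l (x l) = θ r (x r) := hx l r (by rw [hl, hcr])
                rw [hθfix r hcr] at h2
                rw [hl, hyr, ← h2] at h1
                exact ((θ l).injective h1).symm
              · simp only [hl, if_false]
                symm
                apply hy1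
                intro hrel
                apply hl
                rw [← hcr]; exact (hc_iff l r).mpr hrel
            rw [this]; exact hyD
          · have : (fun i => if c i = r then x i else 1) = (1 : ι → T) := by
              funext l
              have : c l ≠ r := fun h => hex ⟨l, h⟩
              simp [this]
            rw [this]; exact D.one_mem
        have : (fun i => if c i ∈ insert r R then x i else 1)
            = (fun i => if c i ∈ R then x i else 1) * (fun i => if c i = r then x i else 1) := by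
          funext l
          by_cases hl : c l = r
          · have : c l ∉ R := by rw [hl]; exact hr
            simp [hl, hr]
          · simp [hl, Finset.mem_insert]
        rw [this]; exact D.mul_mem ih hz
    have := hR Finset.univ
    simpa using this

end Cfsg.Agent.Lib.Helper58.ProdSimple
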