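import Mathlib
import Cfsg.Agent.Lib.Helper58.JTrudi

set_option autoImplicit false

/-!
The alternating sums of flag permutation characters of `GL_n(q)` attached to partitions are
orthonormal for the bilinear inner product.
-/

namespace Cfsg.Agent.Lib.Helper58.UnipGL

open Cfsg.Agent.Lib.Helper58.Tables Cfsg.Agent.Lib.Helper58.JTrudi

variable {F : Type*} [Field F] {n : ℕ}

theorem sum_comp_sub (ν : Fin n → ℕ) (hsum : ∑ i, ν i = n) (κ : Equiv.Perm (Fin n))
    (hc : ∀ i : Fin n, (κ i).val ≤ ν i + i.val) :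
    ∑ i : Fin n, (ν i + i.val - (κ i).val) = n := by
  have h1 : ∑ i : Fin n, (κ i).val = ∑ i : Fin n, i.val :=
    Equiv.sum_comp κ (fun j : Fin n => j.val)
  have h2 : ∑ i : Fin n, (ν i + i.val - (κ i).val) + ∑ i : Fin n, (κ i).val
      = ∑ i : Fin n, (ν i + i.val) := by
    rw [← Finset.sum_add_distrib]
    exact Finset.sum_congr rfl (fun i _ => Nat.sub_add_cancel (hc i))
  rw [Finset.sum_add_distrib, hsum, h1] at h2
  omega

theorem inner_sum {X ι : Type*} [Fintype X] [Fintype ι] (c : ℂ) (a b : ι → X → ℂ)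
    (z : ι → ι → ℂ) (hkey : ∀ κ κ', c * ∑ g, a κ g * b κ' g = z κ κ') :
    c * ∑ g, (∑ κ, a κ g) * (∑ κ', b κ' g) = ∑ κ, ∑ κ', z κ κ' := by
  simp only [Finset.sum_mul_sum]
  rw [Finset.sum_comm, Finset.mul_sum]
  refine Finset.sum_congr rfl (fun κ _ => ?_)
  rw [Finset.sum_comm, Finset.mul_sum]
  exact Finset.sum_congr rfl (fun κ' _ => hkey κ κ')

theorem strictMono_shift (ν : Fin n → ℕ) (hmono : Monotone ν) :
    StrictMono (fun i : Fin n => ν i + i.val) := by
  intro i j hij
  have h1 := hmono hij.le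
  have h2 : i.val < j.val := hij
  show ν i + i.val < ν j + j.val
  omega

/-- orthonormality of the partition-indexed class functions of `GL_n(q)` -/
theorem unip_inner [Fintype (GL (Fin n) F)] (ν ν' : Fin n → ℕ) (hmono : Monotone ν)
    (hsum : ∑ i, ν i = n) (hmono' : Monotone ν') (hsum' : ∑ i, ν' i = n) :
    (Nat.card (GL (Fin n) F) : ℂ)⁻¹ * ∑ g : GL (Fin n) F,
      Cfsg.unipotentCharacterGL n F ν g * Cfsg.unipotentCharacterGL n F ν' g
      = if ν = ν' then 1 else 0 := by
  have hl := strictMono_shift ν hmono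
  have hl' := strictMono_shift ν' hmono'
  have key : ∀ κ κ' : Equiv.Perm (Fin n),
      (Nat.card (GL (Fin n) F) : ℂ)⁻¹ * ∑ g : GL (Fin n) F,
        (if ∀ i : Fin n, (κ i).val ≤ ν i + i.val then
          ((Equiv.Perm.sign κ : ℤ) : ℂ) * Cfsg.fixedPointCharacter
            (Cfsg.parabolicGL n F fun i => ν i + i.val - (κ i).val) g else 0) *
        (if ∀ i : Fin n, (κ' i).val ≤ ν' i + i.val then
          ((Equiv.Perm.sign κ' : ℤ) : ℂ) * Cfsg.fixedPointCharacter
            (Cfsg.parabolicGL n F fun i => ν' i + i.val - (κ' i).val) g else 0)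
      = (((if ∀ i : Fin n, (κ i).val ≤ ν i + i.val then
            (if ∀ i : Fin n, (κ' i).val ≤ ν' i + i.val then
              ((Equiv.Perm.sign κ : ℤ) * (Equiv.Perm.sign κ' : ℤ)) *
                (NN (fun i => ν i + i.val - (κ i).val) (fun i => ν' i + i.val - (κ' i).val) : ℤ)
            else 0) else 0 : ℤ)) : ℂ) := by
    intro κ κ'
    by_cases h1 : ∀ i : Fin n, (κ i).val ≤ ν i + i.val
    · by_cases h2 : ∀ i : Fin n, (κ' i).val ≤ ν' i + i.val
      · simp only [if_pos h1, if_pos h2]
        have e : ∀ g : GL (Fin n) F,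
            ((Equiv.Perm.sign κ : ℤ) : ℂ) * Cfsg.fixedPointCharacter
              (Cfsg.parabolicGL n F fun i => ν i + i.val - (κ i).val) g *
            (((Equiv.Perm.sign κ' : ℤ) : ℂ) * Cfsg.fixedPointCharacter
              (Cfsg.parabolicGL n F fun i => ν' i + i.val - (κ' i).val) g)
            = (((Equiv.Perm.sign κ : ℤ) : ℂ) * ((Equiv.Perm.sign κ' : ℤ) : ℂ)) *
              (Cfsg.fixedPointCharacter
                (Cfsg.parabolicGL n F fun i => ν i + i.val - (κ i).val) g *
              Cfsg.fixedPointCharacter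
                (Cfsg.parabolicGL n F fun i => ν' i + i.val - (κ' i).val) g) := fun g => by ring
        simp only [e]
        rw [← Finset.mul_sum, mul_left_comm,
          gl_inner _ _ (sum_comp_sub ν hsum κ h1) (sum_comp_sub ν' hsum' κ' h2)]
        push_cast
        ring
      · simp only [if_pos h1, if_neg h2, mul_zero, Finset.sum_const_zero, Int.cast_zero]
    · simp only [if_neg h1, zero_mul, Finset.sum_const_zero, mul_zero, Int.cast_zero]
  unfold Cfsg.unipotentCharacterGL
  rw [inner_sum _ _ _ _ key]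
  simp only [← Int.cast_sum]
  have ho := ortho (fun i : Fin n => ν i + i.val) (fun i : Fin n => ν' i + i.val) hl hl'
  rw [ho]
  by_cases h : ν = ν'
  · subst h
    simp
  · have hne : (fun i : Fin n => ν i + i.val) ≠ (fun i : Fin n => ν' i + i.val) :=
      fun hh => h (funext fun i => Nat.add_right_cancel (congrFun hh i))
    simp [h, hne]

end Cfsg.Agent.Lib.Helper58.UnipGL
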