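import Mathlib
import Cfsg.Agent.Lib.Helper58.DCosetHom
import Cfsg.Agent.Lib.Helper58.UnipGL

set_option autoImplicit false

/-!
The flag permutation characters of `GL_n(q)` restricted to `SL_n(q)` have the same inner
products, so the partition-indexed characters stay orthonormal on `SL_n(q)`.
-/

namespace Cfsg.Agent.Lib.Helper58.SLOrbit

open Cfsg.Agent.Lib.Helper58.BruhatGL Cfsg.Agent.Lib.Helper58.Tables
  Cfsg.Agent.Lib.Helper58.JTrudi Cfsg.Agent.Lib.Helper58.UnipGL

variable {F : Type*} [Field F] {n : ℕ}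

theorem diag_mem_parab (c : Fin n → ℕ) (g : GL (Fin n) F)
    (hg : ∀ i j, i ≠ j → (g : Matrix (Fin n) (Fin n) F) i j = 0) : g ∈ parab F c := by
  rw [mem_parab]
  intro i j hij
  apply hg
  rintro rfl
  exact lt_irrefl _ hij

theorem inv_diag (g : GL (Fin n) F)
    (hg : ∀ i j, i ≠ j → (g : Matrix (Fin n) (Fin n) F) i j = 0) :
    ∀ i j, i ≠ j → ((g⁻¹ : GL (Fin n) F) : Matrix (Fin n) (Fin n) F) i j = 0 := by
  have h1 : g⁻¹ ∈ parab F (fun i : Fin n => (i : ℕ)) :=
    (parab F _).inv_mem (diag_mem_parab _ g hg)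
  have h2 : g⁻¹ ∈ parab F (fun i : Fin n => n - (i : ℕ)) :=
    (parab F _).inv_mem (diag_mem_parab _ g hg)
  intro i j hij
  rcases lt_or_gt_of_ne hij with h | h
  · apply h2
    show n - (j : ℕ) < n - (i : ℕ)
    have h3 : (i : ℕ) < (j : ℕ) := h
    have h4 := j.2
    omega
  · apply h1
    exact h

theorem exists_diag (hn : 0 < n) (d : Fˣ) : ∃ t : GL (Fin n) F,
    (∀ i j, i ≠ j → (t : Matrix (Fin n) (Fin n) F) i j = 0) ∧
      Matrix.GeneralLinearGroup.det t = d := by
  classical
  have hdet : (Matrix.diagonal (fun i : Fin n => if i = ⟨0, hn⟩ then (d : F) else 1)).det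
      = (d : F) := by
    rw [Matrix.det_diagonal, Finset.prod_ite_eq' Finset.univ (⟨0, hn⟩ : Fin n) (fun _ => (d : F)),
      if_pos (Finset.mem_univ _)]
  refine ⟨Matrix.GeneralLinearGroup.mkOfDetNeZero
    (Matrix.diagonal (fun i : Fin n => if i = ⟨0, hn⟩ then (d : F) else 1))
    (by rw [hdet]; exact d.ne_zero), ?_, ?_⟩
  · intro i j hij
    exact Matrix.diagonal_apply_ne _ hij
  · apply Units.ext
    rw [Matrix.GeneralLinearGroup.val_det_apply]
    exact hdet

theorem sl_hc (hn : 0 < n) {b c : Fin n → ℕ} (hb : Monotone b) (hc : Monotone c)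
    (x w z : GL (Fin n) F) :
    ∃ s : Matrix.SpecialLinearGroup (Fin n) F, ∃ h ∈ parab F b, ∃ k ∈ parab F c,
      Matrix.SpecialLinearGroup.toGL s = z * (w * h * w⁻¹) ∧ h * x * k = x := by
  obtain ⟨σ, u, hu, u', hu', hx⟩ := exists_decomp hb hc x
  obtain ⟨t, ht, hdet⟩ := exists_diag hn (Matrix.GeneralLinearGroup.det z)⁻¹
  have ht' := inv_diag t ht
  have hcomm : ∀ a b c : Fˣ, a * (b * (c * a⁻¹ * c⁻¹) * b⁻¹) = 1 := by
    intro a b c
    have e1 : c * a⁻¹ * c⁻¹ = a⁻¹ := by rw [mul_comm c, mul_inv_cancel_right]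
    have e2 : b * a⁻¹ * b⁻¹ = a⁻¹ := by rw [mul_comm b, mul_inv_cancel_right]
    rw [e1, e2, mul_inv_cancel]
  have hdet1 : Matrix.GeneralLinearGroup.det (z * (w * (u * t * u⁻¹) * w⁻¹)) = 1 := by
    simp only [map_mul, map_inv, hdet]
    exact hcomm _ _ _
  have hg₀ : ((z * (w * (u * t * u⁻¹) * w⁻¹) : GL (Fin n) F) : Matrix (Fin n) (Fin n) F).det
      = 1 := by
    have h1 := congrArg (fun v : Fˣ => (v : F)) hdet1
    simp only [Matrix.GeneralLinearGroup.val_det_apply, Units.val_one] at h1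
    exact h1
  refine ⟨⟨((z * (w * (u * t * u⁻¹) * w⁻¹) : GL (Fin n) F) : Matrix (Fin n) (Fin n) F), hg₀⟩,
    u * t * u⁻¹, ?_, u'⁻¹ * ((pg F n σ)⁻¹ * t⁻¹ * pg F n σ) * u', ?_, ?_, ?_⟩
  · exact (parab F b).mul_mem ((parab F b).mul_mem hu (diag_mem_parab b t ht))
      ((parab F b).inv_mem hu)
  · refine (parab F c).mul_mem ((parab F c).mul_mem ((parab F c).inv_mem hu') ?_) hu'
    apply diag_mem_parab
    intro i j hij
    have h1 : (((pg F n σ)⁻¹ * t⁻¹ * pg F n σ : GL (Fin n) F) : Matrix (Fin n) (Fin n) F)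
        = pm F σ⁻¹ * ((t⁻¹ : GL (Fin n) F) : Matrix (Fin n) (Fin n) F) * pm F σ := by
      rw [← map_inv, Units.val_mul, Units.val_mul, coe_pg, coe_pg]
    rw [h1, mul_pm, pm_mul, inv_inv]
    apply ht'
    intro h
    exact hij (σ.injective h)
  · apply Units.ext
    rfl
  · rw [hx]
    group

/-- the special linear side -/
theorem sl_count [Fintype (Matrix.SpecialLinearGroup (Fin n) F)] [Finite (GL (Fin n) F)]
    (hn : 0 < n) {b c : Fin n → ℕ} (hb : Monotone b) (hc : Monotone c) :
    (Nat.card (Matrix.SpecialLinearGroup (Fin n) F) : ℂ)⁻¹ *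
        ∑ s : Matrix.SpecialLinearGroup (Fin n) F,
          Cfsg.fixedPointCharacter (parab F b) (Matrix.SpecialLinearGroup.toGL s) *
            Cfsg.fixedPointCharacter (parab F c) (Matrix.SpecialLinearGroup.toGL s)
      = (Nat.card (Set.range (tab b c)) : ℂ) := by
  classical
  choose sg ug hug ug' hug' hsg using exists_decomp (F := F) hb hc
  have hrange : Set.range (fun g : GL (Fin n) F => tab b c (sg g)) = Set.range (tab b c) := by
    ext t
    constructor
    · rintro ⟨g, rfl⟩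
      exact ⟨sg g, rfl⟩
    · rintro ⟨σ, rfl⟩
      refine ⟨pg F n σ, ?_⟩
      show tab b c (sg (pg F n σ)) = tab b c σ
      apply tab_eq_of_rel b c (u := 1) (u' := 1) (p := 1) (p' := 1)
        (w := ug (pg F n σ)) (w' := ug' (pg F n σ)) (one_mem _) (hug _) (one_mem _)
        (one_mem _) (hug' _) (one_mem _)
      rw [← hsg]
      group
  rw [← hrange]
  refine DCoset.dc_count_hom Matrix.SpecialLinearGroup.toGL (parab F b) (parab F c)
    (fun g => tab b c (sg g)) ?_ ?_ (sl_hc hn hb hc)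
  · intro p hp p' hp' g
    show tab b c (sg (p * g * p')) = tab b c (sg g)
    apply tab_eq_of_rel b c (hug g) (hug (p * g * p')) hp (hug' g) (hug' _) hp'
    rw [← hsg, ← hsg]
  · intro g g' hgg
    obtain ⟨ρ, hρ, π, hπ, hτ⟩ := tab_complete b c _ _ hgg
    refine ⟨ug g' * pg F n ρ * (ug g)⁻¹, ?_, (ug' g)⁻¹ * pg F n π * ug' g', ?_, ?_⟩
    · exact (parab F b).mul_mem ((parab F b).mul_mem (hug g') (pg_mem_parab hρ))
        ((parab F b).inv_mem (hug g))
    · exact (parab F c).mul_mem ((parab F c).mul_mem ((parab F c).inv_mem (hug' g))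
        (pg_mem_parab hπ)) (hug' g')
    · have key : ug g' * pg F n ρ * (ug g)⁻¹ * (ug g * pg F n (sg g) * ug' g)
          * ((ug' g)⁻¹ * pg F n π * ug' g') = ug g' * pg F n (sg g') * ug' g' := by
        rw [hτ, map_mul, map_mul]
        group
      rw [← hsg g, ← hsg g'] at key
      exact key.symm

theorem sl_inner [Fintype (Matrix.SpecialLinearGroup (Fin n) F)] [Finite (GL (Fin n) F)]
    (hn : 0 < n) (α β : Fin n → ℕ) (hα : ∑ i, α i = n) (hβ : ∑ i, β i = n) :
    (Nat.card (Matrix.SpecialLinearGroup (Fin n) F) : ℂ)⁻¹ *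
        ∑ s : Matrix.SpecialLinearGroup (Fin n) F,
          Cfsg.fixedPointCharacter (Cfsg.parabolicGL n F α) (Matrix.SpecialLinearGroup.toGL s) *
            Cfsg.fixedPointCharacter (Cfsg.parabolicGL n F β) (Matrix.SpecialLinearGroup.toGL s)
      = (NN α β : ℂ) := by
  rw [parabolicGL_eq, parabolicGL_eq, sl_count hn (compLabel_mono α) (compLabel_mono β),
    card_range_tab (Cfsg.compLabel α) (Cfsg.compLabel β)
      (Cfsg.Agent.Lib.Helper40.compLabel_lt α hα) (Cfsg.Agent.Lib.Helper40.compLabel_lt β hβ) α β]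
  · intro s
    rw [← Cfsg.Agent.Lib.Helper40.card_compLabel_fibre α hα s, Nat.card_eq_fintype_card,
      Fintype.card_subtype]
  · intro t
    rw [← Cfsg.Agent.Lib.Helper40.card_compLabel_fibre β hβ t, Nat.card_eq_fintype_card,
      Fintype.card_subtype]

/-- orthonormality of the partition-indexed class functions along any map into `GL_n(q)` for
which the flag characters have the expected inner products -/
theorem unip_inner_gen {S : Type*} [Fintype S] (ι : S → GL (Fin n) F) (c : ℂ)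
    (hinner : ∀ α β : Fin n → ℕ, ∑ i, α i = n → ∑ i, β i = n →
      c * ∑ s : S, Cfsg.fixedPointCharacter (Cfsg.parabolicGL n F α) (ι s) *
        Cfsg.fixedPointCharacter (Cfsg.parabolicGL n F β) (ι s) = (NN α β : ℂ))
    (ν ν' : Fin n → ℕ) (hmono : Monotone ν)
    (hsum : ∑ i, ν i = n) (hmono' : Monotone ν') (hsum' : ∑ i, ν' i = n) :
    c * ∑ s : S,
      Cfsg.unipotentCharacterGL n F ν (ι s) * Cfsg.unipotentCharacterGL n F ν' (ι s)
      = if ν = ν' then 1 else 0 := by
  have hl := strictMono_shift ν hmono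
  have hl' := strictMono_shift ν' hmono'
  have key : ∀ κ κ' : Equiv.Perm (Fin n),
      c * ∑ g : S,
        (if ∀ i : Fin n, (κ i).val ≤ ν i + i.val then
          ((Equiv.Perm.sign κ : ℤ) : ℂ) * Cfsg.fixedPointCharacter
            (Cfsg.parabolicGL n F fun i => ν i + i.val - (κ i).val) (ι g) else 0) *
        (if ∀ i : Fin n, (κ' i).val ≤ ν' i + i.val then
          ((Equiv.Perm.sign κ' : ℤ) : ℂ) * Cfsg.fixedPointCharacter
            (Cfsg.parabolicGL n F fun i => ν' i + i.val - (κ' i).val) (ι g) else 0)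
      = (((if ∀ i : Fin n, (κ i).val ≤ ν i + i.val then
            (if ∀ i : Fin n, (κ' i).val ≤ ν' i + i.val then
              ((Equiv.Perm.sign κ : ℤ) * (Equiv.Perm.sign κ' : ℤ)) *
                (NN (fun i => ν i + i.val - (κ i).val) (fun i => ν' i + i.val - (κ' i).val) : ℤ)
            else 0) else 0 : ℤ)) : ℂ) := by
    intro κ κ'
    by_cases h1 : ∀ i : Fin n, (κ i).val ≤ ν i + i.val
    · by_cases h2 : ∀ i : Fin n, (κ' i).val ≤ ν' i + i.val
      · simp only [if_pos h1, if_pos h2]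
        have e : ∀ g : S,
            ((Equiv.Perm.sign κ : ℤ) : ℂ) * Cfsg.fixedPointCharacter
              (Cfsg.parabolicGL n F fun i => ν i + i.val - (κ i).val) (ι g) *
            (((Equiv.Perm.sign κ' : ℤ) : ℂ) * Cfsg.fixedPointCharacter
              (Cfsg.parabolicGL n F fun i => ν' i + i.val - (κ' i).val) (ι g))
            = (((Equiv.Perm.sign κ : ℤ) : ℂ) * ((Equiv.Perm.sign κ' : ℤ) : ℂ)) *
              (Cfsg.fixedPointCharacter
                (Cfsg.parabolicGL n F fun i => ν i + i.val - (κ i).val) (ι g) *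
              Cfsg.fixedPointCharacter
                (Cfsg.parabolicGL n F fun i => ν' i + i.val - (κ' i).val) (ι g)) :=
          fun g => by ring
        simp only [e]
        rw [← Finset.mul_sum, mul_left_comm,
          hinner _ _ (sum_comp_sub ν hsum κ h1) (sum_comp_sub ν' hsum' κ' h2)]
        push_cast
        ring
      · simp only [if_pos h1, if_neg h2, mul_zero, Finset.sum_const_zero, Int.cast_zero]
    · simp only [if_neg h1, zero_mul, Finset.sum_const_zero, mul_zero, Int.cast_zero]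
  unfold Cfsg.unipotentCharacterGL
  rw [inner_sum _ _ _ _ key]
  simp only [← Int.cast_sum]
  have ho := ortho (fun i : Fin n => ν i + i.val) (fun i : Fin n => ν' i + i.val) hl hl'
  rw [ho]
  by_cases h : ν = ν'
  · subst h
    simp
  · have hne : (fun i : Fin n => ν i + i.val) ≠ (fun i : Fin n => ν' i + i.val) :=
      fun hh => h (funext fun i => Nat.add_right_cancel (congrFun hh i))
    simp [h, hne]

/-- orthonormality on the special linear group -/
theorem unip_inner_sl [Fintype (Matrix.SpecialLinearGroup (Fin n) F)] [Finite (GL (Fin n) F)]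
    (hn : 0 < n) (ν ν' : Fin n → ℕ) (hmono : Monotone ν)
    (hsum : ∑ i, ν i = n) (hmono' : Monotone ν') (hsum' : ∑ i, ν' i = n) :
    (Nat.card (Matrix.SpecialLinearGroup (Fin n) F) : ℂ)⁻¹ *
        ∑ s : Matrix.SpecialLinearGroup (Fin n) F,
          Cfsg.unipotentCharacterGL n F ν (Matrix.SpecialLinearGroup.toGL s) *
            Cfsg.unipotentCharacterGL n F ν' (Matrix.SpecialLinearGroup.toGL s)
      = if ν = ν' then 1 else 0 :=
  unip_inner_gen (fun s => Matrix.SpecialLinearGroup.toGL s) _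
    (fun α β hα hβ => sl_inner hn α β hα hβ) ν ν' hmono hsum hmono' hsum'

end Cfsg.Agent.Lib.Helper58.SLOrbit
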