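import Mathlib

set_option autoImplicit false
set_option linter.style.haveILetI false

namespace Cfsg.Agent.Lib.Helper58

open MulAction

/-- A sharply 2-transitive action, in elementwise form. -/
structure SharpTwo (G α : Type*) [Group G] [MulAction G α] : Prop where
  trans : ∀ a b c d : α, a ≠ b → c ≠ d → ∃ g : G, g • a = c ∧ g • b = d
  sharp : ∀ (g : G) (a b : α), a ≠ b → g • a = a → g • b = b → g = 1

namespace SharpTwo

/-- fixed-point-free elements -/
def fpf (G α : Type*) [Group G] [MulAction G α] : Set G := {g | ∀ a : α, g • a ≠ a}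

variable {G α : Type*} [Group G] [MulAction G α]

theorem eq_of_smul_eq (S : SharpTwo G α) {g h : G} {a b : α} (hab : a ≠ b)
    (ha : g • a = h • a) (hb : g • b = h • b) : g = h := by
  have := S.sharp (h⁻¹ * g) a b hab (by rw [mul_smul, ha, inv_smul_smul])
    (by rw [mul_smul, hb, inv_smul_smul])
  exact (inv_mul_eq_one.mp this).symm

theorem exists_smul_eq' [Nontrivial α] (S : SharpTwo G α) (a c : α) : ∃ g : G, g • a = c := by
  obtain ⟨b, hb⟩ := exists_ne a
  obtain ⟨d, hd⟩ := exists_ne c
  obtain ⟨g, hg, -⟩ := S.trans a b c d hb.symm hd.symm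
  exact ⟨g, hg⟩

theorem isPretransitive [Nontrivial α] (S : SharpTwo G α) : IsPretransitive G α :=
  ⟨S.exists_smul_eq'⟩

theorem card_stabilizer [Finite α] [Nontrivial α] (S : SharpTwo G α) (a : α) :
    Nat.card (stabilizer G a) = Nat.card α - 1 := by
  classical
  haveI : Fintype α := Fintype.ofFinite α
  obtain ⟨b, hb⟩ := exists_ne a
  have hmem : ∀ h : stabilizer G a, (h : G) • b ∈ {x : α | x ≠ a} := by
    intro h hh
    have h1 : (h : G) • a = a := h.2
    exact hb (MulAction.injective (h : G) (hh.trans h1.symm))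
  have hbij : Function.Bijective
      (fun h : stabilizer G a => (⟨(h : G) • b, hmem h⟩ : {x : α | x ≠ a})) := by
    constructor
    · intro h h' hh
      have h1 : (h : G) • a = a := h.2
      have h2 : (h' : G) • a = a := h'.2
      have h3 : (h : G) • b = (h' : G) • b := congrArg Subtype.val hh
      exact Subtype.ext (S.eq_of_smul_eq hb.symm (h1.trans h2.symm) h3)
    · rintro ⟨c, hc⟩
      obtain ⟨g, hg1, hg2⟩ := S.trans a b a c hb.symm (Ne.symm hc)
      exact ⟨⟨g, hg1⟩, Subtype.ext hg2⟩
  rw [Nat.card_eq_of_bijective _ hbij, Nat.card_eq_fintype_card, Set.card_ne_eq,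
    Nat.card_eq_fintype_card]

theorem card_group [Finite α] [Nontrivial α] (S : SharpTwo G α) :
    Nat.card G = (Nat.card α - 1) * Nat.card α := by
  haveI := S.isPretransitive
  obtain ⟨a⟩ := (inferInstance : Nonempty α)
  rw [← Subgroup.card_mul_index (stabilizer G a), S.card_stabilizer a,
    index_stabilizer_of_transitive]

theorem one_notMem_fpf [Nonempty α] : (1 : G) ∉ fpf G α := by
  intro h
  obtain ⟨a⟩ := (inferInstance : Nonempty α)
  exact h a (one_smul _ _)

theorem ncard_fpf [Finite G] [Finite α] [Nontrivial α] (S : SharpTwo G α) :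
    (fpf G α).ncard = Nat.card α - 1 := by
  classical
  haveI : Fintype G := Fintype.ofFinite G
  haveI : Fintype α := Fintype.ofFinite α
  haveI := S.isPretransitive
  have hB := MulAction.sum_card_fixedBy_eq_card_orbits_mul_card_group G α
  have hΩ : Fintype.card (Quotient (orbitRel G α)) = 1 := by
    rw [Fintype.card_eq_one_iff]
    obtain ⟨a⟩ := (inferInstance : Nonempty α)
    refine ⟨Quotient.mk'' a, fun y => ?_⟩
    induction y using Quotient.inductionOn' with
    | h b => exact Quotient.sound' (MulAction.exists_smul_eq G a b)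
  have hpt : ∀ g : G, Fintype.card (fixedBy α g) + (if g ∈ fpf G α then 1 else 0)
      = 1 + (if g = 1 then Fintype.card α - 1 else 0) := by
    intro g
    by_cases h1 : g = 1
    · subst h1
      have hc : Fintype.card (fixedBy α (1 : G)) = Fintype.card α :=
        Fintype.card_congr (Equiv.subtypeUnivEquiv (fun a => by simp))
      have hpos : 0 < Fintype.card α := Fintype.card_pos
      rw [hc, if_neg one_notMem_fpf, if_pos rfl]
      omega
    · rw [if_neg h1]
      by_cases hf : g ∈ fpf G α
      · have hc : Fintype.card (fixedBy α g) = 0 :=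
          Fintype.card_eq_zero_iff.mpr ⟨fun ⟨a, ha⟩ => hf a ha⟩
        rw [hc, if_pos hf]
      · have hf' : ∃ a : α, g • a = a := by
          by_contra hcon
          push Not at hcon
          exact hf hcon
        obtain ⟨a, ha⟩ := hf'
        have hc : Fintype.card (fixedBy α g) = 1 :=
          Fintype.card_eq_one_iff.mpr ⟨⟨a, ha⟩, fun ⟨b, hb⟩ =>
            Subtype.ext (by_contra fun hne => h1 (S.sharp g a b (Ne.symm hne) ha hb))⟩
        rw [hc, if_neg hf]
  have hsum := Finset.sum_congr (rfl : (Finset.univ : Finset G) = Finset.univ) (fun g _ => hpt g)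
  rw [Finset.sum_add_distrib, Finset.sum_add_distrib, hB, hΩ, one_mul, Finset.sum_const,
    Finset.card_univ, smul_eq_mul, mul_one, Finset.sum_ite_eq' Finset.univ (1 : G),
    if_pos (Finset.mem_univ _), ← Finset.card_filter] at hsum
  have hnc : (fpf G α).ncard = (Finset.univ.filter (fun g => g ∈ fpf G α)).card := by
    rw [← Set.ncard_coe_finset]
    congr 1
    ext
    simp
  rw [hnc, Nat.card_eq_fintype_card]
  omega

theorem conj_mem_fpf {u : G} (hu : u ∈ fpf G α) (g : G) : g * u * g⁻¹ ∈ fpf G α := by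
  intro a h
  apply hu (g⁻¹ • a)
  rw [mul_smul, mul_smul] at h
  exact eq_inv_smul_iff.mpr h

theorem eq_one_of_commute_of_fixed (S : SharpTwo G α) {u : G} (hu : u ∈ fpf G α) {c : G}
    (hc : Commute c u) {a : α} (ha : c • a = a) : c = 1 := by
  apply S.sharp c a (u • a) (Ne.symm (hu a)) ha
  rw [← mul_smul, hc.eq, mul_smul, ha]

theorem card_centralizer_le [Finite α] [Nonempty α] (S : SharpTwo G α) {u : G}
    (hu : u ∈ fpf G α) : Nat.card (Subgroup.centralizer {u}) ≤ Nat.card α := by
  obtain ⟨a⟩ := (inferInstance : Nonempty α)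
  apply Nat.card_le_card_of_injective (fun c : Subgroup.centralizer {u} => (c : G) • a)
  intro c c' h
  have h' : (c : G) • a = (c' : G) • a := h
  have h1 : ((c'⁻¹ * c : Subgroup.centralizer {u}) : G) • a = a := by
    rw [Subgroup.coe_mul, Subgroup.coe_inv, mul_smul, h', inv_smul_smul]
  have h2 : Commute ((c'⁻¹ * c : Subgroup.centralizer {u}) : G) u :=
    (Subgroup.mem_centralizer_iff.mp (c'⁻¹ * c).2 u rfl).symm
  have h3 := S.eq_one_of_commute_of_fixed hu h2 h1
  have h4 : c'⁻¹ * c = 1 := Subtype.ext h3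
  exact (inv_mul_eq_one.mp h4).symm

theorem exists_conjMap {u : G} (hu : u ∈ fpf G α) :
    ∃ f : G ⧸ Subgroup.centralizer {u} → fpf G α, Function.Injective f ∧
      ∀ q, ∃ g : G, (f q : G) = g * u * g⁻¹ := by
  have hwd : ∀ g h : G, (QuotientGroup.leftRel (Subgroup.centralizer {u})) g h →
      (⟨g * u * g⁻¹, conj_mem_fpf hu g⟩ : fpf G α) = ⟨h * u * h⁻¹, conj_mem_fpf hu h⟩ := by
    intro g h hgh
    rw [QuotientGroup.leftRel_apply] at hgh
    have hc : u * (g⁻¹ * h) = g⁻¹ * h * u := Subgroup.mem_centralizer_iff.mp hgh u rfl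
    apply Subtype.ext
    show g * u * g⁻¹ = h * u * h⁻¹
    have : h * u * h⁻¹ = g * (g⁻¹ * h * u) * h⁻¹ := by group
    rw [this, ← hc]
    group
  refine ⟨fun q => Quotient.liftOn' q (fun g => (⟨g * u * g⁻¹, conj_mem_fpf hu g⟩ : fpf G α)) hwd,
    ?_, ?_⟩
  · intro q q' hq
    induction q using Quotient.inductionOn' with
    | h g =>
      induction q' using Quotient.inductionOn' with
      | h h =>
        have h1 : g * u * g⁻¹ = h * u * h⁻¹ := congrArg Subtype.val hq
        apply Quotient.sound'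
        rw [QuotientGroup.leftRel_apply, Subgroup.mem_centralizer_iff]
        intro x hx
        rw [Set.mem_singleton_iff] at hx
        subst hx
        have : x * (g⁻¹ * h) = g⁻¹ * (g * x * g⁻¹) * h := by group
        rw [this, h1]
        group
  · intro q
    induction q using Quotient.inductionOn' with
    | h g => exact ⟨g, rfl⟩

theorem centralizer_card_eq [Finite G] [Finite α] [Nontrivial α] (S : SharpTwo G α) {u : G}
    (hu : u ∈ fpf G α) : Nat.card (Subgroup.centralizer {u}) = Nat.card α ∧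
      (Subgroup.centralizer {u}).index = Nat.card α - 1 := by
  have h1 := Subgroup.card_mul_index (Subgroup.centralizer {u})
  rw [S.card_group] at h1
  have h2 := S.card_centralizer_le hu
  obtain ⟨f, hf, -⟩ := exists_conjMap hu
  have h3 : (Subgroup.centralizer {u}).index ≤ Nat.card α - 1 := by
    rw [← S.ncard_fpf, ← Nat.card_coe_set_eq]
    exact Nat.card_le_card_of_injective f hf
  have hn : 1 < Nat.card α := Finite.one_lt_card
  generalize Nat.card (Subgroup.centralizer {u}) = c at h1 h2 ⊢
  generalize (Subgroup.centralizer {u}).index = i at h1 h3 ⊢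
  generalize Nat.card α = n at h1 h2 h3 hn ⊢
  have k1 : c * i ≤ n * i := Nat.mul_le_mul_right i h2
  have k2 : n * i ≤ n * (n - 1) := Nat.mul_le_mul_left n h3
  have k3 : (n - 1) * n = n * (n - 1) := Nat.mul_comm _ _
  have k4 : n * i = n * (n - 1) := by omega
  have hi : i = n - 1 := Nat.eq_of_mul_eq_mul_left (by omega) k4
  have k5 : c * i = n * i := by omega
  have hc : c = n := Nat.eq_of_mul_eq_mul_right (by omega) k5
  exact ⟨hc, hi⟩

theorem mem_centralizer_iff_of_fpf [Finite G] [Finite α] [Nontrivial α] (S : SharpTwo G α)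
    {u : G} (hu : u ∈ fpf G α) (g : G) :
    g ∈ Subgroup.centralizer {u} ↔ g = 1 ∨ g ∈ fpf G α := by
  have hsub : ((Subgroup.centralizer {u} : Subgroup G) : Set G) ⊆ insert 1 (fpf G α) := by
    intro c hc
    by_cases h1 : c = 1
    · exact Or.inl h1
    · right
      intro a ha
      exact h1 (S.eq_one_of_commute_of_fixed hu
        (Subgroup.mem_centralizer_iff.mp hc u rfl).symm ha)
  have hn : 1 < Nat.card α := Finite.one_lt_card
  have hcard : (insert (1 : G) (fpf G α)).ncard
      ≤ ((Subgroup.centralizer {u} : Subgroup G) : Set G).ncard := by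
    rw [Set.ncard_insert_of_notMem one_notMem_fpf (Set.toFinite _), S.ncard_fpf,
      ← Nat.card_coe_set_eq]
    have := (S.centralizer_card_eq hu).1
    change _ ≤ Nat.card (Subgroup.centralizer {u})
    omega
  have heq := Set.eq_of_subset_of_ncard_le hsub hcard (Set.toFinite _)
  have : g ∈ ((Subgroup.centralizer {u} : Subgroup G) : Set G) ↔ g ∈ insert 1 (fpf G α) := by
    rw [heq]
  exact this

theorem conj_of_fpf [Finite G] [Finite α] [Nontrivial α] (S : SharpTwo G α) {u v : G}
    (hu : u ∈ fpf G α) (hv : v ∈ fpf G α) : ∃ g : G, v = g * u * g⁻¹ := by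
  obtain ⟨f, hf, hf2⟩ := exists_conjMap hu
  have hle : Nat.card (fpf G α) ≤ Nat.card (G ⧸ Subgroup.centralizer {u}) := by
    rw [Nat.card_coe_set_eq, S.ncard_fpf]
    have := (S.centralizer_card_eq hu).2
    rw [Subgroup.index] at this
    omega
  have hbij := Function.Injective.bijective_of_nat_card_le hf hle
  obtain ⟨q, hq⟩ := hbij.2 ⟨v, hv⟩
  obtain ⟨g, hg⟩ := hf2 q
  exact ⟨g, by rw [← hg, hq]⟩

/-- The structure theorem for finite sharply 2-transitive groups: the fixed-point-free elements
together with the identity form a regular normal elementary abelian subgroup. -/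
theorem exists_kernel [Finite G] [Finite α] [Nontrivial α] (S : SharpTwo G α) :
    ∃ (N : Subgroup G) (p j : ℕ), p.Prime ∧ 1 ≤ j ∧ Nat.card α = p ^ j ∧ N.Normal ∧
      Nat.card N = p ^ j ∧ N.index = p ^ j - 1 ∧
      (∀ x ∈ N, ∀ y ∈ N, x * y = y * x) ∧ (∀ x ∈ N, x ^ p = 1) ∧
      (∀ g : G, g ∈ N ↔ g = 1 ∨ ∀ a : α, g • a ≠ a) ∧ (∀ a b : α, ∃ g ∈ N, g • a = b) := by
  have hn : 1 < Nat.card α := Finite.one_lt_card
  have hne : (fpf G α).Nonempty := by
    rw [← Set.ncard_pos (Set.toFinite _), S.ncard_fpf]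
    omega
  obtain ⟨u, hu⟩ := hne
  set N := Subgroup.centralizer {u} with hN
  have hmem : ∀ g : G, g ∈ N ↔ g = 1 ∨ g ∈ fpf G α := S.mem_centralizer_iff_of_fpf hu
  have hcard : Nat.card N = Nat.card α := (S.centralizer_card_eq hu).1
  have hidx : N.index = Nat.card α - 1 := (S.centralizer_card_eq hu).2
  have hcomm : ∀ x ∈ N, ∀ y ∈ N, x * y = y * x := by
    intro x hx y hy
    rcases (hmem x).mp hx with h1 | h1
    · rw [h1, one_mul, mul_one]
    · have : y ∈ Subgroup.centralizer {x} :=
        (S.mem_centralizer_iff_of_fpf h1 y).mpr ((hmem y).mp hy)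
      exact Subgroup.mem_centralizer_iff.mp this x rfl
  have hnormal : N.Normal := by
    constructor
    intro x hx g
    rw [hmem] at hx ⊢
    rcases hx with h1 | h1
    · left
      rw [h1, mul_one, mul_inv_cancel]
    · right
      exact conj_mem_fpf h1 g
  -- a prime order element
  obtain ⟨p, hp, hpd⟩ := Nat.exists_prime_and_dvd (show Nat.card N ≠ 1 by omega)
  haveI : Fact p.Prime := ⟨hp⟩
  obtain ⟨x, hx⟩ := exists_prime_orderOf_dvd_card' p hpd
  have hx1 : (x : G) ≠ 1 := by
    intro h
    have : orderOf (x : G) = 1 := by rw [h, orderOf_one]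
    rw [Subgroup.orderOf_coe, hx] at this
    exact hp.one_lt.ne' this
  have hxf : (x : G) ∈ fpf G α := ((hmem x).mp x.2).resolve_left hx1
  have hord : ∀ v ∈ fpf G α, orderOf v = p := by
    intro v hv
    obtain ⟨g, hg⟩ := S.conj_of_fpf hxf hv
    rw [hg, ← MulAut.conj_apply, MulEquiv.orderOf_eq, Subgroup.orderOf_coe, hx]
  have hpow : ∀ y ∈ N, y ^ p = 1 := by
    intro y hy
    rcases (hmem y).mp hy with h1 | h1
    · rw [h1, one_pow]
    · rw [← hord y h1]
      exact pow_orderOf_eq_one y
  have hpg : IsPGroup p N := by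
    intro y
    refine ⟨1, ?_⟩
    apply Subtype.ext
    rw [pow_one, Subgroup.coe_pow, Subgroup.coe_one]
    exact hpow y y.2
  obtain ⟨j, hj⟩ := IsPGroup.iff_card.mp hpg
  have hj1 : 1 ≤ j := by
    by_contra h0
    have : j = 0 := by omega
    rw [this, pow_zero] at hj
    omega
  refine ⟨N, p, j, hp, hj1, by rw [← hcard, hj], hnormal, hj, by rw [hidx, ← hj, hcard],
    hcomm, hpow, hmem, ?_⟩
  -- transitivity
  intro a b
  have hinj : Function.Injective (fun c : N => (c : G) • a) := by
    intro c c' h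
    have h' : (c : G) • a = (c' : G) • a := h
    have h1 : ((c'⁻¹ * c : N) : G) • a = a := by
      rw [Subgroup.coe_mul, Subgroup.coe_inv, mul_smul, h', inv_smul_smul]
    have h2 : Commute ((c'⁻¹ * c : N) : G) u :=
      (Subgroup.mem_centralizer_iff.mp (c'⁻¹ * c).2 u rfl).symm
    have h3 := S.eq_one_of_commute_of_fixed hu h2 h1
    have h4 : c'⁻¹ * c = 1 := Subtype.ext h3
    exact (inv_mul_eq_one.mp h4).symm
  have hbij := Function.Injective.bijective_of_nat_card_le hinj (by rw [hcard])
  obtain ⟨c, hc⟩ := hbij.2 b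
  exact ⟨c, c.2, hc⟩

/-- The structure theorem, together with the identification of the Sylow `p`-subgroups. -/
theorem exists_kernel' [Finite G] [Finite α] [Nontrivial α] (S : SharpTwo G α) :
    ∃ (N : Subgroup G) (p j : ℕ), p.Prime ∧ 1 ≤ j ∧ Nat.card α = p ^ j ∧ N.Normal ∧
      Nat.card N = p ^ j ∧ N.index = p ^ j - 1 ∧
      (∀ x ∈ N, ∀ y ∈ N, x * y = y * x) ∧ (∀ x ∈ N, x ^ p = 1) ∧
      (∀ g : G, g ∈ N ↔ g = 1 ∨ ∀ a : α, g • a ≠ a) ∧ (∀ a b : α, ∃ g ∈ N, g • a = b) ∧
      (∀ (_ : Fact p.Prime) (P : Sylow p G), (P : Subgroup G) = N) := by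
  obtain ⟨N, p, j, hp, hj, hcard, hnormal, hNcard, hidx, hcomm, hpow, hmem, htrans⟩ :=
    S.exists_kernel
  refine ⟨N, p, j, hp, hj, hcard, hnormal, hNcard, hidx, hcomm, hpow, hmem, htrans, ?_⟩
  intro hpF P
  have hpg : IsPGroup p N := by
    intro y
    refine ⟨1, ?_⟩
    apply Subtype.ext
    rw [pow_one, Subgroup.coe_pow, Subgroup.coe_one]
    exact hpow y y.2
  have hnd : ¬ p ∣ N.index := by
    intro hd
    rw [hidx] at hd
    have h1 : p ∣ p ^ j := dvd_pow_self p (by omega)
    have h2 : 1 ≤ p ^ j := Nat.one_le_pow _ _ hp.pos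
    have h3 : p ∣ (p ^ j - 1) + 1 := by rw [Nat.sub_add_cancel h2]; exact h1
    have h4 : p ∣ 1 := (Nat.dvd_add_right hd).mp h3
    exact hp.one_lt.ne' (Nat.dvd_one.mp h4)
  have hQ : ((hpg.toSylow hnd : Sylow p G) : Subgroup G) = N := IsPGroup.toSylow_coe hpg hnd
  have hQn : ((hpg.toSylow hnd : Sylow p G) : Subgroup G).Normal := by rw [hQ]; exact hnormal
  haveI := Sylow.unique_of_normal (hpg.toSylow hnd) hQn
  rw [Subsingleton.elim P (hpg.toSylow hnd), hQ]

/-- The elementwise form from Mathlib's `IsMultiplyPretransitive` and trivial stabilizers of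
pairs. -/
theorem of_multiply [MulAction.IsMultiplyPretransitive G α 2]
    (hsharp : ∀ x : Fin 2 ↪ α, MulAction.stabilizer G x = ⊥) : SharpTwo G α := by
  refine ⟨fun a b c d hab hcd =>
    (MulAction.is_two_pretransitive_iff.mp inferInstance) hab hcd, fun g a b hab ha hb => ?_⟩
  have : g ∈ MulAction.stabilizer G (Function.Embedding.embFinTwo hab) := by
    rw [MulAction.mem_stabilizer_iff]
    ext i
    fin_cases i
    · exact ha
    · exact hb
  rw [hsharp] at this
  exact Subgroup.mem_bot.mp this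

end SharpTwo

end Cfsg.Agent.Lib.Helper58
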