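import Mathlib
import Cfsg.Agent.Lib.Helper58.UnipGL
import Cfsg.Agent.Lib.Helper40.UnipotentDegree
import Cfsg.Agent.Lib.Helper26.VChar
import Cfsg.Agent.Lib.Helper12.Subdeg

set_option autoImplicit false

/-!
The partition-indexed class functions of `GL_n(q)` are generalized characters of norm one and
positive degree.
-/

namespace Cfsg.Agent.Lib.Helper58.UnipIrr

open Cfsg.Agent.Lib.Helper58.UnipGL Cfsg.Agent.Lib.Helper26

universe u

variable {F : Type u} [Field F] {n : ℕ}

theorem unip_isGen [Fintype (GL (Fin n) F)] (ν : Fin n → ℕ) :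
    Cfsg.IsGeneralizedCharacter (GL (Fin n) F) (Cfsg.unipotentCharacterGL n F ν) := by
  classical
  have hfun : Cfsg.unipotentCharacterGL n F ν = ∑ κ : Equiv.Perm (Fin n),
      (if ∀ i : Fin n, (κ i).val ≤ ν i + i.val then
        (Equiv.Perm.sign κ : ℤ) • Cfsg.fixedPointCharacter
          (Cfsg.parabolicGL n F fun i => ν i + i.val - (κ i).val)
      else 0) := by
    funext g
    unfold Cfsg.unipotentCharacterGL
    rw [Finset.sum_apply]
    refine Finset.sum_congr rfl (fun κ _ => ?_)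
    split_ifs
    · rw [Pi.smul_apply, zsmul_eq_mul]
    · rfl
  rw [hfun]
  apply isGen_sum
  intro κ _
  split_ifs
  · haveI : Fintype (GL (Fin n) F ⧸ Cfsg.parabolicGL n F fun i => ν i + i.val - (κ i).val) :=
      Fintype.ofFinite _
    exact isGen_zsmul (isGen_of_isCharacter
      (Cfsg.Agent.Lib.Helper12.Subdeg.isCharacter_permChar (G := GL (Fin n) F)
        (Ω := GL (Fin n) F ⧸ Cfsg.parabolicGL n F fun i => ν i + i.val - (κ i).val))) _
  · exact isGen_zero

theorem unip_conj (ν : Fin n → ℕ) (g : GL (Fin n) F) :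
    (starRingEnd ℂ) (Cfsg.unipotentCharacterGL n F ν g) = Cfsg.unipotentCharacterGL n F ν g := by
  unfold Cfsg.unipotentCharacterGL
  rw [map_sum]
  refine Finset.sum_congr rfl (fun κ _ => ?_)
  split_ifs
  · unfold Cfsg.fixedPointCharacter
    rw [map_mul, map_intCast, map_natCast]
  · rw [map_zero]

theorem unip_norm [Fintype (GL (Fin n) F)] (ν : Fin n → ℕ) (hmono : Monotone ν)
    (hsum : ∑ i, ν i = n) :
    Cfsg.classInner (Cfsg.unipotentCharacterGL n F ν) (Cfsg.unipotentCharacterGL n F ν) = 1 := by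
  unfold Cfsg.classInner
  simp only [unip_conj]
  rw [unip_inner ν ν hmono hsum hmono hsum, if_pos rfl]

theorem unip_degree_not_neg [Fintype F] (ν : Fin n → ℕ) (hmono : Monotone ν)
    (hsum : ∑ i, ν i = n) (m : ℕ)
    (hm : Cfsg.unipotentCharacterGL n F ν 1 = -(m : ℂ)) : False := by
  have hq : 1 ≤ Fintype.card F := Fintype.card_pos
  obtain ⟨q, hqdef⟩ : ∃ q, q = Fintype.card F := ⟨_, rfl⟩
  have hdeg := Cfsg.Agent.Lib.Helper40.unipotent_degree (F := F) ν hsum
  rw [← hqdef] at hq hdeg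
  have hQ : StrictMono (fun k : ℕ => ∑ l ∈ Finset.range k, q ^ l) := by
    apply strictMono_nat_of_lt_succ
    intro k
    show ∑ l ∈ Finset.range k, q ^ l < ∑ l ∈ Finset.range (k + 1), q ^ l
    rw [Finset.sum_range_succ]
    have : 0 < q ^ k := Nat.pow_pos hq
    omega
  rw [hm] at hdeg
  have hprod : ∏ i : Fin n, ∏ j ∈ Finset.univ.filter (fun j : Fin n => i < j),
        (((∑ l ∈ Finset.range (ν j + j.val), q ^ l : ℕ) : ℂ) -
          ((∑ l ∈ Finset.range (ν i + i.val), q ^ l : ℕ) : ℂ))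
      = ((∏ i : Fin n, ∏ j ∈ Finset.univ.filter (fun j : Fin n => i < j),
        ((∑ l ∈ Finset.range (ν j + j.val), q ^ l) -
          (∑ l ∈ Finset.range (ν i + i.val), q ^ l)) : ℕ) : ℂ) := by
    rw [Nat.cast_prod]
    refine Finset.prod_congr rfl (fun i _ => ?_)
    rw [Nat.cast_prod]
    refine Finset.prod_congr rfl (fun j hj => ?_)
    rw [Nat.cast_sub]
    exact (hQ (strictMono_shift ν hmono (Finset.mem_filter.1 hj).2)).le
  rw [hprod] at hdeg
  have hb : 0 < (∏ j ∈ Finset.range n, ∑ l ∈ Finset.range (j + 1), q ^ l) *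
      ∏ i : Fin n, ∏ j ∈ Finset.univ.filter (fun j : Fin n => i < j),
        ((∑ l ∈ Finset.range (ν j + j.val), q ^ l) -
          (∑ l ∈ Finset.range (ν i + i.val), q ^ l)) := by
    apply Nat.mul_pos
    · apply Finset.prod_pos
      intro j _
      have h0 := hQ (Nat.succ_pos j)
      simp only [Finset.range_zero, Finset.sum_empty] at h0
      exact h0
    · apply Finset.prod_pos
      intro i _
      apply Finset.prod_pos
      intro j hj
      exact Nat.sub_pos_of_lt (hQ (strictMono_shift ν hmono (Finset.mem_filter.1 hj).2))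
  have hint : -(m : ℤ) * ((q ^ (n * (n - 1) * (n - 2) / 6) *
        ∏ i : Fin n, ∏ j ∈ Finset.range (ν i + i.val), ∑ l ∈ Finset.range (j + 1), q ^ l : ℕ) : ℤ)
      = (((∏ j ∈ Finset.range n, ∑ l ∈ Finset.range (j + 1), q ^ l) *
      ∏ i : Fin n, ∏ j ∈ Finset.univ.filter (fun j : Fin n => i < j),
        ((∑ l ∈ Finset.range (ν j + j.val), q ^ l) -
          (∑ l ∈ Finset.range (ν i + i.val), q ^ l)) : ℕ) : ℤ) := by
    have h1 : (((-(m : ℤ) * ((q ^ (n * (n - 1) * (n - 2) / 6) *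
        ∏ i : Fin n, ∏ j ∈ Finset.range (ν i + i.val), ∑ l ∈ Finset.range (j + 1), q ^ l : ℕ) : ℤ)
        : ℤ)) : ℂ)
      = (((((∏ j ∈ Finset.range n, ∑ l ∈ Finset.range (j + 1), q ^ l) *
      ∏ i : Fin n, ∏ j ∈ Finset.univ.filter (fun j : Fin n => i < j),
        ((∑ l ∈ Finset.range (ν j + j.val), q ^ l) -
          (∑ l ∈ Finset.range (ν i + i.val), q ^ l)) : ℕ) : ℤ)) : ℂ) := by
      push_cast
      push_cast at hdeg
      linear_combination hdeg
    exact_mod_cast h1
  have hb' : (0 : ℤ) < (((∏ j ∈ Finset.range n, ∑ l ∈ Finset.range (j + 1), q ^ l) *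
      ∏ i : Fin n, ∏ j ∈ Finset.univ.filter (fun j : Fin n => i < j),
        ((∑ l ∈ Finset.range (ν j + j.val), q ^ l) -
          (∑ l ∈ Finset.range (ν i + i.val), q ^ l)) : ℕ) : ℤ) := by
    exact_mod_cast hb
  have hnn : (0 : ℤ) ≤ (m : ℤ) * ((q ^ (n * (n - 1) * (n - 2) / 6) *
        ∏ i : Fin n, ∏ j ∈ Finset.range (ν i + i.val), ∑ l ∈ Finset.range (j + 1), q ^ l : ℕ) : ℤ) :=
    mul_nonneg (Int.natCast_nonneg m) (Int.natCast_nonneg _)
  rw [← hint] at hb'
  linarith

/-- the partition-indexed class functions of `GL_n(q)` are irreducible characters -/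
theorem unip_irr [Fintype F] (ν : Fin n → ℕ) (hmono : Monotone ν) (hsum : ∑ i, ν i = n) :
    Cfsg.IsIrrCharacter (GL (Fin n) F) (Cfsg.unipotentCharacterGL n F ν) := by
  classical
  haveI : Fintype (GL (Fin n) F) := Fintype.ofFinite _
  haveI : Fintype (Cfsg.IrrCharacter (GL (Fin n) F)) := Fintype.ofFinite _
  rcases irr_or_neg_of_norm_one (unip_isGen (F := F) ν) (unip_norm ν hmono hsum) with h | h
  · exact h
  · exfalso
    obtain ⟨m, _, hm⟩ := irr_degree h
    rw [Pi.neg_apply] at hm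
    exact unip_degree_not_neg ν hmono hsum m (neg_eq_iff_eq_neg.1 hm)

end Cfsg.Agent.Lib.Helper58.UnipIrr
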