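import Mathlib
import Cfsg.Agent.Lib.Helper58.SLOrbit
import Cfsg.Agent.Lib.Helper58.UnipIrr
import Cfsg.Agent.Lib.Helper40.SLSylow
import Cfsg.Agent.Lib.Helper40.PSLOrders
import Cfsg.Agent.Lib.Helper37.SzChA
import Cfsg.Agent.Lib.Helper77.Degree
import Cfsg.Agent.Lib.Helper80.CharKer
import Cfsg.Agent.Lib.Helper79.ClassMult

set_option autoImplicit false

/-!
The Steinberg character of `GL_n(q)`, `SL_n(q)` and `PSL_n(q)`: the partition-indexed class
function for the partition `(1, …, 1)` has degree `q ^ (n choose 2)`, restricts irreducibly to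
`SL_n(q)`, is trivial on the centre, and has defect zero for the defining characteristic.
-/

namespace Cfsg.Agent.Lib.Helper58.Steinberg

open Finset Cfsg.Agent.Lib.Helper40

theorem qInt_succ_ne_zero (q m : ℕ) : qInt q (m + 1) ≠ 0 := by
  unfold qInt
  have : 0 < ∑ l ∈ range (m + 1), q ^ l := by
    rw [Finset.sum_range_succ']
    simp
  exact_mod_cast this.ne'

/-- the product of `q`-factorials on the left of the degree formula -/
noncomputable def stL (q n : ℕ) : ℂ := ∏ i ∈ range n, ∏ j ∈ range (1 + i), qInt q (j + 1)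

/-- the Vandermonde-type product on the right of the degree formula -/
noncomputable def stD (q n : ℕ) : ℂ :=
  ∏ i ∈ range n, ∏ j ∈ range n, (if i < j then qInt q (1 + j) - qInt q (1 + i) else 1)

theorem stD_succ (q n : ℕ) :
    stD q (n + 1) = stD q n * ∏ i ∈ range n, (qInt q (1 + n) - qInt q (1 + i)) := by
  unfold stD
  rw [Finset.prod_range_succ]
  have h1 : ∏ j ∈ range (n + 1), (if n < j then qInt q (1 + j) - qInt q (1 + n) else 1) = 1 := by
    apply Finset.prod_eq_one
    intro j hj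
    rw [if_neg]
    have := Finset.mem_range.mp hj
    omega
  rw [h1, mul_one, ← Finset.prod_mul_distrib]
  refine Finset.prod_congr rfl (fun i hi => ?_)
  rw [Finset.prod_range_succ, if_pos (Finset.mem_range.mp hi)]

theorem prod_last (q n : ℕ) :
    ∏ i ∈ range n, (qInt q (1 + n) - qInt q (1 + i)) =
      (q : ℂ) ^ ((n + 1).choose 2) * ∏ i ∈ range n, qInt q (i + 1) := by
  have h1 : ∀ i ∈ range n,
      qInt q (1 + n) - qInt q (1 + i) = (q : ℂ) ^ (1 + i) * qInt q (n - 1 - i + 1) := by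
    intro i hi
    have hi' := Finset.mem_range.mp hi
    rw [← qInt_sub q (1 + n) (1 + i) (by omega)]
    congr 2
    omega
  rw [Finset.prod_congr rfl h1, Finset.prod_mul_distrib, Finset.prod_pow_eq_pow_sum,
    Finset.prod_range_reflect (fun j => qInt q (j + 1)) n]
  congr 2
  rw [Nat.choose_two_right, ← Finset.sum_range_id (n + 1), Finset.sum_range_succ']
  simp [add_comm]

theorem st_identity (q n : ℕ) :
    (∏ j ∈ range n, qInt q (j + 1)) * stD q n =
      (q : ℂ) ^ (n.choose 2 + ∑ j ∈ range n, j.choose 2) * stL q n := by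
  induction n with
  | zero => simp [stD, stL]
  | succ n ih =>
    rw [stD_succ, prod_last]
    have hL : stL q (n + 1) = stL q n * ∏ j ∈ range (1 + n), qInt q (j + 1) := by
      unfold stL
      rw [Finset.prod_range_succ]
    rw [hL, Finset.prod_range_succ, Finset.sum_range_succ]
    have h2 : ∏ j ∈ range (1 + n), qInt q (j + 1) =
        (∏ j ∈ range n, qInt q (j + 1)) * qInt q (n + 1) := by
      rw [add_comm 1 n, Finset.prod_range_succ]
    rw [h2]
    have hexp : (n + 1).choose 2 + (∑ j ∈ range n, j.choose 2 + n.choose 2) =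
        (n.choose 2 + ∑ j ∈ range n, j.choose 2) + (n + 1).choose 2 := by ring
    rw [hexp, pow_add]
    linear_combination
      (qInt q (n + 1) * (q : ℂ) ^ ((n + 1).choose 2) * ∏ j ∈ range n, qInt q (j + 1)) * ih

/-- the degree of the Steinberg character of `GL_n(q)` -/
theorem st_degree {F : Type*} [Field F] [Fintype F] (n : ℕ) :
    Cfsg.unipotentCharacterGL n F (fun _ => 1) 1 =
      ((Fintype.card F : ℕ) : ℂ) ^ (n.choose 2) := by
  classical
  have hdeg := unipotent_degree (F := F) (n := n) (fun _ => 1) (by simp)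
  obtain ⟨q, hq⟩ : ∃ q, q = Fintype.card F := ⟨_, rfl⟩
  rw [← hq] at hdeg ⊢
  have hq0 : (q : ℂ) ≠ 0 := by
    have : 0 < q := by rw [hq]; exact Fintype.card_pos
    exact_mod_cast this.ne'
  have e1 : ∏ i : Fin n, ∏ j ∈ range (1 + i.val),
      ((∑ l ∈ range (j + 1), q ^ l : ℕ) : ℂ) = stL q n := by
    unfold stL
    rw [← Fin.prod_univ_eq_prod_range (fun i => ∏ j ∈ range (1 + i), qInt q (j + 1)) n]
    rfl
  have e2 : ∏ i : Fin n, ∏ j ∈ univ.filter (fun j : Fin n => i < j),
      (((∑ l ∈ range (1 + j.val), q ^ l : ℕ) : ℂ) - ((∑ l ∈ range (1 + i.val), q ^ l : ℕ) : ℂ))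
      = stD q n := by
    unfold stD
    rw [← Fin.prod_univ_eq_prod_range
      (fun i => ∏ j ∈ range n, if i < j then qInt q (1 + j) - qInt q (1 + i) else 1) n]
    refine Finset.prod_congr rfl (fun i _ => ?_)
    rw [Finset.prod_filter, ← Fin.prod_univ_eq_prod_range
      (fun j => if i.val < j then qInt q (1 + j) - qInt q (1 + i.val) else 1) n]
    refine Finset.prod_congr rfl (fun j _ => ?_)
    simp only [Fin.lt_def]
    rfl
  have e3 : ∏ j ∈ range n, ((∑ l ∈ range (j + 1), q ^ l : ℕ) : ℂ) =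
      ∏ j ∈ range n, qInt q (j + 1) := rfl
  rw [e1, e2, e3, st_identity, sum_choose_two, pow_add] at hdeg
  have hL : stL q n ≠ 0 := by
    unfold stL
    refine Finset.prod_ne_zero_iff.mpr (fun i _ => Finset.prod_ne_zero_iff.mpr (fun j _ => ?_))
    exact qInt_succ_ne_zero q j
  have hne : (q : ℂ) ^ (n * (n - 1) * (n - 2) / 6) * stL q n ≠ 0 :=
    mul_ne_zero (pow_ne_zero _ hq0) hL
  apply mul_right_cancel₀ hne
  linear_combination hdeg

/-- the `p`-part of `|GL_n(q)|` in the defining characteristic -/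
theorem card_GL_ppart {F : Type*} [Field F] [Fintype F] (p : ℕ) [Fact p.Prime] [CharP F p]
    (n : ℕ) : ∃ m, Nat.card (GL (Fin n) F) = Fintype.card F ^ (n.choose 2) * m ∧ ¬ p ∣ m := by
  classical
  have hp : p.Prime := Fact.out
  have hpq : p ∣ Fintype.card F :=
    (CharP.cast_eq_zero_iff F p (Fintype.card F)).mp (Nat.cast_card_eq_zero F)
  obtain ⟨q, hq⟩ : ∃ q, q = Fintype.card F := ⟨_, rfl⟩
  rw [Matrix.card_GL_field, ← hq]
  rw [← hq] at hpq
  have hq1 : 1 ≤ q := by rw [hq]; exact Fintype.card_pos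
  refine ⟨∏ i : Fin n, (q ^ (n - (i : ℕ)) - 1), ?_, ?_⟩
  · have h1 : ∀ i : Fin n, q ^ n - q ^ (i : ℕ) = q ^ (i : ℕ) * (q ^ (n - (i : ℕ)) - 1) := by
      intro i
      have hi := i.2
      rw [Nat.mul_sub, mul_one, ← pow_add]
      congr 2
      omega
    rw [Finset.prod_congr rfl (fun i _ => h1 i), Finset.prod_mul_distrib,
      Finset.prod_pow_eq_pow_sum]
    congr 2
    rw [Fin.sum_univ_eq_sum_range (fun i => i) n, Finset.sum_range_id, Nat.choose_two_right]
  · intro hdvd
    obtain ⟨i, _, hi⟩ := (Prime.dvd_finsetProd_iff (Nat.prime_iff.mp hp) _).mp hdvd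
    have hi2 := i.2
    have h2 : p ∣ q ^ (n - (i : ℕ)) := dvd_pow hpq (by omega)
    have h3 : 1 ≤ q ^ (n - (i : ℕ)) := Nat.one_le_pow _ _ hq1
    have h4 : p ∣ 1 := by
      have := (Nat.dvd_sub h2 hi)
      rwa [Nat.sub_sub_self h3] at this
    exact hp.one_lt.ne' (Nat.dvd_one.mp h4)

/-- the order of a Sylow subgroup from a factorization of the group order -/
theorem card_sylow_of_mul {G : Type*} [Group G] [Finite G] {p : ℕ} [Fact p.Prime] (P : Sylow p G)
    (Q a b f : ℕ) (hQ : Q = p ^ f) (h : Nat.card G * a = Q * b) (ha : ¬ p ∣ a) (hb : ¬ p ∣ b) :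
    Nat.card P = Q := by
  have hp : p.Prime := Fact.out
  rw [Sylow.card_eq_multiplicity, hQ]
  congr 1
  have ha0 : a ≠ 0 := fun h0 => ha (h0 ▸ dvd_zero p)
  have hb0 : b ≠ 0 := fun h0 => hb (h0 ▸ dvd_zero p)
  have hG0 : Nat.card G ≠ 0 := Nat.card_pos.ne'
  have h1 : (Nat.card G * a).factorization p = (Q * b).factorization p := by rw [h]
  rw [Nat.factorization_mul hG0 ha0, hQ, Nat.factorization_mul (pow_ne_zero _ hp.ne_zero) hb0,
    Finsupp.add_apply, Finsupp.add_apply, Nat.factorization_eq_zero_of_not_dvd ha,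
    Nat.factorization_eq_zero_of_not_dvd hb, Nat.Prime.factorization_pow hp] at h1
  simpa using h1

/-- a `p`-modular maximal ideal of the ring of algebraic integers exists -/
theorem exists_isPModular (p : ℕ) (hp : p.Prime) :
    ∃ M : Ideal Cfsg.AlgInt, Cfsg.IsPModular p M := by
  have hne : Ideal.span {((p : ℕ) : Cfsg.AlgInt)} ≠ ⊤ := by
    rw [Ne, Ideal.span_singleton_eq_top]
    intro hu
    obtain ⟨v, hv⟩ := hu.exists_right_inv
    have h1 : ((1 : ℕ) : ℂ) = ((p : ℕ) : ℂ) * (v : ℂ) := by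
      have := congrArg (integralClosure ℤ ℂ).val hv
      rw [map_mul, map_natCast, map_one] at this
      rw [Nat.cast_one]
      exact this.symm
    have h2 := Cfsg.Agent.Lib.Helper79.nat_dvd_of_eq_mul_isIntegral 1 p hp.ne_zero (v : ℂ) v.2 h1
    have := Nat.le_of_dvd Nat.one_pos h2
    have := hp.one_lt
    omega
  obtain ⟨M, hM, hle⟩ := Ideal.exists_le_maximal _ hne
  exact ⟨M, hp, hM, hle (Ideal.subset_span rfl)⟩

/-- an irreducible character whose degree is the full `p`-part of the group order vanishes on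
the `p`-singular elements -/
theorem irr_vanish_of_defect_zero {G : Type*} [Group G] [Fintype G] {p : ℕ} [Fact p.Prime]
    {χ : G → ℂ} (hχ : Cfsg.IsIrrCharacter G χ) (Q a m : ℕ) (hdeg : χ 1 = (Q : ℂ))
    (hcard : Nat.card G * a = Q * m) (hm : ¬ p ∣ m) {g : G} (hg : p ∣ orderOf g) : χ g = 0 := by
  obtain ⟨M, hM⟩ := exists_isPModular p Fact.out
  obtain ⟨h1, hpos, hdvd⟩ := Cfsg.Agent.Lib.Helper79.irr_charDegree hχ
  have hQ : Cfsg.charDegree χ = Q := by exact_mod_cast (h1.symm.trans hdeg)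
  rw [hQ] at hpos hdvd
  obtain ⟨k, hk⟩ := hdvd
  have hdz : ¬ p ∣ Nat.card G / Cfsg.charDegree χ := by
    rw [hQ, hk, Nat.mul_div_cancel_left k hpos]
    intro hpk
    apply hm
    have h2 : Q * (k * a) = Q * m := by rw [← hcard, hk]; ring
    have h3 : k * a = m := Nat.eq_of_mul_eq_mul_left hpos h2
    rw [← h3]
    exact Dvd.dvd.mul_right hpk a
  have hb := Cfsg.Agent.Lib.Helper77.blockOf_eq_singleton_of_defect_zero hM ⟨χ, hχ⟩ hdz
  exact Cfsg.Agent.Lib.Helper77.irr_eq_zero_of_singular_of_blockOf_eq hM ⟨χ, hχ⟩ hb hg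

/-- a central element of a subgroup fixes every coset -/
theorem fpc_central {G : Type*} [Group G] (H : Subgroup G) (g : G) (hg : g ∈ H)
    (hc : ∀ x : G, g * x = x * g) :
    Cfsg.fixedPointCharacter H g = Cfsg.fixedPointCharacter H 1 := by
  unfold Cfsg.fixedPointCharacter
  have : MulAction.fixedBy (G ⧸ H) g = MulAction.fixedBy (G ⧸ H) (1 : G) := by
    ext x
    simp only [MulAction.mem_fixedBy, one_smul]
    refine ⟨fun _ => trivial, fun _ => ?_⟩
    induction x using QuotientGroup.induction_on with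
    | H x =>
      show ((g * x : G) : G ⧸ H) = (x : G ⧸ H)
      rw [hc x]
      exact QuotientGroup.eq.mpr (by simp [hg])
  rw [this]

/-- the Steinberg character of `PSL_n(q)` -/
theorem steinberg_psl {F : Type*} [Field F] [Fintype F] (p : ℕ) [Fact p.Prime] [CharP F p]
    (n : ℕ) (hn : 2 ≤ n) :
    ∃ χ : Matrix.ProjectiveSpecialLinearGroup (Fin n) F → ℂ,
      Cfsg.IsIrrCharacter (Matrix.ProjectiveSpecialLinearGroup (Fin n) F) χ ∧
      ∀ P : Sylow p (Matrix.ProjectiveSpecialLinearGroup (Fin n) F),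
        χ 1 = Nat.card P ∧
        ∀ x : Matrix.ProjectiveSpecialLinearGroup (Fin n) F, x ∈ P → x ≠ 1 → χ x = 0 := by
  classical
  have hp : p.Prime := Fact.out
  have hn0 : 0 < n := by omega
  letI : Fintype (GL (Fin n) F) := Fintype.ofFinite _
  letI : Fintype (Matrix.SpecialLinearGroup (Fin n) F) := Fintype.ofFinite _
  have hmono : Monotone (fun _ : Fin n => 1) := monotone_const
  have hsum : ∑ i : Fin n, (fun _ : Fin n => 1) i = n := by simp
  obtain ⟨χ, hχdef⟩ : ∃ χ : Matrix.SpecialLinearGroup (Fin n) F → ℂ, χ = fun s =>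
    Cfsg.unipotentCharacterGL n F (fun _ => 1) (Matrix.SpecialLinearGroup.toGL s) := ⟨_, rfl⟩
  have hχ : ∀ s, χ s =
      Cfsg.unipotentCharacterGL n F (fun _ => 1) (Matrix.SpecialLinearGroup.toGL s) :=
    fun s => by rw [hχdef]
  have hgen : Cfsg.IsGeneralizedCharacter (Matrix.SpecialLinearGroup (Fin n) F) χ := by
    obtain ⟨a, b, ha, hb, hab⟩ :=
      Cfsg.Agent.Lib.Helper58.UnipIrr.unip_isGen (F := F) (n := n) (fun _ => 1)
    refine ⟨fun s => a (Matrix.SpecialLinearGroup.toGL s),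
      fun s => b (Matrix.SpecialLinearGroup.toGL s),
      Cfsg.Agent.Lib.Helper80.isCharacter_comp Matrix.SpecialLinearGroup.toGL ha,
      Cfsg.Agent.Lib.Helper80.isCharacter_comp Matrix.SpecialLinearGroup.toGL hb, ?_⟩
    funext s
    rw [hχ, hab]
    rfl
  have hnorm : Cfsg.classInner χ χ = 1 := by
    unfold Cfsg.classInner
    simp only [hχ, Cfsg.Agent.Lib.Helper58.UnipIrr.unip_conj]
    have := Cfsg.Agent.Lib.Helper58.SLOrbit.unip_inner_sl (F := F) hn0 (fun _ => 1) (fun _ => 1)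
      hmono hsum hmono hsum
    rw [if_pos rfl] at this
    exact this
  have hdeg : χ 1 = ((Fintype.card F ^ n.choose 2 : ℕ) : ℂ) := by
    rw [hχ, map_one, st_degree]
    push_cast
    rfl
  have hirr : Cfsg.IsIrrCharacter (Matrix.SpecialLinearGroup (Fin n) F) χ :=
    Cfsg.Agent.Lib.Helper37.irr_of_norm_one hgen hnorm _ hdeg (pow_pos Fintype.card_pos _)
  have hcen : ∀ z ∈ Subgroup.center (Matrix.SpecialLinearGroup (Fin n) F), χ z = χ 1 := by
    intro z hz
    rw [Matrix.SpecialLinearGroup.mem_center_iff] at hz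
    obtain ⟨r, hr, hrz⟩ := hz
    have hzmat : ∀ i j, i ≠ j →
        ((Matrix.SpecialLinearGroup.toGL z : GL (Fin n) F) : Matrix (Fin n) (Fin n) F) i j = 0 := by
      intro i j hij
      show (z : Matrix (Fin n) (Fin n) F) i j = 0
      rw [← hrz]
      exact Matrix.diagonal_apply_ne _ hij
    have hcomm : ∀ x : GL (Fin n) F,
        Matrix.SpecialLinearGroup.toGL z * x = x * Matrix.SpecialLinearGroup.toGL z := by
      intro x
      apply Units.ext
      show (z : Matrix (Fin n) (Fin n) F) * (x : Matrix (Fin n) (Fin n) F) =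
        (x : Matrix (Fin n) (Fin n) F) * (z : Matrix (Fin n) (Fin n) F)
      rw [← hrz]
      exact (Matrix.scalar_commute r (fun _ => Commute.all _ _) _).eq
    rw [hχ, hχ, map_one]
    unfold Cfsg.unipotentCharacterGL
    refine Finset.sum_congr rfl (fun κ _ => ?_)
    split_ifs
    · rw [fpc_central _ _ _ hcomm]
      rw [Cfsg.Agent.Lib.Helper58.BruhatGL.parabolicGL_eq]
      exact Cfsg.Agent.Lib.Helper58.SLOrbit.diag_mem_parab _ _ hzmat
    · rfl
  obtain ⟨ψ, hψ, hψv⟩ := Cfsg.Agent.Lib.Helper80.exists_isIrrCharacter_deflate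
    (Subgroup.center (Matrix.SpecialLinearGroup (Fin n) F)) hirr hcen
  refine ⟨ψ, hψ, fun P => ?_⟩
  obtain ⟨m, hGL, hm⟩ := card_GL_ppart (F := F) p n
  have h1 := card_GL_eq_card_SL_mul (F := F) n hn0
  have h2 := card_SL_eq_card_PSL_mul (F := F) n hn0
  obtain ⟨f, -, hf⟩ := FiniteField.card F p
  have hpq : p ∣ Fintype.card F := by
    rw [hf]
    exact dvd_pow_self p f.ne_zero
  have hq2 : 2 ≤ Fintype.card F := Fintype.one_lt_card
  have hq1 : ¬ p ∣ Fintype.card F - 1 := by
    intro h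
    have : p ∣ 1 := by
      have := Nat.dvd_sub hpq h
      rwa [Nat.sub_sub_self (by omega)] at this
    exact hp.one_lt.ne' (Nat.dvd_one.mp this)
  have hr : Nat.card (rootsOfUnity n F) ∣ Fintype.card F - 1 := by
    have := Subgroup.card_subgroup_dvd_card (rootsOfUnity n F)
    rw [Nat.card_units] at this
    rwa [Nat.card_eq_fintype_card (α := F)] at this
  have ha : ¬ p ∣ Nat.card (rootsOfUnity n F) * (Fintype.card F - 1) := by
    intro h
    rcases (Nat.Prime.dvd_mul hp).mp h with h | h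
    · exact hq1 (h.trans hr)
    · exact hq1 h
  have hcard : Nat.card (Matrix.ProjectiveSpecialLinearGroup (Fin n) F) *
      (Nat.card (rootsOfUnity n F) * (Fintype.card F - 1)) =
        Fintype.card F ^ (n.choose 2) * m := by
    rw [← hGL, h1, h2, mul_assoc]
  have hψ1 : ψ 1 = ((Fintype.card F ^ n.choose 2 : ℕ) : ℂ) := by
    rw [← hdeg]
    exact hψv 1
  have hP : Nat.card P = Fintype.card F ^ (n.choose 2) :=
    card_sylow_of_mul P _ _ m ((f : ℕ) * n.choose 2) (by rw [hf, pow_mul]) hcard ha hm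
  refine ⟨by rw [hψ1, hP], fun x hx hx1 => ?_⟩
  letI : Fintype (Matrix.ProjectiveSpecialLinearGroup (Fin n) F) := Fintype.ofFinite _
  apply irr_vanish_of_defect_zero (p := p) hψ _ _ m hψ1 hcard hm
  obtain ⟨k, hk⟩ := (IsPGroup.iff_orderOf.mp P.isPGroup') ⟨x, hx⟩
  rw [Subgroup.orderOf_mk] at hk
  rw [hk]
  apply dvd_pow_self
  rintro rfl
  rw [pow_zero, orderOf_eq_one_iff] at hk
  exact hx1 hk

end Cfsg.Agent.Lib.Helper58.Steinberg
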